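import Groth.Agent.StrictSSLib.NodeFibre
import Groth.Agent.CurveDVR.Stalk
import Groth.Agent.RegLoc.Basic
import Groth.Agent.S2260
import Groth.Agent.S2285
import Mathlib.RingTheory.Ideal.Quotient.Operations

/-!
# The irreducible components of a strictly semistable curve over a field are smooth
-/

set_option autoImplicit false
set_option linter.style.haveILetI false
set_option maxSynthPendingDepth 4

universe u

open CategoryTheory CategoryTheory.Limits AlgebraicGeometry Topology TopologicalSpace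

noncomputable section

namespace Groth.Agent.StrictSSLib

variable {k : Type u} [Field k]

theorem isDomain_stalk_of_smooth {X : Scheme.{u}} (g : X ⟶ Spec (CommRingCat.of k)) [Smooth g] (x : X) :
    IsDomain (X.presheaf.stalk x) := by
  haveI := CurveDVR.isRegularLocalRing_stalk g x
  exact RegLoc.isDomain _

theorem isReduced_of_smooth_field {X : Scheme.{u}} (g : X ⟶ Spec (CommRingCat.of k)) [Smooth g] : IsReduced X :=
  @isReduced_of_isReduced_stalk X fun x => by
    haveI := isDomain_stalk_of_smooth g x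
    infer_instance

/-- A scheme smooth over a field is locally irreducible. -/
theorem exists_irreducible_nhd_of_smooth {X : Scheme.{u}} (g : X ⟶ Spec (CommRingCat.of k)) [Smooth g] (x : X) :
    ∃ O : X.Opens, x ∈ O ∧ IsIrreducible (O : Set X) := by
  haveI := isDomain_stalk_of_smooth g x
  haveI : IsLocallyNoetherian X := LocallyOfFiniteType.isLocallyNoetherian g
  obtain ⟨O, hx, hO⟩ := S2260.result X x
  refine ⟨O, hx, ?_⟩
  have : IrreducibleSpace (O : Scheme.{u}) := inferInstance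
  exact isIrreducible_iff_irreducibleSpace.2 this

/-- An irreducible set containing a nonempty relatively open part of a component lies in it. -/
theorem subset_of_meets_open {α : Type*} [TopologicalSpace α] {Z A V : Set α} (hZ : Z ∈ irreducibleComponents α)
    (hA : IsIrreducible A) (hV : IsOpen V) (hne : (Z ∩ V).Nonempty) (h : Z ∩ V ⊆ A) : A ⊆ Z := by
  have h1 : Z ⊆ closure A := (subset_closure_inter_of_isPreirreducible_of_isOpen hZ.1.2 hV hne).trans (closure_mono h)
  exact subset_closure.trans (hZ.2 hA.closure h1)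

variable {C : Scheme.{u}} (φ : C ⟶ Spec (CommRingCat.of k)) [LocallyOfFinitePresentation φ]

/-- Locally the component is the image of a scheme smooth over the field. -/
def SmoothPieceAt (Z : Set C) (x : C) : Prop :=
  ∃ (Y : Scheme.{u}) (κ : Y ⟶ C) (V : C.Opens), x ∈ V ∧ IsImmersion κ ∧ IsReduced Y ∧ Smooth (κ ≫ φ) ∧
    Set.range κ = Z ∩ V

theorem smoothPiece_of_mem_smoothLocus {Z : Set C} (hZ : Z ∈ irreducibleComponents (C : Type u)) {x : C}
    (hxZ : x ∈ Z) (hx : x ∈ φ.smoothLocus) : SmoothPieceAt φ Z x := by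
  haveI := smooth_smoothLocus φ
  obtain ⟨O, hxO, hO⟩ := exists_irreducible_nhd_of_smooth (φ.smoothLocus.ι ≫ φ) ⟨x, hx⟩
  let V : C.Opens := φ.smoothLocus.ι ''ᵁ O
  have hxV : x ∈ V := ⟨⟨x, hx⟩, hxO, rfl⟩
  have hV : IsIrreducible (V : Set C) := hO.image _ φ.smoothLocus.ι.continuous.continuousOn
  have hsub : (V : Set C) ⊆ Z := subset_of_meets_open hZ hV V.2 ⟨x, hxZ, hxV⟩ Set.inter_subset_right
  have hVl : V ≤ φ.smoothLocus := by
    rintro _ ⟨o, -, rfl⟩
    exact o.2
  haveI : Smooth (V.ι ≫ φ) := by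
    rw [← C.homOfLE_ι hVl, Category.assoc]
    infer_instance
  refine ⟨V, V.ι, V, hxV, inferInstance, isReduced_of_smooth_field (V.ι ≫ φ), inferInstance, ?_⟩
  rw [Scheme.Opens.range_ι, Set.inter_eq_right.mpr hsub]

section Node

variable {A : CommRingCat.{u}}

/-- One axis of the node. -/
def axisMap (i : Fin 2) : StrictSS.NodeAlg A (0 : A) →ₐ[A] Polynomial A :=
  nodeLift (fun l => if l = i then Polynomial.X else 0) (by fin_cases i <;> simp)

theorem axisMap_comp_aeval (i : Fin 2) :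
    (axisMap (A := A) i).comp (Polynomial.aeval (nx (0 : A) i)) = AlgHom.id A (Polynomial A) :=
  Polynomial.algHom_ext (by simp [axisMap, nodeLift_nx])

theorem axisMap_surjective (i : Fin 2) : Function.Surjective (axisMap (A := A) i) := fun p =>
  ⟨Polynomial.aeval (nx (0 : A) i) p, DFunLike.congr_fun (axisMap_comp_aeval i) p⟩

theorem ker_axisMap_le (i : Fin 2) :
    RingHom.ker (axisMap (A := A) i) ≤ Ideal.span {nx (0 : A) (if i = 0 then 1 else 0)} := by
  intro z hz
  let I : Ideal (StrictSS.NodeAlg A (0 : A)) := Ideal.span {nx (0 : A) (if i = 0 then 1 else 0)}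
  have h : ((Ideal.Quotient.mkₐ A I).comp (Polynomial.aeval (nx (0 : A) i))).comp (axisMap i) =
      Ideal.Quotient.mkₐ A I := node_algHom_ext fun l => by
    simp only [AlgHom.comp_apply, axisMap, nodeLift_nx]
    split_ifs with hl
    · rw [Polynomial.aeval_X, hl]
    · simp only [map_zero]
      refine (Ideal.Quotient.eq_zero_iff_mem.mpr ?_).symm
      rw [show l = if i = 0 then 1 else 0 by fin_cases i <;> fin_cases l <;> simp at hl ⊢]
      exact Ideal.mem_span_singleton_self _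
  have h1 := DFunLike.congr_fun h z
  refine Ideal.Quotient.eq_zero_iff_mem.mp (h1.symm.trans ?_)
  exact (congrArg (((Ideal.Quotient.mkₐ A I).comp (Polynomial.aeval (nx (0 : A) i)))) hz).trans (map_zero _)

/-- One axis of the node, as a morphism. -/
def axisHom (i : Fin 2) : Spec (CommRingCat.of (Polynomial A)) ⟶ Spec (CommRingCat.of (StrictSS.NodeAlg A (0 : A))) :=
  Spec.map (CommRingCat.ofHom (axisMap i).toRingHom)

instance (i : Fin 2) : IsClosedImmersion (axisHom (A := A) i) :=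
  IsClosedImmersion.spec_of_surjective _ (axisMap_surjective i)

theorem axisHom_comp (i : Fin 2) : axisHom (A := A) i ≫ StrictSS.nodeToBase A (0 : A) = StrictSS.lineToBase A := by
  rw [axisHom, ← Spec.map_comp, ← CommRingCat.ofHom_comp]
  congr 2
  exact (axisMap i).comp_algebraMap

theorem mem_range_axisHom (p : Spec (CommRingCat.of (StrictSS.NodeAlg A (0 : A)))) :
    ∃ i, p ∈ Set.range (axisHom (A := A) i) := by
  have h0 : nx (0 : A) 0 * nx (0 : A) 1 ∈ p.asIdeal := by
    exact (congrArg (· ∈ p.asIdeal) ((nx_mul (0 : A)).trans (map_zero _))).mpr (zero_mem _)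
  obtain ⟨i, hi⟩ : ∃ i : Fin 2, nx (0 : A) (if i = 0 then 1 else 0) ∈ p.asIdeal :=
    (p.isPrime.mem_or_mem h0).elim (fun h => ⟨1, h⟩) (fun h => ⟨0, h⟩)
  refine ⟨i, ?_⟩
  have h := range_comap_of_surjective _ (axisMap (A := A) i).toRingHom (axisMap_surjective i)
  refine (Set.ext_iff.mp h p).mpr ?_
  exact (ker_axisMap_le i).trans (Ideal.span_le.mpr (Set.singleton_subset_iff.mpr hi))

end Node

theorem smoothPiece_of_chart {Z : Set C} (hZ : Z ∈ irreducibleComponents (C : Type u)) {x : C} (hxZ : x ∈ Z)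
    {A : CommRingCat.{u}} {j : Spec A ⟶ Spec (CommRingCat.of k)} [IsOpenImmersion j] {U : C.Opens} (hxU : x ∈ U)
    {q : (U : Scheme.{u}) ⟶ Spec A} (hq : U.ι ≫ φ = q ≫ j)
    (f : (U : Scheme.{u}) ⟶ Spec (CommRingCat.of (StrictSS.NodeAlg A (0 : A)))) [Etale f]
    (hf : f ≫ StrictSS.nodeToBase A (0 : A) = q) : SmoothPieceAt φ Z x := by
  let Y : Fin 2 → Scheme.{u} := fun i => pullback f (axisHom (A := A) i)
  let p : ∀ i, Y i ⟶ (U : Scheme.{u}) := fun i => pullback.fst _ _
  have hp : ∀ i, IsClosedImmersion (p i) := fun i => inferInstance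
  have hcov : ∀ c : (U : Scheme.{u}), ∃ i, c ∈ Set.range (p i) := fun c => by
    obtain ⟨i, t, ht⟩ := mem_range_axisHom (f c)
    obtain ⟨z, hz, -⟩ := Scheme.Pullback.exists_preimage_pullback (f := f) (g := axisHom i) c t ht.symm
    exact ⟨i, z, hz⟩
  have hsm : ∀ i, Smooth ((p i ≫ U.ι) ≫ φ) := fun i => by
    haveI := smooth_lineToBase A
    rw [Category.assoc, hq, ← hf, Category.assoc, pullback.condition_assoc, ← Category.assoc (axisHom i),
      axisHom_comp]
    infer_instance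
  -- the component lies on one axis
  let S : Set (U : Scheme.{u}) := U.ι ⁻¹' Z
  have hS : IsIrreducible S := by
    refine ⟨⟨⟨x, hxU⟩, hxZ⟩, ?_⟩
    exact hZ.1.2.preimage U.ι.isOpenEmbedding
  obtain ⟨i, hi⟩ : ∃ i, S ⊆ Set.range (p i) := by
    rcases isPreirreducible_iff_isClosed_union_isClosed.mp hS.2 _ _ (hp 0).base_closed.isClosed_range
      (hp 1).base_closed.isClosed_range (fun c _ => by
        obtain ⟨i, hi⟩ := hcov c
        fin_cases i
        · exact Or.inl hi
        · exact Or.inr hi) with h | h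
    · exact ⟨0, h⟩
    · exact ⟨1, h⟩
  obtain ⟨y, hy⟩ := hi (show (⟨x, hxU⟩ : (U : Scheme.{u})) ∈ S from hxZ)
  haveI := hsm i
  obtain ⟨O, hyO, hO⟩ := exists_irreducible_nhd_of_smooth ((p i ≫ U.ι) ≫ φ) y
  obtain ⟨U', hU', hOU'⟩ := (hp i).base_closed.isInducing.isOpen_iff.mp O.2
  let V : C.Opens := U.ι ''ᵁ ⟨U', hU'⟩
  let κ : (O : Scheme.{u}) ⟶ C := O.ι ≫ p i ≫ U.ι
  have hyU' : p i y ∈ U' := by
    have h1 : y ∈ (p i) ⁻¹' U' := by rw [hOU']; exact hyO
    exact h1
  have hxV : x ∈ V := ⟨⟨x, hxU⟩, hy ▸ hyU', rfl⟩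
  have hκ : Set.range κ = (p i ≫ U.ι) '' (O : Set (Y i)) := by
    rw [Scheme.Hom.comp_base, TopCat.coe_comp, Set.range_comp, Scheme.Opens.range_ι]
  have hA : IsIrreducible (Set.range κ) := hκ ▸ hO.image _ (p i ≫ U.ι).continuous.continuousOn
  have hsub1 : Z ∩ V ⊆ Set.range κ := by
    rintro _ ⟨hzZ, c, hcU', rfl⟩
    obtain ⟨y', hy'⟩ := hi (show c ∈ S from hzZ)
    rw [hκ]
    refine ⟨y', ?_, congrArg U.ι hy'⟩
    exact hOU'.subset (show p i y' ∈ U' by rw [hy']; exact hcU')
  have hsub2 : Set.range κ ⊆ Z := subset_of_meets_open hZ hA V.2 ⟨x, hxZ, hxV⟩ hsub1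
  haveI : IsImmersion (p i ≫ U.ι) := inferInstance
  haveI : Smooth (κ ≫ φ) := by
    show Smooth ((O.ι ≫ p i ≫ U.ι) ≫ φ)
    rw [Category.assoc]
    infer_instance
  refine ⟨O, κ, V, hxV, inferInstance, isReduced_of_smooth_field (κ ≫ φ), inferInstance,
    Set.Subset.antisymm (Set.subset_inter hsub2 ?_) hsub1⟩
  rw [hκ]
  rintro _ ⟨y', hy', rfl⟩
  refine ⟨p i y', ?_, rfl⟩
  rw [SetLike.mem_coe] at hy'
  have h1 : y' ∈ (p i) ⁻¹' U' := by rw [hOU']; exact hy'
  exact h1

/-- Glue the pieces. -/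
theorem exists_smooth_component {Z : Set C} (hZc : IsClosed Z) (h : ∀ x ∈ Z, SmoothPieceAt φ Z x) :
    ∃ (W : Scheme.{u}) (e : W ⟶ C), IsClosedImmersion e ∧ IsReduced W ∧ Set.range e = Z ∧ Smooth (e ≫ φ) := by
  let I := Scheme.IdealSheafData.vanishingIdeal (⟨Z, hZc⟩ : Closeds C)
  have hr : Set.range I.subschemeι = Z := RedSub.range_vanishingIdeal_subschemeι _
  refine ⟨I.subscheme, I.subschemeι, inferInstance, inferInstance, hr, ?_⟩
  haveI : IsZariskiLocalAtSource (@Smooth : MorphismProperty Scheme.{u}) :=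
    HasRingHomProperty.instIsZariskiLocalAtSource (Q := RingHom.Smooth)
  have hpc : ∀ w : I.subscheme, ∃ O : I.subscheme.Opens, w ∈ O ∧ Smooth (O.ι ≫ I.subschemeι ≫ φ) := fun w => by
    obtain ⟨Y, κ, V, hxV, hκ, hY, hsm, hrange⟩ := h (I.subschemeι w) (hr.subset ⟨w, rfl⟩)
    haveI := hκ
    haveI := hY
    refine ⟨I.subschemeι ⁻¹ᵁ V, hxV, ?_⟩
    haveI : IsReduced ((I.subschemeι ⁻¹ᵁ V : I.subscheme.Opens) : Scheme.{u}) :=
      isReduced_of_isOpenImmersion (I.subschemeι ⁻¹ᵁ V).ι
    have hrange' : Set.range ((I.subschemeι ⁻¹ᵁ V).ι ≫ I.subschemeι) = Set.range κ := by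
      rw [hrange, Scheme.Hom.comp_base, TopCat.coe_comp, Set.range_comp, Scheme.Opens.range_ι]
      exact (Set.image_preimage_eq_range_inter).trans (congrArg (· ∩ (V : Set C)) hr)
    obtain ⟨e, he⟩ := RedSub.exists_iso ((I.subschemeι ⁻¹ᵁ V).ι ≫ I.subschemeι) κ hrange'
    haveI := hsm
    rw [← Category.assoc, ← he, Category.assoc]
    infer_instance
  choose O hO hOs using hpc
  exact IsZariskiLocalAtSource.of_iSup_eq_top (P := (@Smooth : MorphismProperty Scheme.{u})) O
    (top_le_iff.mp fun w _ => TopologicalSpace.Opens.mem_iSup.mpr ⟨w, hO w⟩) hOs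

end Groth.Agent.StrictSSLib
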