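import Groth.Agent.StrictSSLib.NodeGeom

/-!
# The local ring of a non-integral node with regular branches over a separably closed field
-/

set_option autoImplicit false
set_option linter.style.haveILetI false

universe u

open CategoryTheory CategoryTheory.Limits AlgebraicGeometry IsLocalRing
open scoped TensorProduct

noncomputable section

namespace Groth.Agent.StrictSSLib

theorem sub_C_mem_maximalIdeal {K : Type u} [Field K] (z : FormalNode K) :
    ∃ c : K, z - Ideal.Quotient.mk _ (MvPowerSeries.C c) ∈ maximalIdeal (FormalNode K) := by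
  obtain ⟨f, rfl⟩ := Ideal.Quotient.mk_surjective z
  refine ⟨MvPowerSeries.constantCoeff f, ?_⟩
  rw [← map_sub, mem_maximalIdeal, mem_nonunits_iff]
  intro h
  haveI : IsLocalHom (Ideal.Quotient.mk (Ideal.span {(MvPowerSeries.X 0 * MvPowerSeries.X 1 : MvPowerSeries (Fin 2) K)})) :=
    .of_surjective _ Ideal.Quotient.mk_surjective
  have h2 := MvPowerSeries.isUnit_iff_constantCoeff.mp (IsUnit.of_map _ _ h)
  simp at h2

/-- Non-integral branched node points over a separably closed field have node data. -/
theorem nodeData_of_ordDoublePt {k K : Type u} [Field k] [Field K] [Algebra k K] [IsPurelyInseparable k K]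
    {C Y : Scheme.{u}} {φ : C ⟶ Spec (CommRingCat.of k)} [LocallyOfFiniteType φ] {P : Y ⟶ C}
    {π : Y ⟶ Spec (CommRingCat.of K)} (hpb : IsPullback P π φ (Spec.map (CommRingCat.ofHom (algebraMap k K))))
    [IsReduced C] (y : Y)
    (hord : letI : Y.Over (Spec (CommRingCat.of K)) := ⟨π⟩
      letI := Curv2.stalkAlgebra K Y y
      Curv2.IsOrdDoublePt K (Y.presheaf.stalk y))
    (hnd : ¬ IsDomain (C.presheaf.stalk (P y)))
    (hpid : ∀ Q ∈ minimalPrimes (C.presheaf.stalk (P y)), IsPrincipalIdealRing (C.presheaf.stalk (P y) ⧸ Q)) :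
    NodeData k (C.presheaf.stalk (P y)) (strMap φ (P y)) := by
  haveI : Flat (Spec.map (CommRingCat.ofHom (algebraMap k K))) := by
    rw [HasRingHomProperty.Spec_iff (P := @Flat)]
    exact RingHom.flat_algebraMap_iff.mpr inferInstance
  haveI : Flat P := MorphismProperty.of_isPullback (P := @Flat) hpb.flip inferInstance
  haveI : LocallyOfFiniteType π := MorphismProperty.of_isPullback (P := @LocallyOfFiniteType) hpb inferInstance
  haveI : IsLocallyNoetherian Y := LocallyOfFiniteType.isLocallyNoetherian π
  letI algB : Algebra K (Y.presheaf.stalk y) := (strMap π y).toAlgebra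
  obtain ⟨e, he⟩ : Curv2.IsOrdDoublePt K (Y.presheaf.stalk y) := hord
  let B := Y.presheaf.stalk y
  let A := C.presheaf.stalk (P y)
  let toN : B →+* FormalNode K := e.toRingHom.comp (algebraMap B (AdicCompletion (maximalIdeal B) B))
  haveI hlB : IsLocalHom toN := by
    haveI : IsLocalHom e.toRingHom := isLocalHom_toRingHom (e : _ ≃+* _)
    exact RingHom.isLocalHom_comp _ _
  have hflat : toN.Flat := RingHom.Flat.comp (RingHom.flat_algebraMap_iff.mpr inferInstance) (RingHom.Flat.of_bijective e.bijective)
  letI algN : Algebra A (FormalNode K) := (toN.comp (P.stalkMap y).hom).toAlgebra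
  haveI : IsLocalHom (algebraMap A (FormalNode K)) := RingHom.isLocalHom_comp _ _
  haveI : Module.Flat A (FormalNode K) := RingHom.flat_algebraMap_iff.mp (RingHom.Flat.comp (Flat.stalkMap P y) hflat)
  haveI : _root_.IsReduced A := inferInstance
  obtain ⟨⟨u, v, huv, hgen, hu, hv⟩, hmN⟩ := exists_uv (K := K) (A := A) hnd hpid
  refine ⟨u, v, huv, hgen, ?_, hu, hv⟩
  letI algBN : Algebra B (FormalNode K) := toN.toAlgebra
  haveI : IsLocalHom (algebraMap B (FormalNode K)) := hlB
  haveI : Module.Flat B (FormalNode K) := RingHom.flat_algebraMap_iff.mp hflat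
  haveI : Module.FaithfullyFlat B (FormalNode K) := Module.FaithfullyFlat.of_flat_of_isLocalHom
  refine residue_surjective_of_fibre hpb y ?_ ?_
  · refine le_antisymm (((local_hom_TFAE (P.stalkMap y).hom).out 0 2 rfl rfl).mp inferInstance) ?_
    rw [← Ideal.comap_map_eq_self_of_faithfullyFlat (B := FormalNode K) ((maximalIdeal A).map (P.stalkMap y).hom)]
    rw [← Ideal.map_le_iff_le_comap, Ideal.map_map]
    exact (((local_hom_TFAE toN).out 0 2 rfl rfl).mp hlB).trans hmN.ge
  · intro r
    obtain ⟨b, rfl⟩ := residue_surjective r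
    obtain ⟨c, hc⟩ := sub_C_mem_maximalIdeal (toN b)
    refine ⟨c, Ideal.Quotient.eq.mpr ?_⟩
    have h1 : toN (algebraMap K B c) = Ideal.Quotient.mk _ (MvPowerSeries.C c) := he c
    rw [← h1, ← map_sub] at hc
    rw [← neg_sub]
    refine neg_mem ?_
    rw [← ((IsLocalRing.local_hom_TFAE toN).out 0 4 rfl rfl).mp hlB]
    exact hc

end Groth.Agent.StrictSSLib
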