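import Groth.Agent.StrictSSLib.NodeEtale
import Groth.Prelude.Def_CurvBase
import Mathlib.FieldTheory.IsAlgClosed.Basic

/-!
# Ordinary double points along flat unramified maps
-/

set_option autoImplicit false
set_option linter.style.haveILetI false

universe u

open IsLocalRing

noncomputable section

namespace Groth.Agent.StrictSSLib

variable {L A : Type u} [CommRing L] [IsLocalRing L] [IsNoetherianRing L] [CommRing A] [IsLocalRing A]
  [IsNoetherianRing A] [Algebra L A] [IsLocalHom (algebraMap L A)]

/-- A flat unramified local map without residue extension induces an isomorphism of completions. -/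
theorem completionHom_bijective [Module.Flat L A]
    (h : (maximalIdeal L).map (algebraMap L A) = maximalIdeal A)
    (hres : Function.Surjective (algebraMap (ResidueField L) (ResidueField A)))
    (χ : AdicCompletion (maximalIdeal L) L →+* AdicCompletion (maximalIdeal A) A)
    (hχ : ∀ l, χ (algebraMap L _ l) = algebraMap A _ (algebraMap L A l)) : Function.Bijective χ := by
  letI := χ.toAlgebra
  haveI : IsScalarTower L (AdicCompletion (maximalIdeal L) L) (AdicCompletion (maximalIdeal A) A) :=
    IsScalarTower.of_algebraMap_eq fun l => by
      rw [IsScalarTower.algebraMap_apply L A (AdicCompletion (maximalIdeal A) A)]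
      exact (hχ l).symm
  haveI : Module.Finite (ResidueField L) (ResidueField A) :=
    Module.Finite.of_surjective (Algebra.linearMap (ResidueField L) (ResidueField A)) hres
  haveI := EtStruct.Completion.isLocalHom L A
  haveI := EtStruct.Completion.finite_of_map_eq L A h
  haveI : Module.Flat (AdicCompletion (maximalIdeal L) L) (AdicCompletion (maximalIdeal A) A) :=
    (EtStruct.Completion.flat_iff L A h).mpr inferInstance
  haveI : Module.FaithfullyFlat (AdicCompletion (maximalIdeal L) L) (AdicCompletion (maximalIdeal A) A) :=
    Module.FaithfullyFlat.of_flat_of_isLocalHom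
  refine ⟨FaithfulSMul.algebraMap_injective (AdicCompletion (maximalIdeal L) L) (AdicCompletion (maximalIdeal A) A), ?_⟩
  show Function.Surjective (Algebra.linearMap (AdicCompletion (maximalIdeal L) L) (AdicCompletion (maximalIdeal A) A))
  rw [← LinearMap.range_eq_top]
  refine IsLocalRing.map_mkQ_eq_top.mp (eq_top_iff.mpr fun y _ => ?_)
  obtain ⟨y, rfl⟩ := Submodule.mkQ_surjective _ y
  obtain ⟨b, hb⟩ := (AdicCompletion.residueField_map_bijective (R := A)).2 (residue (AdicCompletion (maximalIdeal A) A) y)
  obtain ⟨r, rfl⟩ := hres b
  obtain ⟨l, rfl⟩ := residue_surjective r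
  refine ⟨χ (algebraMap L _ l), ⟨_, rfl⟩, ?_⟩
  simp only [Submodule.mkQ_apply, Submodule.Quotient.eq, Ideal.smul_top_eq_map, Submodule.restrictScalars_mem,
    (EtStruct.Completion.map_eq_iff L A).mpr h]
  rw [← residue_eq_zero_iff, map_sub, ← hb, sub_eq_zero, hχ]
  rfl

/-- Ordinary double points are invariant under such maps. -/
theorem isOrdDoublePt_iff_of_unramified {K : Type u} [Field K] [IsAlgClosed K] [Algebra K L] [Algebra K A]
    [IsScalarTower K L A] [Module.Flat L A] [Algebra.EssFiniteType L A] [Algebra.FormallyUnramified L A]
    (hres : Function.Surjective ((residue L).comp (algebraMap K L))) :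
    Curv2.IsOrdDoublePt K L ↔ Curv2.IsOrdDoublePt K A := by
  haveI : Module.Finite K (ResidueField L) := Module.Finite.of_surjective (Algebra.linearMap K (ResidueField L)) hres
  haveI : Module.Finite K (ResidueField A) := Module.Finite.trans (ResidueField L) (ResidueField A)
  have hresA : Function.Surjective (algebraMap (ResidueField L) (ResidueField A)) := fun r => by
    obtain ⟨c, rfl⟩ := (IsAlgClosed.algebraMap_bijective_of_isIntegral (k := K) (K := ResidueField A)).2 r
    exact ⟨algebraMap K (ResidueField L) c, (IsScalarTower.algebraMap_apply K (ResidueField L) (ResidueField A) c).symm⟩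
  obtain ⟨χ, hχ⟩ := exists_completionHom L A
  let eχ := RingEquiv.ofBijective χ (completionHom_bijective Algebra.FormallyUnramified.map_maximalIdeal hresA χ hχ)
  have hc : ∀ c : K, eχ (algebraMap L _ (algebraMap K L c)) = algebraMap A _ (algebraMap K A c) := fun c => by
    rw [IsScalarTower.algebraMap_apply K L A c]
    exact hχ _
  constructor
  · rintro ⟨e, he⟩
    refine ⟨eχ.symm.trans e, fun c => ?_⟩
    rw [RingEquiv.trans_apply, ← hc, RingEquiv.symm_apply_apply, he]
  · rintro ⟨e, he⟩
    refine ⟨eχ.trans e, fun c => ?_⟩
    rw [RingEquiv.trans_apply, hc, he]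

end Groth.Agent.StrictSSLib
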