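import Groth.Agent.StrictSSLib.NodeNotRegular
import Groth.Agent.StrictSSLib.NodeTransport
import Groth.Agent.StrictSSLib.NodeLocal
import Mathlib.RingTheory.AdicCompletion.Algebra
import Mathlib.RingTheory.AdicCompletion.LocalRing

/-!
# Ordinary double points along flat unramified maps with arbitrary residue extension
-/

set_option autoImplicit false
set_option linter.style.haveILetI false

universe u

open IsLocalRing

noncomputable section

namespace Groth.Agent.StrictSSLib

variable {K : Type u} [Field K]

/-- The linear coordinate on an axis. -/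
def axLin (i : Fin 2) (z : FormalNode K) : K := PowerSeries.coeff 1 (nodeAxis i z)

/-- The constant on an axis. -/
def axConst (i : Fin 2) (z : FormalNode K) : K := PowerSeries.constantCoeff (nodeAxis i z)

theorem axConst_eq_zero (i : Fin 2) {z : FormalNode K} (hz : z ∈ maximalIdeal (FormalNode K)) : axConst i z = 0 := by
  by_contra h
  have h1 := one_le_axOrd i hz
  rw [axOrd, PowerSeries.order_zero_of_unit (PowerSeries.isUnit_iff_constantCoeff.mpr (isUnit_iff_ne_zero.mpr h))] at h1
  simp at h1

theorem mem_max_of_axConst (i : Fin 2) {z : FormalNode K} (h : axConst i z = 0) : z ∈ maximalIdeal (FormalNode K) :=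
  (mem_maximalIdeal _).mpr fun hu =>
    (PowerSeries.isUnit_iff_constantCoeff.mp (hu.map (nodeAxis i))).ne_zero h

theorem axLin_mul (i : Fin 2) (r : FormalNode K) {z : FormalNode K} (hz : z ∈ maximalIdeal (FormalNode K)) :
    axLin i (r * z) = axConst i r * axLin i z := by
  rw [axLin, map_mul, PowerSeries.coeff_one_mul]
  have := axConst_eq_zero i hz
  rw [axConst] at this
  rw [this, mul_zero, zero_add]
  exact mul_comm _ _

theorem axLin_add (i : Fin 2) (y z : FormalNode K) : axLin i (y + z) = axLin i y + axLin i z := by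
  rw [axLin, map_add, map_add]; rfl

theorem axLin_gen (i j : Fin 2) : axLin i (gen (K := K) j) = if j = i then 1 else 0 := by
  rw [axLin]
  split_ifs with h
  · subst h; rw [nodeAxis_gen, PowerSeries.coeff_one_X]
  · rw [nodeAxis_gen_ne h, map_zero]

theorem gen_mem (i : Fin 2) : gen (K := K) i ∈ maximalIdeal (FormalNode K) := by
  rw [maximalIdeal_formalNode]
  fin_cases i
  · exact Ideal.subset_span (Or.inl rfl)
  · exact Ideal.subset_span (Or.inr rfl)

theorem le_axOrd_of_mem_pow (i : Fin 2) : ∀ (n : ℕ) {z : FormalNode K}, z ∈ maximalIdeal (FormalNode K) ^ n →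
    (n : ℕ∞) ≤ axOrd i z := by
  intro n
  induction n with
  | zero => intro z _; simp
  | succ n ih =>
    intro z hz
    rw [pow_succ] at hz
    refine Submodule.mul_induction_on hz (fun a ha b hb => ?_) fun a b ha hb => ?_
    · rw [axOrd_mul, Nat.cast_add, Nat.cast_one]
      exact add_le_add (ih ha) (one_le_axOrd i hb)
    · exact le_trans (le_min ha hb) ((PowerSeries.min_order_le_order_add _ _).trans_eq
        (congrArg PowerSeries.order (map_add (nodeAxis i) _ _).symm))

theorem coeff_eq_zero_of_mem_pow (i : Fin 2) {n m : ℕ} (h : m < n) {z : FormalNode K}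
    (hz : z ∈ maximalIdeal (FormalNode K) ^ n) : PowerSeries.coeff m (nodeAxis i z) = 0 :=
  PowerSeries.coeff_of_lt_order m (lt_of_lt_of_le (Nat.cast_lt.mpr h) (le_axOrd_of_mem_pow i n hz))

/-- No power of the maximal ideal of the node is principal modulo the next. -/
theorem node_pow_not_le {n : ℕ} (hn : 1 ≤ n) {z : FormalNode K} (hz : z ∈ maximalIdeal (FormalNode K) ^ n) :
    ¬ maximalIdeal (FormalNode K) ^ n ≤ Ideal.span {z} ⊔ maximalIdeal (FormalNode K) ^ (n + 1) := by
  intro h
  have h1 : maximalIdeal (FormalNode K) ^ n ≤ Ideal.span {z} := by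
    refine Submodule.le_of_le_smul_of_le_jacobson_bot (I := maximalIdeal (FormalNode K)) ?_
      (IsLocalRing.maximalIdeal_le_jacobson _) ?_
    · exact IsNoetherian.noetherian _
    · rw [smul_eq_mul, ← pow_succ']
      exact h
  obtain ⟨w, hw⟩ := Ideal.mem_span_singleton'.mp (h1 (Ideal.pow_mem_pow (gen_mem (0 : Fin 2)) n))
  have hw1 : w ∈ maximalIdeal (FormalNode K) := by
    refine (mem_maximalIdeal _).mpr fun hu => ?_
    obtain ⟨w', hw'⟩ := Ideal.mem_span_singleton'.mp (h1 (Ideal.pow_mem_pow (gen_mem (1 : Fin 2)) n))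
    have e1 : axOrd 1 (w * z) = ⊤ := by
      rw [hw, axOrd, map_pow, nodeAxis_gen_ne (by simp), zero_pow (by omega), PowerSeries.order_zero]
    rw [axOrd_mul, axOrd_unit 1 hu, zero_add] at e1
    have e2 : axOrd 1 (w' * z) = n := by
      rw [hw', axOrd, map_pow, nodeAxis_gen, PowerSeries.order_X_pow]
    rw [axOrd_mul, e1, add_top] at e2
    exact ENat.top_ne_coe n e2
  have e3 : axOrd 0 (w * z) = n := by
    rw [hw, axOrd, map_pow, nodeAxis_gen, PowerSeries.order_X_pow]
  rw [axOrd_mul] at e3
  have h4 := add_le_add (one_le_axOrd 0 hw1) (le_axOrd_of_mem_pow 0 n hz)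
  rw [e3] at h4
  norm_cast at h4
  omega

section

variable {A : Type u} [CommRing A] [IsLocalRing A] [Algebra A (FormalNode K)]
  (hm : (maximalIdeal A).map (algebraMap A (FormalNode K)) = maximalIdeal (FormalNode K))

include hm

theorem map_mem_max {a : A} (ha : a ∈ maximalIdeal A) : algebraMap A (FormalNode K) a ∈ maximalIdeal (FormalNode K) :=
  hm ▸ Ideal.mem_map_of_mem _ ha

theorem pow_not_le_of_map {n : ℕ} (hn : 1 ≤ n) {c : A} (hc : c ∈ maximalIdeal A) :
    ¬ maximalIdeal A ^ n ≤ Ideal.span {c ^ n} ⊔ maximalIdeal A ^ (n + 1) := by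
  intro h
  refine node_pow_not_le (z := algebraMap A (FormalNode K) c ^ n) hn (Ideal.pow_mem_pow (map_mem_max hm hc) n) ?_
  have := Ideal.map_mono (f := algebraMap A (FormalNode K)) h
  rwa [Ideal.map_sup, Ideal.map_span, Set.image_singleton, map_pow, Ideal.map_pow, Ideal.map_pow, hm] at this

theorem exists_gen_pair [IsNoetherianRing A] [Module.Flat A (FormalNode K)] [IsLocalHom (algebraMap A (FormalNode K))] :
    ∃ a ∈ maximalIdeal A, ∃ b ∈ maximalIdeal A,
      axLin 0 (algebraMap A (FormalNode K) a) * axLin 1 (algebraMap A (FormalNode K) b) -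
        axLin 1 (algebraMap A (FormalNode K) a) * axLin 0 (algebraMap A (FormalNode K) b) ≠ 0 := by
  have key : ∀ (α β : K), (∀ a ∈ maximalIdeal A, α * axLin 0 (algebraMap A (FormalNode K) a) +
      β * axLin 1 (algebraMap A (FormalNode K) a) = 0) → α = 0 ∧ β = 0 := by
    intro α β h
    have h' : ∀ z ∈ maximalIdeal (FormalNode K), α * axLin 0 z + β * axLin 1 z = 0 := by
      intro z hz
      rw [← hm, Ideal.map] at hz
      have hz' : z ∈ maximalIdeal (FormalNode K) ∧ α * axLin 0 z + β * axLin 1 z = 0 := by
        induction hz using Submodule.span_induction with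
        | mem x hx =>
          obtain ⟨a, ha, rfl⟩ := hx
          exact ⟨map_mem_max hm ha, h a ha⟩
        | zero => exact ⟨zero_mem _, by simp [axLin]⟩
        | add x y _ _ hx hy =>
          refine ⟨add_mem hx.1 hy.1, ?_⟩
          rw [axLin_add, axLin_add]
          linear_combination hx.2 + hy.2
        | smul r x _ hx =>
          refine ⟨Ideal.mul_mem_left _ r hx.1, ?_⟩
          have hc : axConst 0 r = axConst 1 r := by
            obtain ⟨c, hc⟩ := sub_C_mem_maximalIdeal r
            have : ∀ i, axConst i r = axConst i (Ideal.Quotient.mk _ (MvPowerSeries.C c)) := fun i => by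
              have := axConst_eq_zero i hc
              simp only [axConst, map_sub] at this ⊢
              exact sub_eq_zero.mp this
            rw [this 0, this 1]
            simp [axConst, nodeAxis_mk, axisSeries, ← PowerSeries.coeff_zero_eq_constantCoeff_apply]
          rw [smul_eq_mul, axLin_mul 0 r hx.1, axLin_mul 1 r hx.1, ← hc]
          linear_combination axConst 0 r * hx.2
      exact hz'.2
    have e0 := h' _ (gen_mem 0)
    have e1 := h' _ (gen_mem 1)
    simp [axLin_gen] at e0 e1
    exact ⟨e0, e1⟩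
  by_contra hcon
  push Not at hcon
  obtain ⟨a, ha, ha0⟩ : ∃ a ∈ maximalIdeal A, axLin 0 (algebraMap A (FormalNode K) a) ≠ 0 := by
    by_contra h0
    push Not at h0
    exact one_ne_zero (key 1 0 fun a ha => by rw [h0 a ha]; ring).1
  have := key (-axLin 1 (algebraMap A (FormalNode K) a)) (axLin 0 (algebraMap A (FormalNode K) a))
    fun b hb => by linear_combination hcon a ha b hb
  exact ha0 this.2

theorem span_pair_of_det [IsNoetherianRing A] [Module.Flat A (FormalNode K)] [IsLocalHom (algebraMap A (FormalNode K))]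
    {a b : A} (ha : a ∈ maximalIdeal A) (hb : b ∈ maximalIdeal A)
    (hdet : axLin 0 (algebraMap A (FormalNode K) a) * axLin 1 (algebraMap A (FormalNode K) b) -
        axLin 1 (algebraMap A (FormalNode K) a) * axLin 0 (algebraMap A (FormalNode K) b) ≠ 0) :
    maximalIdeal A = Ideal.span {a, b} := by
  haveI : Module.FaithfullyFlat A (FormalNode K) := Module.FaithfullyFlat.of_flat_of_isLocalHom
  set x := algebraMap A (FormalNode K) a
  set y := algebraMap A (FormalNode K) b
  refine le_antisymm ?_ (Ideal.span_le.mpr (Set.pair_subset ha hb))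
  rw [← Ideal.comap_map_eq_self_of_faithfullyFlat (B := FormalNode K) (Ideal.span {a, b}),
    ← Ideal.map_le_iff_le_comap, hm, Ideal.map_span, Set.image_pair]
  refine Submodule.le_of_le_smul_of_le_jacobson_bot (I := maximalIdeal (FormalNode K)) (IsNoetherian.noetherian _)
    (IsLocalRing.maximalIdeal_le_jacobson _) fun z hz => ?_
  let C : K → FormalNode K := fun c => Ideal.Quotient.mk _ (MvPowerSeries.C c)
  have hC : ∀ i c, axConst i (C c) = c := fun i c => by
    simp [C, axConst, nodeAxis_mk, axisSeries, ← PowerSeries.coeff_zero_eq_constantCoeff_apply]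
  set D := axLin 0 x * axLin 1 y - axLin 1 x * axLin 0 y with hD
  let p := C ((axLin 0 z * axLin 1 y - axLin 1 z * axLin 0 y) / D)
  let q := C ((axLin 0 x * axLin 1 z - axLin 1 x * axLin 0 z) / D)
  have hx := map_mem_max hm ha
  have hy := map_mem_max hm hb
  have hxy : p * x + q * y ∈ Ideal.span {x, y} := Ideal.mem_span_pair.mpr ⟨p, q, rfl⟩
  have hd : z - (p * x + q * y) ∈ maximalIdeal (FormalNode K) := sub_mem hz (add_mem (Ideal.mul_mem_left _ p hx) (Ideal.mul_mem_left _ q hy))
  have hlin : ∀ i, axLin i (z - (p * x + q * y)) = 0 := by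
    intro i
    have e : axLin i z = axLin i (z - (p * x + q * y)) + axLin i (p * x + q * y) := by
      rw [← axLin_add, sub_add_cancel]
    rw [axLin_add, axLin_mul i p hx, axLin_mul i q hy, hC, hC] at e
    have : axLin i z = (axLin 0 z * axLin 1 y - axLin 1 z * axLin 0 y) / D * axLin i x +
        (axLin 0 x * axLin 1 z - axLin 1 x * axLin 0 z) / D * axLin i y := by
      rw [div_mul_eq_mul_div, div_mul_eq_mul_div, ← add_div, eq_div_iff hdet, hD]
      obtain rfl | rfl : i = 0 ∨ i = 1 := by omega
      all_goals ring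
    linear_combination this - e
  rw [maximalIdeal_formalNode] at hd
  obtain ⟨r, s, hrs⟩ := Ideal.mem_span_pair.mp hd
  have e0 : axConst 0 r = 0 := by
    have := hlin 0
    rw [← hrs, axLin_add, axLin_mul 0 r (gen_mem 0), axLin_mul 0 s (gen_mem 1)] at this
    simpa [axLin_gen] using this
  have e1 : axConst 1 s = 0 := by
    have := hlin 1
    rw [← hrs, axLin_add, axLin_mul 1 r (gen_mem 0), axLin_mul 1 s (gen_mem 1)] at this
    simpa [axLin_gen] using this
  rw [show z = (p * x + q * y) + (z - (p * x + q * y)) by ring, ← hrs]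
  refine Submodule.add_mem_sup hxy ?_
  rw [smul_eq_mul]
  exact add_mem (Ideal.mul_mem_mul (mem_max_of_axConst 0 e0) (gen_mem 0))
    (Ideal.mul_mem_mul (mem_max_of_axConst 1 e1) (gen_mem 1))

end

theorem axCoeff_two_mul (i : Fin 2) {y z : FormalNode K} (hy : y ∈ maximalIdeal (FormalNode K))
    (hz : z ∈ maximalIdeal (FormalNode K)) : PowerSeries.coeff 2 (nodeAxis i (y * z)) = axLin i y * axLin i z := by
  classical
  rw [map_mul, PowerSeries.coeff_mul, Finset.sum_eq_single (1, 1)]
  · rfl
  · rintro ⟨p, q⟩ hpq hne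
    rw [Finset.HasAntidiagonal.mem_antidiagonal] at hpq
    simp only [ne_eq, Prod.mk.injEq] at hne hpq ⊢
    rcases (show p = 0 ∨ q = 0 by omega) with rfl | rfl
    · rw [PowerSeries.coeff_zero_eq_constantCoeff_apply, show PowerSeries.constantCoeff (nodeAxis i y) = 0 from
        axConst_eq_zero i hy, zero_mul]
    · rw [PowerSeries.coeff_zero_eq_constantCoeff_apply, show PowerSeries.constantCoeff (nodeAxis i z) = 0 from
        axConst_eq_zero i hz, mul_zero]
  · intro h
    exact absurd (Finset.HasAntidiagonal.mem_antidiagonal.mpr (show 1 + 1 = 2 from rfl)) h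

/-- An element whose square vanishes to order three has no linear part. -/
theorem axLin_eq_zero_of_sq (i : Fin 2) {z : FormalNode K} (hz : z ∈ maximalIdeal (FormalNode K))
    (h : z * z ∈ maximalIdeal (FormalNode K) ^ 3) : axLin i z = 0 := by
  have h2 := coeff_eq_zero_of_mem_pow i (show 2 < 3 by norm_num) h
  rw [axCoeff_two_mul i hz hz] at h2
  exact mul_self_eq_zero.mp h2

/-- An element of the square with no quadratic part is in the cube. -/
theorem mem_pow_three_of_coeff {z : FormalNode K} (hz : z ∈ maximalIdeal (FormalNode K) ^ 2)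
    (h : ∀ i, PowerSeries.coeff 2 (nodeAxis i z) = 0) : z ∈ maximalIdeal (FormalNode K) ^ 3 := by
  have hsq : maximalIdeal (FormalNode K) ^ 2 ≤
      Ideal.span {gen (K := K) 0 * gen 0, gen (K := K) 1 * gen 1} := by
    rw [pow_two, maximalIdeal_formalNode, Ideal.span_mul_span', Ideal.span_le]
    rintro _ ⟨x, hx, y, hy, rfl⟩
    rcases hx with rfl | rfl <;> rcases hy with rfl | rfl
    · exact Ideal.subset_span (Or.inl rfl)
    · simp [gen_mul]
    · simp [gen_mul]
    · exact Ideal.subset_span (Or.inr rfl)
  obtain ⟨r, s, rfl⟩ := Ideal.mem_span_pair.mp (hsq hz)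
  have key : ∀ i j : Fin 2, ∀ w : FormalNode K, PowerSeries.coeff 2 (nodeAxis i (w * (gen j * gen j))) =
      axConst i w * (axLin i (gen (K := K) j) * axLin i (gen (K := K) j)) := by
    intro i j w
    have h2 := axCoeff_two_mul i (Ideal.mul_mem_left _ w (gen_mem j)) (gen_mem j)
    rw [← mul_assoc, h2, axLin_mul i w (gen_mem j), mul_assoc]
  have e0 : axConst 0 r = 0 := by
    have := h 0
    rw [map_add, map_add, key, key] at this
    simpa [axLin_gen] using this
  have e1 : axConst 1 s = 0 := by
    have := h 1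
    rw [map_add, map_add, key, key] at this
    simpa [axLin_gen] using this
  rw [pow_succ', pow_two]
  exact add_mem (Ideal.mul_mem_mul (mem_max_of_axConst 0 e0) (Ideal.mul_mem_mul (gen_mem 0) (gen_mem 0)))
    (Ideal.mul_mem_mul (mem_max_of_axConst 1 e1) (Ideal.mul_mem_mul (gen_mem 1) (gen_mem 1)))

end Groth.Agent.StrictSSLib
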