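import Groth.Agent.StrictSSLib.OdpEtale
import Mathlib.RingTheory.MvPowerSeries.Basic
import Mathlib.FieldTheory.IsAlgClosed.Basic

/-!
# Ordinary double points under conjugation
-/

set_option autoImplicit false
set_option linter.style.haveILetI false

universe u

open CategoryTheory CategoryTheory.Limits AlgebraicGeometry IsLocalRing

noncomputable section

namespace Groth.Agent.StrictSSLib

/-- Transport of ordinary double points along a semilinear isomorphism. -/
theorem isOrdDoublePt_of_semilinear {K K' : Type u} [Field K] [Field K'] {B B' : Type u} [CommRing B] [IsLocalRing B]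
    [IsNoetherianRing B] [CommRing B'] [IsLocalRing B'] [IsNoetherianRing B'] [Algebra K B] [Algebra K' B']
    (σ : K ≃+* K') (e : B ≃+* B') (he : ∀ c, e (algebraMap K B c) = algebraMap K' B' (σ c))
    (h : Curv2.IsOrdDoublePt K B) : Curv2.IsOrdDoublePt K' B' := by
  obtain ⟨ψ, hψ⟩ := h
  letI alg : Algebra B B' := e.toRingHom.toAlgebra
  haveI : IsLocalHom (algebraMap B B') := IsLocalHom.of_surjective _ e.surjective
  haveI : Module.Flat B B' := RingHom.flat_algebraMap_iff.mp (RingHom.Flat.of_bijective e.bijective)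
  obtain ⟨χ, hχ⟩ := exists_completionHom B B'
  have hb : Function.Bijective χ := completionHom_bijective
    (IsLocalRing.map_maximalIdeal_of_surjective (algebraMap B B') e.surjective)
    (fun r => by
      obtain ⟨a, rfl⟩ := residue_surjective r
      obtain ⟨b, rfl⟩ := e.surjective a
      exact ⟨residue B b, rfl⟩) χ hχ
  let eM : MvPowerSeries (Fin 2) K ≃+* MvPowerSeries (Fin 2) K' :=
    RingEquiv.ofBijective (MvPowerSeries.map σ.toRingHom) ⟨fun f g hfg => MvPowerSeries.ext fun n => σ.injective <| by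
        have := congrArg (MvPowerSeries.coeff n) hfg
        simpa using this,
      fun f => ⟨MvPowerSeries.map σ.symm.toRingHom f, MvPowerSeries.ext fun n => by simp⟩⟩
  let eN := Ideal.quotientEquiv (Ideal.span {(MvPowerSeries.X 0 * MvPowerSeries.X 1 : MvPowerSeries (Fin 2) K)})
    (Ideal.span {(MvPowerSeries.X 0 * MvPowerSeries.X 1 : MvPowerSeries (Fin 2) K')}) eM (by
      rw [Ideal.map_span, Set.image_singleton]
      congr 2
      show _ = MvPowerSeries.map σ.toRingHom _
      rw [map_mul, MvPowerSeries.map_X, MvPowerSeries.map_X])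
  refine ⟨(RingEquiv.ofBijective χ hb).symm.trans (ψ.trans eN), fun c => ?_⟩
  have h1 : (RingEquiv.ofBijective χ hb).symm (algebraMap B' _ (algebraMap K' B' c)) =
      algebraMap B (AdicCompletion (maximalIdeal B) B) (algebraMap K B (σ.symm c)) := by
    rw [RingEquiv.symm_apply_eq]
    refine Eq.trans ?_ (hχ _).symm
    congr 1
    show _ = e _
    rw [he, RingEquiv.apply_symm_apply]
  rw [RingEquiv.trans_apply, RingEquiv.trans_apply, h1, hψ]
  show Ideal.Quotient.mk _ (MvPowerSeries.map σ.toRingHom (MvPowerSeries.C (σ.symm c))) = _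
  rw [MvPowerSeries.map_C]
  simp

theorem strMap_comp_SpecMap {K K' : Type u} [Field K] [Field K'] {Y : Scheme.{u}}
    (π : Y ⟶ Spec (CommRingCat.of K')) (σ : K →+* K') (y : Y) :
    strMap (π ≫ Spec.map (CommRingCat.ofHom σ)) y = (strMap π y).comp σ := by
  ext c
  show Y.presheaf.germ ⊤ y trivial ((π ≫ Spec.map (CommRingCat.ofHom σ)).appTop ((Scheme.ΓSpecIso (CommRingCat.of K)).inv c)) =
    Y.presheaf.germ ⊤ y trivial (π.appTop ((Scheme.ΓSpecIso (CommRingCat.of K')).inv (σ c)))
  refine congrArg (Y.presheaf.germ ⊤ y trivial) (congrArg π.appTop ?_)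
  exact (DFunLike.congr_fun (congrArg CommRingCat.Hom.hom (Scheme.ΓSpecIso_inv_naturality (CommRingCat.ofHom σ))) c).symm

/-- Transport along a semilinear isomorphism of schemes. -/
theorem isOdpAt_of_semilinear {K K' : Type u} [Field K] [Field K'] {Y Y' : Scheme.{u}}
    (π : Y ⟶ Spec (CommRingCat.of K)) (π' : Y' ⟶ Spec (CommRingCat.of K')) [LocallyOfFiniteType π]
    [LocallyOfFiniteType π'] (σ : K ≃+* K') (τ : Y' ⟶ Y) [IsOpenImmersion τ]
    (hτ : τ ≫ π = π' ≫ Spec.map (CommRingCat.ofHom σ.toRingHom)) (y : Y') (h : IsOdpAt π (τ y)) : IsOdpAt π' y := by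
  haveI : IsLocallyNoetherian Y := LocallyOfFiniteType.isLocallyNoetherian π
  haveI : IsLocallyNoetherian Y' := LocallyOfFiniteType.isLocallyNoetherian π'
  letI a1 : Algebra K (Y.presheaf.stalk (τ y)) := (strMap π (τ y)).toAlgebra
  letI a2 : Algebra K' (Y'.presheaf.stalk y) := (strMap π' y).toAlgebra
  haveI : IsIso (τ.stalkMap y) := inferInstance
  refine isOrdDoublePt_of_semilinear (K := K) (K' := K') (B := Y.presheaf.stalk (τ y)) (B' := Y'.presheaf.stalk y)
    σ (asIso (τ.stalkMap y)).commRingCatIsoToRingEquiv (fun c => ?_) h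
  have h1 := DFunLike.congr_fun (strMap_comp τ π y) c
  rw [hτ, strMap_comp_SpecMap] at h1
  exact h1.symm

/-- Two embeddings into an algebraic closure are conjugate. -/
theorem exists_conjugate {k L K : Type u} [Field k] [Field L] [Field K] [Algebra k L] [Algebra k K]
    [IsAlgClosed K] [Algebra.IsAlgebraic k K] (ι₁ ι₂ : L →ₐ[k] K) :
    ∃ σ : K ≃ₐ[k] K, ∀ r, σ (ι₂ r) = ι₁ r := by
  let F := ι₂.fieldRange
  let e : L ≃ₐ[k] F := AlgEquiv.ofInjectiveField ι₂
  haveI : Algebra.IsAlgebraic F K := Algebra.IsAlgebraic.tower_top (K := k) F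
  obtain ⟨σ, hσ⟩ := IsAlgClosed.surjective_domRestrict_of_isAlgebraic (K := k) (L := F) (M := K) (E := K)
    (ι₁.comp e.symm.toAlgHom)
  refine ⟨AlgEquiv.ofBijective σ (Algebra.IsAlgebraic.algHom_bijective σ), fun r => ?_⟩
  have h1 := DFunLike.congr_fun hσ (e r)
  exact h1.trans (congrArg ι₁ (e.symm_apply_apply r))

/-- A rational point seen in the residue field of its image. -/
theorem exists_point_hom {k K : Type u} [Field k] [Field K] [Algebra k K] {X Y : Scheme.{u}}
    {φ : X ⟶ Spec (CommRingCat.of k)} {P : Y ⟶ X} {π : Y ⟶ Spec (CommRingCat.of K)}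
    (hpb : IsPullback P π φ (Spec.map (CommRingCat.ofHom (algebraMap k K))))
    (p : Spec (CommRingCat.of K) ⟶ Y) (hp : p ≫ π = 𝟙 _) (x : X) (hx : (p ≫ P) (closedPoint K) = x) :
    ∃ ι : X.residueField x ⟶ CommRingCat.of K, Spec.map ι ≫ X.fromSpecResidueField x = p ≫ P ∧
      ι.hom.comp ((X.residue x).hom.comp (strMap φ x)) = algebraMap k K := by
  subst hx
  refine ⟨_, Scheme.descResidueField_stalkClosedPointTo_fromSpecResidueField K X (p ≫ P), ?_⟩
  have h1 := congrArg (· ≫ φ) (Scheme.descResidueField_stalkClosedPointTo_fromSpecResidueField K X (p ≫ P))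
  simp only [Category.assoc, fromSpecResidueField_comp] at h1
  rw [← Spec.map_comp, hpb.w, ← Category.assoc p π, hp, Category.id_comp] at h1
  exact congrArg CommRingCat.Hom.hom (Spec.map_injective h1)

/-- The points over a point are conjugate, hence simultaneously ordinary double points. -/
theorem isOdpAt_of_over_same {k K : Type u} [Field k] [Field K] [Algebra k K] [IsAlgClosed K]
    [Algebra.IsAlgebraic k K] {X Y : Scheme.{u}} {φ : X ⟶ Spec (CommRingCat.of k)} [LocallyOfFiniteType φ]
    {P : Y ⟶ X} {π : Y ⟶ Spec (CommRingCat.of K)}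
    (hpb : IsPullback P π φ (Spec.map (CommRingCat.ofHom (algebraMap k K)))) {y₁ y₂ : Y}
    (h₁ : IsClosed ({y₁} : Set Y)) (h₂ : IsClosed ({y₂} : Set Y)) (heq : P y₁ = P y₂) (h : IsOdpAt π y₁) :
    IsOdpAt π y₂ := by
  haveI : LocallyOfFiniteType π := MorphismProperty.of_isPullback (P := @LocallyOfFiniteType) hpb inferInstance
  let p₁ := pointOfClosedPoint π y₁ h₁
  let p₂ := pointOfClosedPoint π y₂ h₂
  obtain ⟨ι₁, hι₁, hk₁⟩ := exists_point_hom hpb p₁ (pointOfClosedPoint_comp π y₁ h₁) (P y₁)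
    (show P (p₁ (closedPoint K)) = P y₁ from congrArg P (pointOfClosedPoint_apply π y₁ h₁ _))
  obtain ⟨ι₂, hι₂, hk₂⟩ := exists_point_hom hpb p₂ (pointOfClosedPoint_comp π y₂ h₂) (P y₁)
    (show P (p₂ (closedPoint K)) = P y₁ from (congrArg P (pointOfClosedPoint_apply π y₂ h₂ _)).trans heq.symm)
  letI : Algebra k (X.residueField (P y₁)) := ((X.residue (P y₁)).hom.comp (strMap φ (P y₁))).toAlgebra
  obtain ⟨σ, hσ⟩ := exists_conjugate (k := k) (L := X.residueField (P y₁)) (K := K)
    { ι₂.hom with commutes' := fun c => DFunLike.congr_fun hk₂ c }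
    { ι₁.hom with commutes' := fun c => DFunLike.congr_fun hk₁ c }
  -- conjugation of the base change
  let Sσ : Spec (CommRingCat.of K) ⟶ Spec (CommRingCat.of K) := Spec.map (CommRingCat.ofHom σ.toRingEquiv.toRingHom)
  have hSσ : Sσ ≫ Spec.map (CommRingCat.ofHom (algebraMap k K)) = Spec.map (CommRingCat.ofHom (algebraMap k K)) := by
    rw [← Spec.map_comp]
    congr 1
    ext c
    exact σ.commutes c
  let τ : Y ⟶ Y := hpb.lift P (π ≫ Sσ) (by rw [Category.assoc, hSσ]; exact hpb.w)
  have hτ : IsPullback τ π π Sσ := by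
    refine IsPullback.of_right ?_ (hpb.lift_snd _ _ _) hpb
    rw [hpb.lift_fst, hSσ]
    exact hpb
  haveI : IsIso (CommRingCat.ofHom σ.toRingEquiv.toRingHom) :=
    (ConcreteCategory.isIso_iff_bijective _).mpr σ.bijective
  haveI : IsIso τ := hτ.isIso_fst_of_isIso
  refine isOdpAt_of_semilinear π π σ.toRingEquiv τ (hpb.lift_snd _ _ _) y₂ ?_
  have hq : p₂ ≫ τ = Sσ ≫ p₁ := hpb.hom_ext
    (by
      rw [Category.assoc, hpb.lift_fst, Category.assoc, ← hι₁, ← hι₂, ← Category.assoc Sσ, ← Spec.map_comp]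
      congr 2
      ext r
      exact (hσ r).symm)
    (by
      rw [Category.assoc, hpb.lift_snd, ← Category.assoc, pointOfClosedPoint_comp π y₂ h₂, Category.id_comp,
        Category.assoc, pointOfClosedPoint_comp π y₁ h₁, Category.comp_id])
  have h3 : τ y₂ = y₁ := by
    have h4 : (p₂ ≫ τ) (closedPoint K) = (Sσ ≫ p₁) (closedPoint K) := by rw [hq]
    change τ (p₂ (closedPoint K)) = p₁ (Sσ (closedPoint K)) at h4
    rw [show p₁ (Sσ (closedPoint K)) = y₁ from pointOfClosedPoint_apply π y₁ h₁ _,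
      show p₂ (closedPoint K) = y₂ from pointOfClosedPoint_apply π y₂ h₂ _] at h4
    exact h4
  rw [h3]
  exact h

end Groth.Agent.StrictSSLib

namespace Groth.Agent.StrictSSLib

open CategoryTheory CategoryTheory.Limits AlgebraicGeometry in
/-- The converse transport along a semilinear open immersion. -/
theorem isOdpAt_of_semilinear' {K K' : Type u} [Field K] [Field K'] {Y Y' : Scheme.{u}}
    (π : Y ⟶ Spec (CommRingCat.of K)) (π' : Y' ⟶ Spec (CommRingCat.of K')) [LocallyOfFiniteType π]
    [LocallyOfFiniteType π'] (σ : K ≃+* K') (τ : Y' ⟶ Y) [IsOpenImmersion τ]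
    (hτ : τ ≫ π = π' ≫ Spec.map (CommRingCat.ofHom σ.toRingHom)) (y : Y') (h : IsOdpAt π' y) : IsOdpAt π (τ y) := by
  haveI : IsLocallyNoetherian Y := LocallyOfFiniteType.isLocallyNoetherian π
  haveI : IsLocallyNoetherian Y' := LocallyOfFiniteType.isLocallyNoetherian π'
  letI a1 : Algebra K (Y.presheaf.stalk (τ y)) := (strMap π (τ y)).toAlgebra
  letI a2 : Algebra K' (Y'.presheaf.stalk y) := (strMap π' y).toAlgebra
  haveI : IsIso (τ.stalkMap y) := inferInstance
  let e := (asIso (τ.stalkMap y)).commRingCatIsoToRingEquiv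
  refine isOrdDoublePt_of_semilinear (K := K') (K' := K) (B := Y'.presheaf.stalk y) (B' := Y.presheaf.stalk (τ y))
    σ.symm e.symm (fun c => ?_) h
  rw [RingEquiv.symm_apply_eq]
  have h1 := DFunLike.congr_fun (strMap_comp τ π y) (σ.symm c)
  rw [hτ, strMap_comp_SpecMap] at h1
  simp only [RingHom.comp_apply] at h1
  rw [show σ.toRingHom (σ.symm c) = c from σ.apply_symm_apply c] at h1
  exact h1

end Groth.Agent.StrictSSLib
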