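import Groth.Agent.StrictSSLib.NodalEtale

/-!
# Nodal families and etale maps on the source
-/

set_option autoImplicit false
set_option linter.style.haveILetI false

universe u

open CategoryTheory CategoryTheory.Limits AlgebraicGeometry TopologicalSpace

noncomputable section

namespace Groth.Agent.StrictSSLib

/-- At-worst-nodal in terms of the smooth locus. -/
theorem atWorstNodal_iff {k : Type u} [Field k] {X : Scheme.{u}} (φ : X ⟶ Spec (CommRingCat.of k))
    [LocallyOfFinitePresentation φ] :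
    @Curv2.AtWorstNodal k _ X ⟨φ⟩ ↔
      ∀ x : X, IsClosed ({x} : Set X) → x ∈ φ.smoothLocus ∨ @Curv2.IsNode k _ X ⟨φ⟩ x := by
  constructor
  · intro h x hx
    rcases h x hx with ⟨U, hU, hs⟩ | hn
    · haveI : Smooth (U.ι ≫ φ) := hs
      exact Or.inl (mem_smoothLocus_of_comp U.ι φ ⟨x, hU⟩)
    · exact Or.inr hn
  · intro h x hx
    rcases h x hx with hs | hn
    · exact Or.inl ⟨φ.smoothLocus, hs, smooth_smoothLocus φ⟩
    · exact Or.inr hn

/-- The map on fibres of a map over the base. -/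
def fibreMap {X Y S : Scheme.{u}} (g : Y ⟶ X) (f : X ⟶ S) (s : S) : (g ≫ f).fiber s ⟶ f.fiber s :=
  pullback.lift ((g ≫ f).fiberι s ≫ g) ((g ≫ f).fiberToSpecResidueField s) (by
    rw [Category.assoc]; exact pullback.condition)

theorem fibreMap_comp {X Y S : Scheme.{u}} (g : Y ⟶ X) (f : X ⟶ S) (s : S) :
    fibreMap g f s ≫ f.fiberToSpecResidueField s = (g ≫ f).fiberToSpecResidueField s := pullback.lift_snd _ _ _

theorem fibreMap_ι {X Y S : Scheme.{u}} (g : Y ⟶ X) (f : X ⟶ S) (s : S) :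
    fibreMap g f s ≫ f.fiberι s = (g ≫ f).fiberι s ≫ g := pullback.lift_fst _ _ _

theorem isPullback_fibreMap {X Y S : Scheme.{u}} (g : Y ⟶ X) (f : X ⟶ S) (s : S) :
    IsPullback (fibreMap g f s) ((g ≫ f).fiberι s) (f.fiberι s) g :=
  IsPullback.of_right (h₁₂ := f.fiberToSpecResidueField s) (v₁₃ := S.fromSpecResidueField s) (h₂₂ := f)
    (by rw [fibreMap_comp]; exact (IsPullback.of_hasPullback (g ≫ f) (S.fromSpecResidueField s)).flip)
    (fibreMap_ι g f s) (IsPullback.of_hasPullback f (S.fromSpecResidueField s)).flip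

/-- The condition of a nodal family on one fibre. -/
def IsNodalCurve {k : Type u} [Field k] {X : Scheme.{u}} (φ : X ⟶ Spec (CommRingCat.of k)) : Prop :=
  (∀ Z ∈ irreducibleComponents (X : Type u), topologicalKrullDim Z = 1) ∧ @Curv2.AtWorstNodal k _ X ⟨φ⟩

/-- Nodal curves are stable under etale maps. -/
theorem IsNodalCurve.comp_etale {k : Type u} [Field k] {W X : Scheme.{u}} (g : W ⟶ X) [Etale g]
    {φ : X ⟶ Spec (CommRingCat.of k)} [LocallyOfFiniteType φ] (h : IsNodalCurve φ) : IsNodalCurve (g ≫ φ) := by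
  haveI := lqf_of_etale g
  haveI : LocallyOfFinitePresentation φ := inferInstance
  refine ⟨components_dim_of_etale g φ h.1, (atWorstNodal_iff (g ≫ φ)).mpr fun w hw => ?_⟩
  exact ((atWorstNodal_iff φ).mp h.2 (g w) ((isClosed_singleton_iff_of_lqf g φ w).mp hw)).imp
    (mem_smoothLocus_comp_iff g φ w).mpr (isNode_comp_iff g φ w).mpr

/-- Nodal curves can be tested on an etale cover. -/
theorem IsNodalCurve.of_etale_cover {k : Type u} [Field k] {X : Scheme.{u}} (φ : X ⟶ Spec (CommRingCat.of k))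
    [LocallyOfFiniteType φ] {ι : Type u} {W : ι → Scheme.{u}} (g : ∀ i, W i ⟶ X) [∀ i, Etale (g i)]
    (hsurj : ∀ x : X, ∃ i, x ∈ Set.range (g i)) (h : ∀ i, IsNodalCurve (g i ≫ φ)) : IsNodalCurve φ := by
  haveI : LocallyOfFinitePresentation φ := inferInstance
  refine ⟨components_dim_eq_one_of_points (fun x => ?_) (fun x h0 hx => ?_), (atWorstNodal_iff φ).mpr fun x hx => ?_⟩
  all_goals obtain ⟨i, w, rfl⟩ := hsurj x
  all_goals haveI := lqf_of_etale (g i)
  · rcases isClosed_or_coheight_eq_zero (fun Z hZ => ((h i).1 Z hZ).le) w with hw | hw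
    · exact Or.inl ((isClosed_singleton_iff_of_lqf (g i) φ w).mp hw)
    · exact Or.inr (le_antisymm (hw ▸ AlgSpD.coheight_apply_le (g i) (Flat.generalizingMap (g i)) w) bot_le)
  · exact not_isClosed_of_coheight_eq_zero (h i).1
      (le_antisymm (h0 ▸ AlgSpD.coheight_le_apply (g i) w) bot_le)
      ((isClosed_singleton_iff_of_lqf (g i) φ w).mpr hx)
  · exact ((atWorstNodal_iff (g i ≫ φ)).mp (h i).2 w ((isClosed_singleton_iff_of_lqf (g i) φ w).mpr hx)).imp
      (mem_smoothLocus_comp_iff (g i) φ w).mp (isNode_comp_iff (g i) φ w).mp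

theorem isNodalFamily_iff {X S : Scheme.{u}} (f : X ⟶ S) :
    Curv2.IsNodalFamily f ↔ Flat f ∧ LocallyOfFinitePresentation f ∧
      ∀ s : S, IsNodalCurve (k := S.residueField s) (f.fiberToSpecResidueField s) := Iff.rfl

end Groth.Agent.StrictSSLib
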