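import Groth.Agent.StrictSSLib.NodeFibre
import Mathlib.AlgebraicGeometry.Morphisms.Smooth
import Mathlib.RingTheory.RingHom.StandardSmooth
import Mathlib.RingTheory.Unramified.Field
import Mathlib.FieldTheory.IsSepClosed
import Mathlib.RingTheory.KrullDimension.Zero
import Mathlib.RingTheory.Unramified.LocalStructure
import Mathlib.AlgebraicGeometry.Morphisms.QuasiFinite

/-!
# Smooth points of curves over a separably closed field have line charts
-/

set_option autoImplicit false
set_option linter.style.haveILetI false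

universe u

open CategoryTheory CategoryTheory.Limits AlgebraicGeometry

noncomputable section

namespace Groth.Agent.StrictSSLib

/-- A reduced one-point scheme etale over a separably closed field is that field. -/
theorem isIso_of_etale_point {k : Type u} [Field k] [IsSepClosed k] {D : Scheme.{u}}
    (g : D ⟶ Spec (CommRingCat.of k)) [Etale g] [IsReduced D] [Subsingleton D] [Nonempty D] : IsIso g := by
  haveI : IsAffine D := by
    obtain ⟨V, hV, hd, -⟩ := exists_isAffineOpen_mem_and_subset (X := D) (x := Classical.arbitrary D) (U := ⊤) trivial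
    have hVtop : V = ⊤ := eq_top_iff.mpr fun y _ => Subsingleton.elim (Classical.arbitrary D) y ▸ hd
    subst hVtop
    haveI : IsAffine ((⊤ : D.Opens) : Scheme.{u}) := hV
    exact IsAffine.of_isIso D.topIso.inv
  let R := Γ(D, ⊤)
  haveI : Subsingleton (PrimeSpectrum R) := D.isoSpec.inv.homeomorph.toEquiv.subsingleton
  haveI : Nontrivial R := PrimeSpectrum.nonempty_iff_nontrivial.mp ⟨D.isoSpec.hom (Classical.arbitrary D)⟩
  have hfield : IsField R := PrimeSpectrum.subsingleton_iff_isField_of_isReduced.mp inferInstance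
  letI : Field R := hfield.toField
  let h : CommRingCat.of k ⟶ R := (Scheme.ΓSpecIso (CommRingCat.of k)).inv ≫ g.appTop
  have hg : g = D.isoSpec.hom ≫ Spec.map h := by
    rw [Spec.map_comp, Scheme.isoSpec_hom, ← Category.assoc, ← Scheme.toSpecΓ_naturality, Category.assoc,
      ← SpecMap_ΓSpecIso_hom, ← Spec.map_comp, Iso.inv_hom_id, Spec.map_id, Category.comp_id]
  haveI : Etale (Spec.map h) := by
    have : Spec.map h = D.isoSpec.inv ≫ g := by rw [hg, Iso.inv_hom_id_assoc]
    rw [this]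
    infer_instance
  algebraize [h.hom]
  haveI : Algebra.Etale k R := RingHom.etale_algebraMap.mp ((HasRingHomProperty.Spec_iff (P := @Etale)).mp ‹Etale (Spec.map h)›)
  haveI : Algebra.IsSeparable k R := Algebra.FormallyUnramified.isSeparable k R
  have hbij : Function.Bijective h.hom :=
    ⟨h.hom.injective, IsSepClosed.algebraMap_surjective k R⟩
  haveI : IsIso h := (ConcreteCategory.isIso_iff_bijective h).mpr hbij
  rw [hg]
  infer_instance

theorem lqf_of_etale {A B : Scheme.{u}} (g : A ⟶ B) [h : Etale g] : LocallyQuasiFinite g := ⟨fun {U} hU {V} hV e => by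
  have he := h.etale_appLE hU hV e
  algebraize [(g.appLE U V e).hom]
  exact RingHom.quasiFinite_algebraMap.2 inferInstance⟩

theorem exists_etale_polynomial {k : Type u} [CommRing k] {R : Type u} [CommRing R] {f : k →+* R}
    (hf : f.IsStandardSmoothOfRelativeDimension 1) :
    ∃ g : Polynomial k →+* R, g.comp Polynomial.C = f ∧ g.Etale := by
  obtain ⟨g, hgC, hg⟩ := RingHom.IsStandardSmoothOfRelativeDimension.exists_etale_mvPolynomial hf
  let e := MvPolynomial.uniqueAlgEquiv k (Fin 1)
  refine ⟨g.comp e.symm.toRingEquiv.toRingHom, ?_, ?_⟩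
  · rw [← hgC]
    ext c
    show g (e.symm (Polynomial.C c)) = g (MvPolynomial.C c)
    congr 1
    exact e.symm.commutes c
  · exact RingHom.Etale.respectsIso.2 g e.symm.toRingEquiv hg

theorem etale_translate {k : Type u} [CommRing k] {R : Type u} [CommRing R] {g : Polynomial k →+* R}
    (hg : g.Etale) (c : k) :
    RingHom.Etale (g.comp (Polynomial.aeval (R := k) (Polynomial.X - Polynomial.C c) : Polynomial k →ₐ[k] Polynomial k).toRingHom : Polynomial k →+* R) := by
  let e : Polynomial k ≃ₐ[k] Polynomial k := AlgEquiv.ofAlgHom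
    (Polynomial.aeval (Polynomial.X - Polynomial.C c)) (Polynomial.aeval (Polynomial.X + Polynomial.C c))
    (Polynomial.algHom_ext (by simp)) (Polynomial.algHom_ext (by simp))
  exact RingHom.Etale.respectsIso.2 g e.toRingEquiv hg

/-- A closed smooth point has a line chart, when the marked scheme is finite discrete at it. -/
theorem hasLineChart_of_smooth {k : Type u} [Field k] [IsSepClosed k] {C D : Scheme.{u}}
    (φ : C ⟶ Spec (CommRingCat.of k)) (i : D ⟶ C) [IsClosedImmersion i] [IsReduced D] [Etale (i ≫ φ)]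
    {x : C} (O : C.Opens) (hxO : x ∈ O) [SmoothOfRelativeDimension 1 (O.ι ≫ φ)]
    (hD : IsClosed (Set.range i \ {x})) : StrictSS.HasLineChartAt φ i x := by
  let O' : C.Opens := O ⊓ ⟨(Set.range i \ {x})ᶜ, hD.isOpen_compl⟩
  have hxO' : x ∈ O' := ⟨hxO, fun h => h.2 rfl⟩
  haveI : SmoothOfRelativeDimension 1 (O'.ι ≫ φ) := by
    rw [show O'.ι = C.homOfLE (inf_le_left : O' ≤ O) ≫ O.ι from (C.homOfLE_ι _).symm, Category.assoc]
    have h := smoothOfRelativeDimension_comp (n := 0) (m := 1) (C.homOfLE (inf_le_left : O' ≤ O)) (O.ι ≫ φ)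
    simpa using h
  obtain ⟨T, hT, V, hV, hxV, e, hstd⟩ :=
    SmoothOfRelativeDimension.exists_isStandardSmoothOfRelativeDimension (n := 1) (f := O'.ι ≫ φ) ⟨x, hxO'⟩
  obtain rfl : T = ⊤ := eq_top_iff.mpr fun y _ => by
    have : y = (O'.ι ≫ φ) ⟨x, hxO'⟩ := Subsingleton.elim (α := PrimeSpectrum k) _ _
    rw [this]; exact e hxV
  let U : C.Opens := O'.ι ''ᵁ V
  have hxU : x ∈ U := ⟨_, hxV, rfl⟩
  have hU : IsAffineOpen U := hV.image_of_isOpenImmersion O'.ι
  let q : (U : Scheme.{u}) ⟶ Spec (CommRingCat.of k) := U.ι ≫ φ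
  let str : k →+* Γ((O' : Scheme.{u}), V) :=
    ((O'.ι ≫ φ).appLE ⊤ V e).hom.comp (Scheme.ΓSpecIso (CommRingCat.of k)).inv.hom
  have hstr : str.IsStandardSmoothOfRelativeDimension 1 :=
    RingHom.isStandardSmoothOfRelativeDimension_respectsIso.2 _
      (Scheme.ΓSpecIso (CommRingCat.of k)).symm.commRingCatIsoToRingEquiv hstd
  obtain ⟨g, hgC, hg⟩ := exists_etale_polynomial hstr
  let f₀ : (U : Scheme.{u}) ⟶ Spec (CommRingCat.of (Polynomial k)) :=
    (O'.ι.isoImage V).inv ≫ hV.isoSpec.hom ≫ Spec.map (CommRingCat.ofHom g)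
  have hf₀ : f₀ ≫ StrictSS.lineToBase k = q := by
    have h1 : Spec.map (CommRingCat.ofHom g) ≫ StrictSS.lineToBase k = hV.fromSpec ≫ O'.ι ≫ φ := by
      refine (Spec.map_comp _ _).symm.trans ?_
      rw [← CommRingCat.ofHom_comp, hgC,
        show CommRingCat.ofHom str = (Scheme.ΓSpecIso (CommRingCat.of k)).inv ≫ (O'.ι ≫ φ).appLE ⊤ V e from rfl,
        Spec.map_comp, ← IsAffineOpen.SpecMap_appLE_fromSpec (O'.ι ≫ φ) (isAffineOpen_top _) hV e,
        IsAffineOpen.fromSpec_top, Scheme.isoSpec_Spec_inv]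
    refine (Category.assoc _ _ _).trans ((congrArg ((O'.ι.isoImage V).inv ≫ ·)
      ((Category.assoc _ _ _).trans (congrArg (hV.isoSpec.hom ≫ ·) h1))).trans ?_)
    show (O'.ι.isoImage V).inv ≫ hV.isoSpec.hom ≫ hV.fromSpec ≫ O'.ι ≫ φ = q
    rw [IsAffineOpen.isoSpec_hom, IsAffineOpen.toSpecΓ_fromSpec_assoc]
    show (O'.ι.isoImage V).inv ≫ V.ι ≫ O'.ι ≫ φ = U.ι ≫ φ
    rw [← Scheme.Hom.isoImage_inv_ι, Category.assoc, Category.assoc]
  haveI hSg : Etale (Spec.map (CommRingCat.ofHom g)) := (HasRingHomProperty.Spec_iff (P := @Etale)).mpr hg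
  haveI : Etale f₀ := @Etale.etale_comp _ _ _ _ _ inferInstance (@Etale.etale_comp _ _ _ _ _ inferInstance hSg)
  by_cases hmark : x ∈ Set.range i
  · obtain ⟨d, rfl⟩ := hmark
    let D' : D.Opens := i ⁻¹ᵁ U
    haveI : Nonempty (D' : Scheme.{u}) := ⟨⟨d, hxU⟩⟩
    haveI : Subsingleton (D' : Scheme.{u}) := by
      constructor
      intro a b
      have key : ∀ a : (D' : Scheme.{u}), a.1 = d := fun a => i.isClosedEmbedding.injective <| by
        by_contra hne
        obtain ⟨o, -, ho⟩ := a.2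
        exact (ho ▸ o.2.2 : i a.1 ∈ (Set.range i \ {i d})ᶜ) ⟨⟨_, rfl⟩, hne⟩
      exact Subtype.ext ((key a).trans (key b).symm)
    haveI : IsReduced (D' : Scheme.{u}) := isReduced_of_isOpenImmersion D'.ι
    let fD : (D' : Scheme.{u}) ⟶ Spec (CommRingCat.of k) := D'.ι ≫ i ≫ φ
    haveI : Etale fD := inferInstance
    haveI : IsIso fD := isIso_of_etale_point fD
    obtain ⟨r, hr⟩ := Spec.map_surjective (inv fD ≫ (i ∣_ U) ≫ f₀)
    have hrC : r.hom.comp Polynomial.C = RingHom.id k := by
      have h1 : Spec.map r ≫ StrictSS.lineToBase k = 𝟙 _ := by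
        rw [hr, Category.assoc, Category.assoc, hf₀]
        simp only [q, morphismRestrict_ι_assoc]
        exact IsIso.inv_hom_id fD
      rw [← Spec.map_comp, ← Spec.map_id] at h1
      exact congrArg CommRingCat.Hom.hom (Spec.map_injective h1)
    set c := r.hom Polynomial.X
    let τ : Polynomial k →+* Polynomial k := (Polynomial.aeval (Polynomial.X - Polynomial.C c)).toRingHom
    have hτ : r.hom.comp τ = Polynomial.evalRingHom (0 : k) := by
      refine Polynomial.ringHom_ext (fun a => ?_) ?_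
      · show r.hom (Polynomial.aeval _ (Polynomial.C a)) = _
        rw [Polynomial.aeval_C, ← Polynomial.C_eq_algebraMap]
        exact (DFunLike.congr_fun hrC a).trans (by simp)
      · show r.hom (Polynomial.aeval _ Polynomial.X) = _
        rw [Polynomial.aeval_X, map_sub, show r.hom (Polynomial.C c) = c from DFunLike.congr_fun hrC c]
        simp [c]
    haveI hSτ : Etale (Spec.map (CommRingCat.ofHom (g.comp τ))) :=
      (HasRingHomProperty.Spec_iff (P := @Etale)).mpr (etale_translate hg c)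
    haveI : Etale ((O'.ι.isoImage V).inv ≫ hV.isoSpec.hom ≫ Spec.map (CommRingCat.ofHom (g.comp τ))) :=
      @Etale.etale_comp _ _ _ _ _ inferInstance (@Etale.etale_comp _ _ _ _ _ inferInstance hSτ)
    refine ⟨CommRingCat.of k, 𝟙 _, inferInstance, U, hxU, q, (Category.comp_id _).symm,
      (O'.ι.isoImage V).inv ≫ hV.isoSpec.hom ≫ Spec.map (CommRingCat.ofHom (g.comp τ)), fD,
      inferInstance, ?_, inferInstance, ?_⟩
    · rw [← hf₀]
      simp only [f₀, Category.assoc]
      refine congrArg ((O'.ι.isoImage V).inv ≫ ·) (congrArg (hV.isoSpec.hom ≫ ·) ?_)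
      refine (Spec.map_comp _ _).symm.trans (Eq.trans ?_ (Spec.map_comp _ _))
      congr 1
      ext a
      show g (τ (Polynomial.C a)) = g (Polynomial.C a)
      rw [show τ (Polynomial.C a) = Polynomial.C a from Polynomial.aeval_C _ a]
    · have h2 : Spec.map (CommRingCat.ofHom τ) = Spec.map (CommRingCat.ofHom τ) := rfl
      have h3 : (i ∣_ U) ≫ f₀ = fD ≫ Spec.map r := by rw [hr, IsIso.hom_inv_id_assoc]
      calc fD ≫ StrictSS.lineZero k = fD ≫ Spec.map r ≫ Spec.map (CommRingCat.ofHom τ) := by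
            rw [← Spec.map_comp]
            exact congrArg (fD ≫ Spec.map ·) (CommRingCat.hom_ext hτ.symm)
        _ = _ := by
            rw [← Category.assoc, ← h3]
            simp only [f₀, Category.assoc]
            refine congrArg ((i ∣_ U) ≫ ·) (congrArg ((O'.ι.isoImage V).inv ≫ ·) (congrArg (hV.isoSpec.hom ≫ ·) ?_))
            exact (Spec.map_comp _ _).symm
  · haveI : IsEmpty ((i ⁻¹ᵁ U : D.Opens) : Scheme.{u}) := ⟨fun a => by
      obtain ⟨o, -, ho⟩ := a.2
      exact (ho ▸ o.2.2 : i a.1 ∈ (Set.range i \ {x})ᶜ) ⟨⟨_, rfl⟩, fun h => hmark ⟨a.1, h⟩⟩⟩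
    refine ⟨CommRingCat.of k, 𝟙 _, inferInstance, U, hxU, q, (Category.comp_id _).symm, f₀,
      (i ∣_ U) ≫ q, inferInstance, hf₀, ?_, isInitialOfIsEmpty.hom_ext _ _⟩
    rw [show (i ∣_ U) ≫ q = (i ⁻¹ᵁ U).ι ≫ i ≫ φ from morphismRestrict_ι_assoc _ _ _]
    infer_instance

end Groth.Agent.StrictSSLib
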