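import Groth.Agent.StrictSSLib.OdpEtale
import Groth.Agent.StrictSSLib.SmoothChart

/-!
# Points of the base change to a field over a closed point
-/

set_option autoImplicit false
set_option linter.style.haveILetI false

universe u

open CategoryTheory CategoryTheory.Limits AlgebraicGeometry

noncomputable section

namespace Groth.Agent.StrictSSLib

/-- Over a closed point there are only closed points after a field extension. -/
theorem isClosed_singleton_of_over_closed {k K : Type u} [Field k] [Field K] {X Y : Scheme.{u}}
    {φ : X ⟶ Spec (CommRingCat.of k)} [LocallyOfFiniteType φ] {P : Y ⟶ X} {π : Y ⟶ Spec (CommRingCat.of K)}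
    {b : Spec (CommRingCat.of K) ⟶ Spec (CommRingCat.of k)} (hpb : IsPullback P π φ b) {y : Y}
    (hx : IsClosed ({P y} : Set X)) : IsClosed ({y} : Set Y) := by
  haveI : IsClosedImmersion (X.fromSpecResidueField (P y)) := isClosed_singleton_iff_isClosedImmersion.mp hx
  haveI : IsFinite (X.fromSpecResidueField (P y) ≫ φ) :=
    isFinite_iff_locallyOfFiniteType_of_jacobsonSpace.mpr inferInstance
  let fst := pullback.fst P (X.fromSpecResidueField (P y))
  have h1 := (IsPullback.of_hasPullback P (X.fromSpecResidueField (P y))).flip.paste_vert hpb
  haveI : IsFinite (fst ≫ π) := MorphismProperty.of_isPullback (P := @IsFinite) h1 inferInstance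
  haveI : IsLocallyArtinian (pullback P (X.fromSpecResidueField (P y))) := IsLocallyArtinian.of_locallyQuasiFinite (fst ≫ π)
  obtain ⟨z, hz⟩ : y ∈ Set.range fst := by
    rw [Scheme.Pullback.range_fst, Scheme.range_fromSpecResidueField]
    rfl
  have := fst.isClosedEmbedding.isClosedMap {z} isClosed_singleton
  rwa [Set.image_singleton, hz] at this

end Groth.Agent.StrictSSLib
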