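import Groth.Agent.StrictSSLib.Component
import Groth.Agent.RelDiv.CurveSmooth
import Mathlib.Topology.Homeomorph.Lemmas
import Mathlib.AlgebraicGeometry.Noetherian

/-!
# Local rings of a curve with smooth components
-/

set_option autoImplicit false
set_option linter.style.haveILetI false

universe u

open CategoryTheory CategoryTheory.Limits AlgebraicGeometry Topology TopologicalSpace

noncomputable section

namespace Groth.Agent.StrictSSLib

theorem image_mem_irreducibleComponents {α β : Type*} [TopologicalSpace α] [TopologicalSpace β] (h : α ≃ₜ β)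
    {T : Set α} (hT : T ∈ irreducibleComponents α) : h '' T ∈ irreducibleComponents β := by
  refine ⟨hT.1.image h h.continuous.continuousOn, fun S hS hle => ?_⟩
  have h1 : T ⊆ h.symm '' S := fun t ht => ⟨h t, hle ⟨t, ht, rfl⟩, h.symm_apply_apply t⟩
  intro s hs
  exact ⟨h.symm s, hT.2 (hS.image h.symm h.symm.continuous.continuousOn) h1 ⟨s, hs, rfl⟩, h.apply_symm_apply s⟩

theorem topologicalKrullDim_homeomorph_image {α β : Type*} [TopologicalSpace α] [TopologicalSpace β] (h : α ≃ₜ β)
    (T : Set α) : topologicalKrullDim (h '' T : Set β) = topologicalKrullDim T :=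
  (IsHomeomorph.topologicalKrullDim_eq _ (h.image T).isHomeomorph).symm

variable {k : Type u} [Field k] {C : Scheme.{u}} (φ : C ⟶ Spec (CommRingCat.of k))

/-- The data of a smooth integral model of a component. -/
structure SmoothComp (Z : Set C) where
  W : Scheme.{u}
  e : W ⟶ C
  closed : IsClosedImmersion e
  integral : IsIntegral W
  range : Set.range e = Z
  smooth : Smooth (e ≫ φ)
  dim : topologicalKrullDim W = 1

theorem exists_smoothComp {Z : Set C} (hZ : Z ∈ irreducibleComponents (C : Type u))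
    (hdim : topologicalKrullDim Z = 1)
    (h : ∃ (W : Scheme.{u}) (e : W ⟶ C), IsClosedImmersion e ∧ IsReduced W ∧ Set.range e = Z ∧ Smooth (e ≫ φ)) :
    Nonempty (SmoothComp φ Z) := by
  obtain ⟨W, e, he, hW, hr, hs⟩ := h
  have hemb : IsEmbedding e := e.isClosedEmbedding.isEmbedding
  let h₀ : W ≃ₜ Set.range e := hemb.toHomeomorph
  haveI : IrreducibleSpace W := by
    have h1 : IsIrreducible (Set.range e) := hr ▸ hZ.1
    haveI := isIrreducible_iff_irreducibleSpace.mp h1
    exact (Homeomorph.irreducibleSpace_iff h₀).mpr inferInstance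
  refine ⟨⟨W, e, he, isIntegral_of_irreducibleSpace_of_isReduced W, hr, hs, ?_⟩⟩
  rw [IsHomeomorph.topologicalKrullDim_eq _ h₀.isHomeomorph, ← hdim, hr]

variable [LocallyOfFiniteType φ] [IsReduced C]

/-- Where the local ring is a domain, the curve is smooth of relative dimension one. -/
theorem exists_smooth_nhd_of_isDomain (hC : ∀ Z ∈ irreducibleComponents (C : Type u), Nonempty (SmoothComp φ Z))
    (x : C) [IsDomain (C.presheaf.stalk x)] :
    ∃ O : C.Opens, x ∈ O ∧ SmoothOfRelativeDimension 1 (O.ι ≫ φ) := by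
  haveI : IsLocallyNoetherian C := LocallyOfFiniteType.isLocallyNoetherian φ
  obtain ⟨O, hxO, hO⟩ := S2260.result C x
  have hirr : IsIrreducible (O : Set C) := isIrreducible_iff_irreducibleSpace.2
    (inferInstanceAs (IrreducibleSpace (O : Scheme.{u})))
  obtain ⟨Z, hZ, hOZ⟩ := exists_preirreducible (O : Set C) hirr.2
    |> fun ⟨Z, h1, h2, h3⟩ => (⟨Z, ⟨⟨hirr.nonempty.mono h2, h1⟩, fun S hS hle => (h3 S hS.2 hle).le⟩, h2⟩ :
      ∃ Z, Z ∈ irreducibleComponents (C : Type u) ∧ (O : Set C) ⊆ Z)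
  obtain ⟨⟨W, e, he, hW, hr, hs, hdim⟩⟩ := hC Z hZ
  haveI := he
  haveI := hs
  haveI := hW
  haveI : Surjective (e ∣_ O) := ⟨fun o => by
    obtain ⟨w, hw⟩ := hr.symm.subset (hOZ o.2)
    refine ⟨⟨w, show e w ∈ O from hw.symm ▸ o.2⟩, Subtype.ext ?_⟩
    exact (morphismRestrict_base_coe e O _).trans hw⟩
  haveI : IsReduced (O : Scheme.{u}) := isReduced_of_isOpenImmersion O.ι
  haveI : IsIso (e ∣_ O) := isIso_of_isClosedImmersion_of_surjective _
  refine ⟨O, hxO, ?_⟩
  letI : W.Over (Spec (CommRingCat.of k)) := ⟨e ≫ φ⟩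
  haveI : Smooth (W ↘ Spec (CommRingCat.of k)) := hs
  haveI : SmoothOfRelativeDimension 1 (e ≫ φ) :=
    RelDiv.CurveSmooth.smoothOfRelativeDimension_one (k := k) (X := W) hdim
  have h1 := smoothOfRelativeDimension_comp (n := 0) (m := 1) (inv (e ∣_ O) ≫ (e ⁻¹ᵁ O).ι) (e ≫ φ)
  rw [Category.assoc, ← morphismRestrict_ι_assoc, IsIso.inv_hom_id_assoc] at h1
  simpa using h1

/-- At a closed point the local ring modulo a minimal prime is a principal ideal ring. -/
theorem isPrincipalIdealRing_quot (hC : ∀ Z ∈ irreducibleComponents (C : Type u), Nonempty (SmoothComp φ Z))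
    [QuasiCompact φ] {x : C} (hx : IsClosed ({x} : Set C)) (Q : Ideal (C.presheaf.stalk x))
    (hQ : Q ∈ minimalPrimes (C.presheaf.stalk x)) :
    IsPrincipalIdealRing (C.presheaf.stalk x ⧸ Q) := by
  classical
  haveI : IsLocallyNoetherian C := LocallyOfFiniteType.isLocallyNoetherian φ
  haveI : CompactSpace C := QuasiCompact.compactSpace_of_compactSpace φ
  haveI : IsNoetherian C := { }
  have hfin : (irreducibleComponents (C : Type u)).Finite := NoetherianSpace.finite_irreducibleComponents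
  let S : Set (Set C) := {Z ∈ irreducibleComponents (C : Type u) | x ∈ Z}
  haveI : Finite S := (hfin.subset fun Z hZ => hZ.1).to_subtype
  haveI := Fintype.ofFinite S
  let M : ∀ Z : S, SmoothComp φ Z.1 := fun Z => (hC Z.1 Z.2.1).some
  choose w hw using fun Z : S => (M Z).range.symm.subset Z.2.2
  let f : ∀ Z : S, C.presheaf.stalk x ⟶ (M Z).W.presheaf.stalk (w Z) := fun Z =>
    C.presheaf.stalkSpecializes (Specializes.of_eq (hw Z)) ≫ (M Z).e.stalkMap (w Z)
  have hzero : ∀ a, (∀ Z, f Z a = 0) → a = 0 := by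
    intro a ha
    obtain ⟨V, hxV, s, rfl⟩ := TopCat.Presheaf.exists_germ_eq C.presheaf a
    have hloc : ∀ Z : S, ∃ V' : C.Opens, x ∈ V' ∧ ∀ y ∈ V', y ∈ C.basicOpen s → y ∉ Z.1 := by
      intro Z
      haveI := (M Z).closed
      have hwV : (M Z).e (w Z) ∈ V := by rw [hw Z]; exact hxV
      have h1 : (M Z).W.presheaf.germ ((M Z).e ⁻¹ᵁ V) (w Z) hwV ((M Z).e.app V s) =
          (M Z).W.presheaf.germ ((M Z).e ⁻¹ᵁ V) (w Z) hwV 0 := by
        rw [map_zero, ← Scheme.Hom.germ_stalkMap_apply]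
        refine Eq.trans ?_ (ha Z)
        show _ = (M Z).e.stalkMap (w Z) (C.presheaf.stalkSpecializes _ (C.presheaf.germ V x hxV s))
        rw [TopCat.Presheaf.germ_stalkSpecializes_apply]
      obtain ⟨O, hwO, iO, iO', hO⟩ := (M Z).W.presheaf.germ_eq _ hwV hwV _ _ h1
      obtain ⟨O', hO', hpre⟩ := (M Z).e.isClosedEmbedding.isInducing.isOpen_iff.mp O.2
      have hmem : ∀ t, (M Z).e t ∈ O' ↔ t ∈ O := fun t => by
        have := Set.ext_iff.mp hpre t
        exact this
      refine ⟨⟨O', hO'⟩, hw Z ▸ (hmem (w Z)).mpr hwO, fun y hyV' hys hyZ => ?_⟩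
      obtain ⟨t, rfl⟩ := (M Z).range.symm.subset hyZ
      have ht : t ∈ (M Z).W.basicOpen ((M Z).e.app V s) := by
        rw [← Scheme.preimage_basicOpen]
        exact hys
      have ht2 : t ∈ (M Z).W.basicOpen ((M Z).W.presheaf.map iO.op ((M Z).e.app V s)) := by
        rw [Scheme.basicOpen_res]
        exact ⟨(hmem t).mp hyV', ht⟩
      rw [hO, map_zero, Scheme.basicOpen_zero] at ht2
      exact ht2
    choose V' hxV' hV' using hloc
    let F : Set C := ⋃ Z ∈ {Z ∈ irreducibleComponents (C : Type u) | x ∉ Z}, Z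
    have hF : IsClosed F := (hfin.subset fun Z hZ => hZ.1).isClosed_biUnion fun Z hZ =>
      isClosed_of_mem_irreducibleComponents Z hZ.1
    let V₁ : C.Opens := (V ⊓ Finset.univ.inf V') ⊓ ⟨Fᶜ, hF.isOpen_compl⟩
    have hxF : x ∉ F := fun h => by
      obtain ⟨Z, hZ, hxZ⟩ := Set.mem_iUnion₂.mp h
      exact hZ.2 hxZ
    have hxinf : x ∈ Finset.univ.inf V' := by
      rw [← SetLike.mem_coe, TopologicalSpace.Opens.coe_finset_inf, Finset.inf_set_eq_iInter]
      simp only [Set.mem_iInter]
      exact fun Z _ => hxV' Z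
    have hxV₁ : x ∈ V₁ := ⟨⟨hxV, hxinf⟩, hxF⟩
    have hempty : C.basicOpen (C.presheaf.map (homOfLE (inf_le_left.trans inf_le_left : V₁ ≤ V)).op s) = ⊥ := by
      rw [Scheme.basicOpen_res, eq_bot_iff]
      rintro y ⟨⟨⟨-, hyinf⟩, hyF⟩, hys⟩
      exfalso
      have hy : y ∈ irreducibleComponent y := mem_irreducibleComponent
      by_cases hxy : x ∈ irreducibleComponent y
      · let Z : S := ⟨_, irreducibleComponent_mem_irreducibleComponents y, hxy⟩
        exact hV' Z y ((Finset.inf_le (f := V') (Finset.mem_univ Z)) hyinf) hys hy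
      · exact hyF (Set.mem_iUnion₂.mpr ⟨_, ⟨irreducibleComponent_mem_irreducibleComponents y, hxy⟩, hy⟩)
    rw [← TopCat.Presheaf.germ_res_apply C.presheaf (homOfLE (inf_le_left.trans inf_le_left : V₁ ≤ V)) x hxV₁,
      (basicOpen_eq_bot_iff _).mp hempty, map_zero]
  haveI := hQ.1.1
  have hprime : ∀ Z, (RingHom.ker (f Z).hom).IsPrime := fun Z => by
    haveI := (M Z).smooth
    haveI := isDomain_stalk_of_smooth ((M Z).e ≫ φ) (w Z)
    exact RingHom.ker_isPrime _
  obtain ⟨Z, -, hZQ⟩ : ∃ Z ∈ (Finset.univ : Finset S), RingHom.ker (f Z).hom ≤ Q := by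
    refine (Ideal.IsPrime.prod_le hQ.1.1).mp ?_
    refine (Ideal.prod_le_inf).trans fun a ha => ?_
    rw [hzero a fun Z => ?_]
    · exact zero_mem _
    · exact (Finset.inf_le (f := fun Z => RingHom.ker (f Z).hom) (Finset.mem_univ Z)) ha
  haveI := hprime Z
  have hQeq : RingHom.ker (f Z).hom = Q := le_antisymm hZQ (hQ.2 ⟨hprime Z, bot_le⟩ hZQ)
  haveI := (M Z).closed
  haveI := (M Z).integral
  haveI := (M Z).smooth
  have hwcl : IsClosed ({w Z} : Set (M Z).W) := by
    have : ({w Z} : Set (M Z).W) = (M Z).e ⁻¹' {x} := by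
      ext t
      simp only [Set.mem_singleton_iff, Set.mem_preimage]
      exact ⟨fun h => h ▸ hw Z, fun h => (M Z).e.isClosedEmbedding.injective (h.trans (hw Z).symm)⟩
    rw [this]
    exact hx.preimage (M Z).e.continuous
  haveI : IsDiscreteValuationRing ((M Z).W.presheaf.stalk (w Z)) :=
    CurveDVR.isDiscreteValuationRing_stalk ((M Z).e ≫ φ) (M Z).dim hwcl
  have hsurj : Function.Surjective (f Z).hom := by
    intro r
    obtain ⟨a, rfl⟩ := (M Z).e.stalkMap_surjective (w Z) r
    refine ⟨C.presheaf.stalkSpecializes (Specializes.of_eq (hw Z).symm) a, ?_⟩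
    show (M Z).e.stalkMap (w Z) (C.presheaf.stalkSpecializes _ (C.presheaf.stalkSpecializes _ a)) = _
    congr 1
    rw [← CategoryTheory.comp_apply, TopCat.Presheaf.stalkSpecializes_comp, TopCat.Presheaf.stalkSpecializes_refl]
    rfl
  rw [← hQeq]
  exact IsPrincipalIdealRing.of_surjective (RingHom.quotientKerEquivOfSurjective hsurj).symm.toRingHom
    (RingHom.quotientKerEquivOfSurjective hsurj).symm.surjective

end Groth.Agent.StrictSSLib
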