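import Groth.Agent.StrictSSLib.NodeBaseChange
import Groth.Agent.S2155
import Groth.Agent.FBase.Dim
import Groth.Agent.SecDim.GenRed
import Groth.Agent.StrictSSLib.CompStalk

/-!
# At-worst-nodal curves are stable under extension of the base field
-/

set_option autoImplicit false
set_option linter.style.haveILetI false

universe u

open CategoryTheory CategoryTheory.Limits AlgebraicGeometry IsLocalRing

noncomputable section

namespace Groth.Agent.StrictSSLib

/-- The generic points of an at-worst-nodal curve are smooth. -/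
theorem mem_smoothLocus_of_atWorstNodal {k : Type u} [Field k] (X : Scheme.{u}) [X.Over (Spec (CommRingCat.of k))]
    [LocallyOfFiniteType (X ↘ Spec (CommRingCat.of k))]
    (hdim : ∀ Z ∈ irreducibleComponents (X : Type u), topologicalKrullDim Z ≤ 1)
    (hnod : Curv2.AtWorstNodal k X) {x : X} (hx : ¬ Curv2.IsNode k X x) :
    x ∈ (X ↘ Spec (CommRingCat.of k)).smoothLocus := by
  let φ := X ↘ Spec (CommRingCat.of k)
  rcases isClosed_or_coheight_eq_zero hdim x with hxc | hx0
  · rcases hnod x hxc with ⟨U, hU, hsm⟩ | h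
    · haveI : Smooth (U.ι ≫ φ) := hsm
      exact mem_smoothLocus_of_comp U.ι φ ⟨x, hU⟩
    · exact absurd h hx
  haveI : JacobsonSpace X := LocallyOfFiniteType.jacobsonSpace φ
  obtain ⟨z, hzx, hzc⟩ := nonempty_inter_closedPoints (Z := closure {x}) ⟨x, subset_closure rfl⟩
    isClosed_closure.isLocallyClosed
  have hxz : x ⤳ z := specializes_iff_mem_closure.mpr hzx
  rcases hnod z hzc with ⟨U, hU, hsm⟩ | ⟨-, zb, hzb, hord⟩
  · haveI : Smooth (U.ι ≫ φ) := hsm
    exact mem_smoothLocus_of_comp U.ι φ ⟨x, hxz.mem_open U.2 hU⟩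
  let K := AlgebraicClosure k
  let P := Curv2.bcFst k X K
  let π := Curv2.bcSnd k X K
  have h1 : IsPullback P π φ (Spec.map (CommRingCat.ofHom (algebraMap k K))) := IsPullback.of_hasPullback _ _
  haveI hb : Flat (Spec.map (CommRingCat.ofHom (algebraMap k K))) := by
    rw [HasRingHomProperty.Spec_iff (P := @Flat)]
    exact RingHom.flat_algebraMap_iff.mpr inferInstance
  haveI : Flat P := MorphismProperty.of_isPullback (P := @Flat) h1.flip inferInstance
  haveI : LocallyOfFiniteType π := MorphismProperty.of_isPullback h1 inferInstance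
  haveI : IsIntegralHom (Spec.map (CommRingCat.ofHom (algebraMap k K))) :=
    IsIntegralHom.SpecMap_iff.mpr (Algebra.IsIntegral.isIntegral (R := k))
  haveI : IsIntegralHom P := MorphismProperty.of_isPullback h1.flip inferInstance
  haveI : IsLocallyNoetherian (Curv2.bc k X K) := LocallyOfFiniteType.isLocallyNoetherian π
  have hxz' : x ⤳ P zb := by rw [show P zb = z from hzb]; exact hxz
  obtain ⟨xb, hxb, hxb'⟩ := Flat.generalizingMap P hxz'
  haveI : _root_.IsReduced ((Curv2.bc k X K).presheaf.stalk xb) := by
    refine SecDim.isReduced_stalk_of_isReduced hxb ?_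
    obtain ⟨e, -⟩ := hord
    haveI : _root_.IsReduced (FormalNode K) := by
      refine ⟨fun z ⟨n, hn⟩ => node_ext fun i => ?_⟩
      exact IsReduced.eq_zero _ ⟨n, by rw [← map_pow, hn, map_zero]⟩
    exact isReduced_of_injective (e.toRingHom.comp (algebraMap _ (AdicCompletion (maximalIdeal
      ((Curv2.bc k X K).presheaf.stalk zb)) _))) (e.injective.comp cpl_algebraMap_injective)
  haveI : Ring.KrullDimLE 0 ((Curv2.bc k X K).presheaf.stalk xb) := by
    refine krullDimLE_of_coheight_le (z := xb) (n := 0) (le_of_eq ?_)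
    refine CycLib.coheight_eq_zero_of_maximal fun w hw => ?_
    refine AlgSpCov.IntegralDim.eq_of_specializes_of_apply_eq P hw ?_
    have h3 : P w ⤳ P xb := hw.map P.continuous
    rw [hxb'] at h3 ⊢
    exact (h3.antisymm ((Order.coheight_eq_zero.mp hx0) (show x ≤ P w from h3))).eq
  have hxbs : xb ∈ π.smoothLocus := mem_smoothLocus_of_krullDimLE_zero π xb
  haveI : LocallyOfFinitePresentation φ := inferInstance
  rw [S2155.result φ _ π P h1 (Or.inr hb)] at hxbs
  rw [← hxb']
  exact hxbs

/-- Components of a base change of fields keep their dimension. -/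
theorem topDim_components_baseChange {k : Type u} [Field k] {X : Scheme.{u}} (φ : X ⟶ Spec (CommRingCat.of k))
    [LocallyOfFiniteType φ] {d : WithBot ℕ∞}
    (hdim : ∀ Z ∈ irreducibleComponents (X : Type u), topologicalKrullDim Z = d)
    {K : Type u} [Field K] [Algebra k K] {Y : Scheme.{u}} {fK : Y ⟶ X} {pK : Y ⟶ Spec (CommRingCat.of K)}
    (hK : IsPullback fK pK φ (Spec.map (CommRingCat.ofHom (algebraMap k K)))) :
    ∀ W ∈ irreducibleComponents (Y : Type u), topologicalKrullDim W = d := by
  intro W hW
  let e := hK.isoPullback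
  let Q := pullback φ (FBase.BC.specMap k K)
  let h : Y ≃ₜ Q := e.hom.homeomorph
  rw [← topologicalKrullDim_homeomorph_image h W]
  have hW' : h '' W ∈ irreducibleComponents (Q : Type u) := image_mem_irreducibleComponents h hW
  obtain ⟨w, hw⟩ : ∃ w, IsGenericPoint w (h '' W) :=
    QuasiSober.sober hW'.1 (isClosed_of_mem_irreducibleComponents _ hW')
  let p : Q ⟶ X := pullback.fst φ (FBase.BC.specMap k K)
  haveI hb : Flat (FBase.BC.specMap k K) := by
    rw [HasRingHomProperty.Spec_iff (P := @Flat)]
    exact RingHom.flat_algebraMap_iff.mpr inferInstance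
  haveI : Flat p := MorphismProperty.of_isPullback (P := @Flat) (IsPullback.of_hasPullback φ (FBase.BC.specMap k K)).flip hb
  have hmax : ∀ z, z ⤳ p w → p w ⤳ z := fun z hz =>
    FBase.IrredComp.generization_maximal_map p (fun v => FBase.Topo.specializes_of_isGenericPoint_component hW' hw) hz
  have hZ : closure {p w} ∈ irreducibleComponents (X : Type u) :=
    (FlatMor.GenericPts.closure_mem_irreducibleComponents_iff _).mpr hmax
  rw [← hdim _ hZ]
  refine FBase.Dim.topDim_maximal_preimage φ K isClosed_closure isIrreducible_singleton.closure ?_ hW'.1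
    fun V hV _ hle => hW'.2 hV hle
  intro v hv
  exact ((hw.specializes hv).map p.continuous).mem_closure

/-- At-worst-nodal curves stay so after a field extension. -/
theorem atWorstNodal_of_isPullback {k : Type u} [Field k] (X : Scheme.{u}) [X.Over (Spec (CommRingCat.of k))]
    [LocallyOfFiniteType (X ↘ Spec (CommRingCat.of k))]
    (hdim : ∀ Z ∈ irreducibleComponents (X : Type u), topologicalKrullDim Z ≤ 1)
    (hnod : Curv2.AtWorstNodal k X) {K : Type u} [Field K] [Algebra k K] {Y : Scheme.{u}} {fK : Y ⟶ X}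
    {pK : Y ⟶ Spec (CommRingCat.of K)}
    (hK : IsPullback fK pK (X ↘ Spec (CommRingCat.of k)) (Spec.map (CommRingCat.ofHom (algebraMap k K)))) :
    @Curv2.AtWorstNodal K _ Y ⟨pK⟩ := by
  intro y hy
  by_cases hx : Curv2.IsNode k X (fK y)
  · exact Or.inr ((isNode_iff_of_isPullback X hdim hK y).mp hx)
  · have hxs := mem_smoothLocus_of_atWorstNodal X hdim hnod hx
    let U := (X ↘ Spec (CommRingCat.of k)).smoothLocus
    haveI := smooth_smoothLocus (X ↘ Spec (CommRingCat.of k))
    refine Or.inl ⟨fK ⁻¹ᵁ U, hxs, ?_⟩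
    exact MorphismProperty.of_isPullback (P := @Smooth) ((isPullback_morphismRestrict fK U).paste_vert hK) inferInstance

end Groth.Agent.StrictSSLib
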