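import Groth.Agent.StrictSSLib.OdpClosed
import Groth.Agent.StrictSSLib.OdpConj
import Groth.Agent.AlgSpCov.IntegralDim
import Mathlib.FieldTheory.IsAlgClosed.AlgebraicClosure

/-!
# Nodes and extensions of the base field
-/

set_option autoImplicit false
set_option linter.style.haveILetI false

universe u

open CategoryTheory CategoryTheory.Limits AlgebraicGeometry

noncomputable section

namespace Groth.Agent.StrictSSLib

/-- Nodes of a curve and of a base change to a field extension correspond. -/
theorem isNode_iff_of_isPullback {k : Type u} [Field k] (X : Scheme.{u}) [X.Over (Spec (CommRingCat.of k))]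
    [LocallyOfFiniteType (X ↘ Spec (CommRingCat.of k))]
    (hdim : ∀ Z ∈ irreducibleComponents (X : Type u), topologicalKrullDim Z ≤ 1)
    {K : Type u} [Field K] [Algebra k K] {Y : Scheme.{u}} {fK : Y ⟶ X} {pK : Y ⟶ Spec (CommRingCat.of K)}
    (hK : IsPullback fK pK (X ↘ Spec (CommRingCat.of k)) (Spec.map (CommRingCat.ofHom (algebraMap k K)))) (y : Y) :
    Curv2.IsNode k X (fK y) ↔ @Curv2.IsNode K _ Y ⟨pK⟩ y := by
  letI : Y.Over (Spec (CommRingCat.of K)) := ⟨pK⟩
  let φ := X ↘ Spec (CommRingCat.of k)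
  let ka := AlgebraicClosure k
  let Ka := AlgebraicClosure K
  haveI : IsScalarTower k K Ka := inferInstance
  let σ : ka →ₐ[k] Ka := IsAlgClosed.lift
  letI : Algebra ka Ka := σ.toRingHom.toAlgebra
  let P1 := Curv2.bcFst k X ka
  let π1 := Curv2.bcSnd k X ka
  let P2 := Curv2.bcFst K Y Ka
  let π2 := Curv2.bcSnd K Y Ka
  have h1 : IsPullback P1 π1 φ (Spec.map (CommRingCat.ofHom (algebraMap k ka))) := IsPullback.of_hasPullback _ _
  have h2 : IsPullback P2 π2 (pK) (Spec.map (CommRingCat.ofHom (algebraMap K Ka))) := IsPullback.of_hasPullback _ _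
  have hbig := h2.paste_horiz hK
  have hσ : Spec.map (CommRingCat.ofHom (algebraMap K Ka)) ≫ Spec.map (CommRingCat.ofHom (algebraMap k K)) =
      Spec.map (CommRingCat.ofHom (algebraMap ka Ka)) ≫ Spec.map (CommRingCat.ofHom (algebraMap k ka)) := by
    rw [← Spec.map_comp, ← Spec.map_comp]
    congr 1
    ext r
    exact (IsScalarTower.algebraMap_apply k K Ka r).symm.trans (σ.commutes r).symm
  rw [hσ] at hbig
  let τ := h1.lift (P2 ≫ fK) (π2 ≫ Spec.map (CommRingCat.ofHom (algebraMap ka Ka))) (by rw [hbig.w, Category.assoc])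
  have hτ1 : τ ≫ P1 = P2 ≫ fK := h1.lift_fst _ _ _
  have hτ2 : τ ≫ π1 = π2 ≫ Spec.map (CommRingCat.ofHom (algebraMap ka Ka)) := h1.lift_snd _ _ _
  have hτ : IsPullback τ π2 π1 (Spec.map (CommRingCat.ofHom (algebraMap ka Ka))) :=
    IsPullback.of_right (by rw [hτ1]; exact hbig) hτ2 h1
  haveI : LocallyOfFiniteType π1 := MorphismProperty.of_isPullback h1 inferInstance
  haveI : LocallyOfFiniteType (pK) := MorphismProperty.of_isPullback hK inferInstance
  have happ : ∀ w, P1 (τ w) = fK (P2 w) := fun w => by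
    rw [← Scheme.Hom.comp_apply, hτ1, Scheme.Hom.comp_apply]
  constructor
  · rintro ⟨hx, xb, hxb, hord⟩
    have hy : IsClosed ({y} : Set Y) := isClosed_singleton_of_over_closed hK hx
    obtain ⟨w, hw, -⟩ := Scheme.Pullback.exists_preimage_pullback (f := pK)
      (g := Spec.map (CommRingCat.ofHom (algebraMap K Ka))) y (IsLocalRing.closedPoint Ka) (Subsingleton.elim (α := PrimeSpectrum K) _ _)
    have hτw : P1 (τ w) = fK y := (happ w).trans (congrArg fK hw)
    have hzc : IsClosed ({τ w} : Set (Curv2.bc k X ka)) := isClosed_singleton_of_over_closed h1 (by rw [hτw]; exact hx)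
    have hz : IsOdpAt π1 (τ w) := isOdpAt_of_over_same h1
      (isClosed_singleton_of_over_closed h1 (by rw [show P1 xb = fK y from hxb]; exact hx)) hzc
      ((show P1 xb = fK y from hxb).trans hτw.symm) hord
    exact ⟨hy, w, hw, (isOdpAt_iff_of_extension hτ w hzc).mp hz⟩
  · rintro ⟨hy, w, hw, hord⟩
    have hwc : IsClosed ({w} : Set _) := isClosed_singleton_of_over_closed h2 (by rw [show P2 w = y from hw]; exact hy)
    have hτw : P1 (τ w) = fK y := (happ w).trans (congrArg fK hw)
    have hgen : IsClosed ({τ w} : Set (Curv2.bc k X ka)) ∨ Order.coheight (τ w) = 0 := by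
      rcases isClosed_or_coheight_eq_zero hdim (P1 (τ w)) with h | h
      · exact Or.inl (isClosed_singleton_of_over_closed h1 h)
      · refine Or.inr (CycLib.coheight_eq_zero_of_maximal fun z hz => ?_)
        haveI : IsIntegralHom (Spec.map (CommRingCat.ofHom (algebraMap k ka))) :=
          IsIntegralHom.SpecMap_iff.mpr (Algebra.IsIntegral.isIntegral (R := k))
        haveI : IsIntegralHom P1 := MorphismProperty.of_isPullback h1.flip inferInstance
        refine AlgSpCov.IntegralDim.eq_of_specializes_of_apply_eq P1 hz ?_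
        have h3 : P1 z ⤳ P1 (τ w) := hz.map P1.continuous
        exact h3.antisymm ((Order.coheight_eq_zero.mp h) (show P1 (τ w) ≤ P1 z from h3)) |>.eq
    have hzc := isClosed_of_isOdpAt hτ w hwc hord hgen
    refine ⟨?_, τ w, hτw, (isOdpAt_iff_of_extension hτ w hzc).mpr hord⟩
    haveI : IsIntegralHom (Spec.map (CommRingCat.ofHom (algebraMap k ka))) :=
      IsIntegralHom.SpecMap_iff.mpr (Algebra.IsIntegral.isIntegral (R := k))
    haveI : IsIntegralHom P1 := MorphismProperty.of_isPullback h1.flip inferInstance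
    have h4 := P1.isClosedMap {τ w} hzc
    rw [Set.image_singleton, hτw] at h4
    exact h4

/-- Nodes of a curve and of its base change to a field extension correspond. -/
theorem isNode_bc_iff (k : Type u) [Field k] (X : Scheme.{u}) [X.Over (Spec (CommRingCat.of k))]
    [LocallyOfFiniteType (X ↘ Spec (CommRingCat.of k))]
    (hdim : ∀ Z ∈ irreducibleComponents (X : Type u), topologicalKrullDim Z ≤ 1)
    (K : Type u) [Field K] [Algebra k K] (y : Curv2.bc k X K) :
    Curv2.IsNode k X (Curv2.bcFst k X K y) ↔ @Curv2.IsNode K _ (Curv2.bc k X K) ⟨Curv2.bcSnd k X K⟩ y := by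
  exact isNode_iff_of_isPullback X hdim (IsPullback.of_hasPullback _ _) y

end Groth.Agent.StrictSSLib
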