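import Groth.Agent.StrictSSLib.NodeFibre
import Groth.Prelude.Def_SSMod
import Mathlib.FieldTheory.PurelyInseparable.Basic

/-!
# The fibre of a curve over a field
-/

set_option autoImplicit false
set_option linter.style.haveILetI false

universe u

open CategoryTheory CategoryTheory.Limits AlgebraicGeometry

noncomputable section

namespace Groth.Agent.StrictSSLib

theorem fromSpecResidueField_spec_field (k : Type u) [Field k] (s : Spec (CommRingCat.of k)) :
    ∃ h : CommRingCat.of k ⟶ (Spec (CommRingCat.of k)).residueField s, Function.Bijective h.hom ∧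
      (Spec (CommRingCat.of k)).fromSpecResidueField s = Spec.map h := by
  refine ⟨StructureSheaf.toStalk k s ≫ (Spec (CommRingCat.of k)).residue s, ⟨RingHom.injective _, fun r => ?_⟩, ?_⟩
  · obtain ⟨a, rfl⟩ := (Spec (CommRingCat.of k)).residue_surjective s r
    haveI : s.asIdeal.IsPrime := s.isPrime
    letI : Algebra k ((Spec (CommRingCat.of k)).presheaf.stalk s) := (StructureSheaf.toStalk k s).hom.toAlgebra
    haveI : IsLocalization.AtPrime (R := k) ((Spec (CommRingCat.of k)).presheaf.stalk s) s.asIdeal :=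
      StructureSheaf.IsLocalization.to_stalk (R := k) s
    obtain ⟨⟨c, d⟩, hcd⟩ := IsLocalization.surj s.asIdeal.primeCompl a
    have hd : (d : k) ≠ 0 := fun h => d.2 (h ▸ zero_mem _)
    refine ⟨c / d, congrArg ((Spec (CommRingCat.of k)).residue s) ?_⟩
    refine ((IsLocalization.map_units ((Spec (CommRingCat.of k)).presheaf.stalk s) d).mul_left_inj).mp ?_
    refine Eq.trans ?_ hcd.symm
    show algebraMap k _ (c / d) * algebraMap k _ (d : k) = algebraMap k _ c
    rw [← map_mul, div_mul_cancel₀ _ hd]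
  · rw [Scheme.fromSpecResidueField, Spec.fromSpecStalk_eq']
    exact (Spec.map_comp _ _).symm

theorem isIso_fiberι {k : Type u} [Field k] {C : Scheme.{u}} (φ : C ⟶ Spec (CommRingCat.of k))
    (s : Spec (CommRingCat.of k)) : IsIso (φ.fiberι s) := by
  obtain ⟨h, hb, he⟩ := fromSpecResidueField_spec_field k s
  haveI : IsIso h := (ConcreteCategory.isIso_iff_bijective h).mpr hb
  haveI : IsIso ((Spec (CommRingCat.of k)).fromSpecResidueField s) := by rw [he]; infer_instance
  exact pullback_fst_iso_of_right_iso φ _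

/-- Closed non-smooth points of a nodal family over a separably closed field have geometric node data. -/
theorem exists_geom_node {k : Type u} [Field k] [IsSepClosed k] {C : Scheme.{u}}
    (φ : C ⟶ Spec (CommRingCat.of k)) [LocallyOfFinitePresentation φ] (hnod : Curv2.IsNodalFamily φ) {x : C}
    (hxc : IsClosed ({x} : Set C)) (hx : x ∉ φ.smoothLocus) :
    ∃ (K : Type u) (_ : Field K) (_ : Algebra k K) (_ : IsPurelyInseparable k K) (Y : Scheme.{u}) (P : Y ⟶ C)
      (π : Y ⟶ Spec (CommRingCat.of K)) (_ : IsPullback P π φ (Spec.map (CommRingCat.ofHom (algebraMap k K)))) (y : Y),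
      P y = x ∧ (letI : Y.Over (Spec (CommRingCat.of K)) := ⟨π⟩
        letI := Curv2.stalkAlgebra K Y y
        Curv2.IsOrdDoublePt K (Y.presheaf.stalk y)) := by
  let s := φ x
  obtain ⟨h, hb, he⟩ := fromSpecResidueField_spec_field k s
  haveI := isIso_fiberι φ s
  obtain ⟨xf, hxf⟩ : ∃ xf, φ.fiberι s xf = x := ⟨φ.asFiber x, Scheme.Hom.fiberι_asFiber φ x⟩
  have hxfc : IsClosed ({xf} : Set (φ.fiber s)) := by
    have : ({xf} : Set (φ.fiber s)) = φ.fiberι s ⁻¹' {x} := by
      ext t
      simp only [Set.mem_singleton_iff, Set.mem_preimage]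
      exact ⟨fun h => h ▸ hxf, fun h => (φ.fiberι s).homeomorph.injective (h.trans hxf.symm)⟩
    rw [this]
    exact hxc.preimage (φ.fiberι s).continuous
  obtain ⟨U, hU, hsm⟩ | ⟨-, xb, hxb, hord⟩ := (hnod.2.2 s).2 xf hxfc
  · exfalso
    refine hx ?_
    have e : (U.ι ≫ φ.fiberι s) ≫ φ = (U.ι ≫ φ.fiberToSpecResidueField s) ≫ Spec.map h := by
      rw [Category.assoc, Category.assoc, ← he]
      exact congrArg (U.ι ≫ ·) pullback.condition
    haveI : IsIso h := (ConcreteCategory.isIso_iff_bijective h).mpr hb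
    haveI : Smooth (U.ι ≫ φ.fiberToSpecResidueField s) := hsm
    haveI : Smooth ((U.ι ≫ φ.fiberι s) ≫ φ) := by rw [e]; infer_instance
    rw [← hxf]
    exact mem_smoothLocus_of_comp (U.ι ≫ φ.fiberι s) φ ⟨xf, hU⟩
  · let κ := (Spec (CommRingCat.of k)).residueField s
    letI : (φ.fiber s).Over (Spec κ) := ⟨φ.fiberToSpecResidueField s⟩
    let K := AlgebraicClosure κ
    letI algk : Algebra k κ := h.hom.toAlgebra
    letI algK : Algebra k K := ((algebraMap κ K).comp (algebraMap k κ)).toAlgebra
    haveI : @IsScalarTower k κ K algk.toSMul Algebra.toSMul algK.toSMul :=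
      IsScalarTower.of_algebraMap_eq' rfl
    haveI : Algebra.IsIntegral k κ := ⟨fun r => by
      obtain ⟨c, rfl⟩ := hb.2 r
      exact isIntegral_algebraMap⟩
    haveI : Algebra.IsAlgebraic k κ := Algebra.IsIntegral.isAlgebraic
    haveI : Algebra.IsAlgebraic k K := Algebra.IsAlgebraic.trans k κ K
    refine ⟨K, inferInstance, algK, inferInstance, Curv2.bc κ (φ.fiber s) K,
      Curv2.bcFst κ (φ.fiber s) K ≫ φ.fiberι s, Curv2.bcSnd κ (φ.fiber s) K, ?_, xb, ?_, hord⟩
    · have h1 : IsPullback (Curv2.bcFst κ (φ.fiber s) K) (Curv2.bcSnd κ (φ.fiber s) K)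
          (φ.fiberToSpecResidueField s) (Spec.map (CommRingCat.ofHom (algebraMap κ K))) := IsPullback.of_hasPullback _ _
      have h2 : IsPullback (φ.fiberι s) (φ.fiberToSpecResidueField s) φ (Spec.map h) := he ▸ IsPullback.of_hasPullback _ _
      have h3 := h1.paste_horiz h2
      convert h3 using 1
      exact Spec.map_comp h (CommRingCat.ofHom (algebraMap κ K))
    · rw [Scheme.Hom.comp_apply, hxb, hxf]

end Groth.Agent.StrictSSLib
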