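import Groth.Agent.StrictSSLib.NodePoint
import Mathlib.RingTheory.Flat.EquationalCriterion
import Mathlib.RingTheory.PrincipalIdealDomain
import Mathlib.RingTheory.PowerSeries.Inverse
import Mathlib.RingTheory.Ideal.MinimalPrime.Basic
import Mathlib.Data.Finsupp.Antidiagonal

/-!
# A reduced local ring with regular branches which becomes a formal node after a flat extension
-/

set_option autoImplicit false
set_option linter.style.haveILetI false

universe u

open IsLocalRing
open scoped TensorProduct

noncomputable section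

namespace Groth.Agent.StrictSSLib

section Series

variable {K : Type u} [Field K]

/-- The formal node. -/
abbrev FormalNode (K : Type u) [Field K] : Type u :=
  MvPowerSeries (Fin 2) K ⧸ Ideal.span {(MvPowerSeries.X 0 * MvPowerSeries.X 1 : MvPowerSeries (Fin 2) K)}

/-- Restriction to an axis. -/
def axisSeries (i : Fin 2) : MvPowerSeries (Fin 2) K →+* PowerSeries K where
  toFun f := PowerSeries.mk fun n => MvPowerSeries.coeff (Finsupp.single i n) f
  map_one' := PowerSeries.ext fun n => by
    classical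
    rw [PowerSeries.coeff_mk, MvPowerSeries.coeff_one, PowerSeries.coeff_one]
    rcases eq_or_ne n 0 with rfl | h
    · simp
    · simp [h]
  map_zero' := PowerSeries.ext fun n => by simp
  map_add' f g := PowerSeries.ext fun n => by simp
  map_mul' f g := PowerSeries.ext fun n => by
    classical
    rw [PowerSeries.coeff_mk, MvPowerSeries.coeff_mul, PowerSeries.coeff_mul, Finsupp.antidiagonal_single,
      Finset.sum_map]
    simp

theorem axisSeries_XY (i : Fin 2) :
    axisSeries i (MvPowerSeries.X 0 * MvPowerSeries.X 1 : MvPowerSeries (Fin 2) K) = 0 := by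
  classical
  have h : ∀ j, j ≠ i → axisSeries i (MvPowerSeries.X j : MvPowerSeries (Fin 2) K) = 0 := fun j hj =>
    PowerSeries.ext fun n => by
      rw [axisSeries, RingHom.coe_mk, MonoidHom.coe_mk, OneHom.coe_mk, PowerSeries.coeff_mk, MvPowerSeries.coeff_X,
        if_neg, map_zero]
      intro e
      have := DFunLike.congr_fun e j
      rw [Finsupp.single_eq_same, Finsupp.single_eq_of_ne hj] at this
      exact absurd this zero_ne_one
  rw [map_mul]
  fin_cases i
  · rw [h 1 (by simp), mul_zero]
  · rw [h 0 (by simp), zero_mul]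

/-- Restriction of the node to an axis. -/
def nodeAxis (i : Fin 2) : FormalNode K →+* PowerSeries K :=
  Ideal.Quotient.lift _ (axisSeries i) fun x hx => by
    obtain ⟨y, rfl⟩ := Ideal.mem_span_singleton'.mp hx
    rw [map_mul, axisSeries_XY, mul_zero]

theorem nodeAxis_mk (i : Fin 2) (f : MvPowerSeries (Fin 2) K) : nodeAxis i (Ideal.Quotient.mk _ f) = axisSeries i f := rfl

instance : IsLocalRing (FormalNode K) :=
  haveI : Nontrivial (FormalNode K) := (nodeAxis (K := K) 0).domain_nontrivial
  IsLocalRing.of_surjective' (Ideal.Quotient.mk _) Ideal.Quotient.mk_surjective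

theorem node_ext {z : FormalNode K} (h : ∀ i, nodeAxis i z = 0) : z = 0 := by
  obtain ⟨f, rfl⟩ := Ideal.Quotient.mk_surjective z
  refine Ideal.Quotient.eq_zero_iff_mem.mpr (mem_span_XY f fun i n => ?_)
  have := congrArg (PowerSeries.coeff n) (h i)
  rwa [nodeAxis_mk, map_zero, axisSeries, RingHom.coe_mk, MonoidHom.coe_mk, OneHom.coe_mk,
    PowerSeries.coeff_mk] at this

/-- The variables in the node. -/
def gen (i : Fin 2) : FormalNode K := Ideal.Quotient.mk _ (MvPowerSeries.X i)

theorem gen_mul {i j : Fin 2} (hij : i ≠ j) : gen (K := K) i * gen j = 0 := by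
  rw [gen, gen, ← map_mul, Ideal.Quotient.eq_zero_iff_mem]
  fin_cases i <;> fin_cases j <;> simp_all [Ideal.mem_span_singleton, mul_comm]

theorem maximalIdeal_formalNode : maximalIdeal (FormalNode K) = Ideal.span {gen (K := K) 0, gen (K := K) 1} := by
  rw [← IsLocalRing.map_maximalIdeal_of_surjective (Ideal.Quotient.mk _) Ideal.Quotient.mk_surjective,
    ArtFunLib.maximalIdeal_ps_eq, ArtFunLib.psMax, isField_iff_maximalIdeal_eq.mp (Field.toIsField K),
    Ideal.map_bot, bot_sup_eq, Ideal.map_span, ← Set.range_comp]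
  congr 1
  ext x
  simp [Fin.exists_fin_two, gen, eq_comm]

open Classical in
theorem exists_pow_unit (z : FormalNode K) {i j : Fin 2} (hij : i ≠ j) (hj : nodeAxis j z = 0) (hi : nodeAxis i z ≠ 0) :
    ∃ (n : ℕ) (w : FormalNode K), IsUnit w ∧ 1 ≤ n ∧ z = gen i ^ n * w := by
  obtain ⟨f, rfl⟩ := Ideal.Quotient.mk_surjective z
  have hjc : ∀ m, MvPowerSeries.coeff (Finsupp.single j m) f = 0 := fun m => by
    have := congrArg (PowerSeries.coeff m) hj
    rwa [nodeAxis_mk, map_zero, axisSeries, RingHom.coe_mk, MonoidHom.coe_mk, OneHom.coe_mk,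
      PowerSeries.coeff_mk] at this
  have h : ∃ m, MvPowerSeries.coeff (Finsupp.single i m) f ≠ 0 := by
    by_contra hno
    push Not at hno
    exact hi (by rw [nodeAxis_mk]; exact PowerSeries.ext fun m => by simp [axisSeries, hno m])
  set n := Nat.find h
  have hn : n ≠ 0 := fun h0 => by
    have := Nat.find_spec h
    rw [show Nat.find h = 0 from h0, Finsupp.single_zero] at this
    have h1 := hjc 0
    rw [Finsupp.single_zero] at h1
    exact this h1
  let g : MvPowerSeries (Fin 2) K := fun d => MvPowerSeries.coeff (d + Finsupp.single i n) f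
  have hg : IsUnit g := MvPowerSeries.isUnit_iff_constantCoeff.mpr (isUnit_iff_ne_zero.mpr (by
    show MvPowerSeries.coeff (0 + Finsupp.single i n) f ≠ 0
    rw [zero_add]
    exact Nat.find_spec h))
  refine ⟨n, Ideal.Quotient.mk _ g, hg.map _, Nat.one_le_iff_ne_zero.mpr hn, ?_⟩
  rw [gen, ← map_pow, ← map_mul, Ideal.Quotient.eq]
  refine mem_span_XY _ fun l m => ?_
  rw [map_sub, MvPowerSeries.X_pow_eq, MvPowerSeries.coeff_monomial_mul, sub_eq_zero]
  by_cases hl : l = i
  · subst hl
    simp only [Finsupp.single_le_single, one_mul]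
    split_ifs with h1
    · show _ = MvPowerSeries.coeff (Finsupp.single l m - Finsupp.single l n + Finsupp.single l n) f
      rw [← Finsupp.single_tsub, ← Finsupp.single_add, Nat.sub_add_cancel h1]
    · exact not_not.mp (Nat.find_min h (show m < n by omega))
  · have hlj : l = j := by fin_cases i <;> fin_cases j <;> fin_cases l <;> simp at hl hij ⊢
    subst hlj
    rw [if_neg, hjc]
    intro hle
    have := Finsupp.le_def.mp hle i
    rw [Finsupp.single_eq_same, Finsupp.single_eq_of_ne (Ne.symm hl)] at this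
    omega

end Series

section Branches

theorem pow_mul_mul_eq_zero {N : Type*} [CommRing N] {a b : N} {n : ℕ} (hn : 1 ≤ n) (h : a * b = 0) (w : N) :
    a ^ n * w * b = 0 := by
  obtain ⟨m, rfl⟩ : ∃ m, n = m + 1 := ⟨n - 1, by omega⟩
  rw [pow_succ, show a ^ m * a * w * b = a ^ m * w * (a * b) by ring, h, mul_zero]

/-- In a flat algebra, what is killed by `u` lies in any prime avoiding `u`. -/
theorem mem_map_of_flat_of_mul_eq_zero {A N : Type*} [CommRing A] [CommRing N] [Algebra A N] [Module.Flat A N]
    (P : Ideal A) [P.IsPrime] (u : A) (hu : u ∉ P) (x : N) (hx : algebraMap A N u * x = 0) :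
    x ∈ P.map (algebraMap A N) := by
  obtain ⟨m, a, y, hy, ha⟩ := Module.Flat.isTrivialRelation_of_sum_smul_eq_zero (R := A) (M := N)
    (f := fun _ : Fin 1 => u) (x := fun _ => x) (by rw [Fin.sum_univ_one, Algebra.smul_def, hx])
  rw [show x = ∑ l, a 0 l • y l from hy 0]
  refine Ideal.sum_mem _ fun l _ => ?_
  rw [Algebra.smul_def]
  refine Ideal.mul_mem_right _ _ (Ideal.mem_map_of_mem _ ?_)
  have h0 : u * a 0 l = 0 := by simpa using ha l
  exact ((inferInstance : P.IsPrime).mem_or_mem (h0 ▸ zero_mem _)).resolve_left hu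

variable {K : Type u} [Field K] {A : Type u} [CommRing A] [IsLocalRing A] [Algebra A (FormalNode K)]

/-- The prime of a branch. -/
def branchPrime (K : Type u) [Field K] (A : Type u) [CommRing A] [Algebra A (FormalNode K)] (i : Fin 2) : Ideal A :=
  RingHom.ker ((nodeAxis i).comp (algebraMap A (FormalNode K)))

instance (i : Fin 2) : (branchPrime K A i).IsPrime := RingHom.ker_isPrime _

variable [Module.Flat A (FormalNode K)] [IsLocalHom (algebraMap A (FormalNode K))] [IsReduced A]

theorem branch_inf (z : A) (h : ∀ i, z ∈ branchPrime K A i) : z = 0 := by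
  haveI : Module.FaithfullyFlat A (FormalNode K) := Module.FaithfullyFlat.of_flat_of_isLocalHom
  refine FaithfulSMul.algebraMap_injective A (FormalNode K) ?_
  rw [map_zero]
  exact node_ext fun i => h i

theorem not_le_branch (hnd : ¬ IsDomain A) {i j : Fin 2} (hij : i ≠ j) : ¬ branchPrime K A i ≤ branchPrime K A j := by
  intro hle
  apply hnd
  have hbot : branchPrime K A i = ⊥ := (Submodule.eq_bot_iff _).mpr fun z hz => branch_inf z fun l => by
    rcases eq_or_ne l i with rfl | hl
    · exact hz
    · rw [show l = j by fin_cases i <;> fin_cases j <;> fin_cases l <;> simp at hl hij ⊢]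
      exact hle hz
  haveI : (⊥ : Ideal A).IsPrime := hbot ▸ inferInstance
  exact IsDomain.of_bot_isPrime A

theorem branch_minimal (hnd : ¬ IsDomain A) (i : Fin 2) : branchPrime K A i ∈ minimalPrimes A := by
  refine ⟨⟨inferInstance, bot_le⟩, fun Q hQ hle => ?_⟩
  haveI := hQ.1
  set j : Fin 2 := if i = 0 then 1 else 0 with hj
  have hij : i ≠ j := by fin_cases i <;> simp [hj]
  have hmul : branchPrime K A i * branchPrime K A j ≤ Q := by
    rw [Ideal.mul_le]
    intro x hx y hy
    rw [branch_inf (K := K) (x * y) fun l => ?_]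
    · exact zero_mem _
    · rcases eq_or_ne l i with rfl | hl
      · exact Ideal.mul_mem_right _ _ hx
      · rw [show l = j by fin_cases i <;> fin_cases l <;> simp [hj] at hl ⊢]
        exact Ideal.mul_mem_left _ _ hy
  rcases hQ.1.mul_le.mp hmul with h | h
  · exact h
  · exact absurd (h.trans hle) (not_le_branch hnd (Ne.symm hij))

theorem exists_branch_gen (hnd : ¬ IsDomain A) (hpid : ∀ Q ∈ minimalPrimes A, IsPrincipalIdealRing (A ⧸ Q))
    {i j : Fin 2} (hij : i ≠ j) :
    ∃ u : A, branchPrime K A j = Ideal.span {u} ∧ u ∉ branchPrime K A i := by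
  haveI := hpid _ (branch_minimal (K := K) hnd i)
  obtain ⟨t, ht⟩ := (IsPrincipalIdealRing.principal ((branchPrime K A j).map (Ideal.Quotient.mk (branchPrime K A i)))).1
  rw [← Ideal.span] at ht
  obtain ⟨u, hu, rfl⟩ := (Ideal.mem_map_iff_of_surjective _ Ideal.Quotient.mk_surjective).mp
    (ht ▸ Ideal.mem_span_singleton_self t)
  have hspan : branchPrime K A j = Ideal.span {u} := by
    refine le_antisymm (fun z hz => ?_) ((Ideal.span_le).mpr (Set.singleton_subset_iff.mpr hu))
    obtain ⟨r, hr⟩ := Ideal.mem_span_singleton'.mp (ht ▸ Ideal.mem_map_of_mem _ hz)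
    obtain ⟨r, rfl⟩ := Ideal.Quotient.mk_surjective r
    rw [← map_mul, Ideal.Quotient.eq] at hr
    have h0 : r * u - z = 0 := branch_inf (K := K) _ fun l => by
      rcases eq_or_ne l i with rfl | hl
      · exact hr
      · rw [show l = j by fin_cases i <;> fin_cases j <;> fin_cases l <;> simp at hl hij ⊢]
        exact sub_mem (Ideal.mul_mem_left _ _ hu) hz
    exact Ideal.mem_span_singleton'.mpr ⟨r, sub_eq_zero.mp h0⟩
  refine ⟨u, hspan, fun hu' => not_le_branch (K := K) hnd (Ne.symm hij) ?_⟩
  rw [hspan]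
  exact (Ideal.span_le).mpr (Set.singleton_subset_iff.mpr hu')

theorem gen_mem_map (hnd : ¬ IsDomain A) (hpid : ∀ Q ∈ minimalPrimes A, IsPrincipalIdealRing (A ⧸ Q))
    {i j : Fin 2} (hij : i ≠ j) :
    gen (K := K) j ∈ (branchPrime K A i).map (algebraMap A (FormalNode K)) := by
  obtain ⟨u, hu, hui⟩ := exists_branch_gen (K := K) hnd hpid hij
  obtain ⟨n, w, hw, hn, hz⟩ := exists_pow_unit (algebraMap A (FormalNode K) u) hij
    (show u ∈ branchPrime K A j from hu ▸ Ideal.mem_span_singleton_self u) hui
  refine mem_map_of_flat_of_mul_eq_zero (branchPrime K A i) u hui _ ?_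
  rw [hz]
  exact pow_mul_mul_eq_zero hn (gen_mul hij) w

/-- The branches give two generators of the maximal ideal. -/
theorem exists_uv (hnd : ¬ IsDomain A) (hpid : ∀ Q ∈ minimalPrimes A, IsPrincipalIdealRing (A ⧸ Q)) :
    (∃ u v : A, u * v = 0 ∧ maximalIdeal A = Ideal.span {u, v} ∧ (∀ n : ℕ, u ^ n ≠ 0) ∧ ∀ n : ℕ, v ^ n ≠ 0) ∧
      (maximalIdeal A).map (algebraMap A (FormalNode K)) = maximalIdeal (FormalNode K) := by
  haveI : Module.FaithfullyFlat A (FormalNode K) := Module.FaithfullyFlat.of_flat_of_isLocalHom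
  obtain ⟨u, hu, hu0⟩ := exists_branch_gen (K := K) hnd hpid (show (0 : Fin 2) ≠ 1 by simp)
  obtain ⟨v, hv, hv1⟩ := exists_branch_gen (K := K) hnd hpid (show (1 : Fin 2) ≠ 0 by simp)
  have hle : Ideal.span {u, v} ≤ maximalIdeal A := by
    rw [Ideal.span_le]
    rintro _ (rfl | rfl)
    · exact le_maximalIdeal (Ideal.IsPrime.ne_top inferInstance) (hu ▸ Ideal.mem_span_singleton_self _ : _ ∈ branchPrime K A 1)
    · exact le_maximalIdeal (Ideal.IsPrime.ne_top inferInstance) (hv ▸ Ideal.mem_span_singleton_self _ : _ ∈ branchPrime K A 0)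
  have hN : maximalIdeal (FormalNode K) ≤ (Ideal.span {u, v}).map (algebraMap A (FormalNode K)) := by
    rw [maximalIdeal_formalNode, Ideal.span_le]
    rintro _ (rfl | rfl)
    · refine Ideal.map_mono ?_ (gen_mem_map hnd hpid (show (1 : Fin 2) ≠ 0 by simp))
      rw [hu]
      exact Ideal.span_mono (by simp)
    · refine Ideal.map_mono ?_ (gen_mem_map hnd hpid (show (0 : Fin 2) ≠ 1 by simp))
      rw [hv]
      exact Ideal.span_mono (by simp)
  have hmN : (maximalIdeal A).map (algebraMap A (FormalNode K)) = maximalIdeal (FormalNode K) :=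
    le_antisymm (((local_hom_TFAE (algebraMap A (FormalNode K))).out 0 2 rfl rfl).mp inferInstance)
      (hN.trans (Ideal.map_mono hle))
  refine ⟨⟨u, v, ?_, le_antisymm ?_ hle, fun n h => hu0 ?_, fun n h => hv1 ?_⟩, hmN⟩
  · refine branch_inf (K := K) _ fun l => ?_
    fin_cases l
    · exact Ideal.mul_mem_left _ _ (hv ▸ Ideal.mem_span_singleton_self v)
    · exact Ideal.mul_mem_right _ _ (hu ▸ Ideal.mem_span_singleton_self u)
  · rw [← Ideal.comap_map_eq_self_of_faithfullyFlat (B := FormalNode K) (Ideal.span {u, v})]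
    exact fun z hz => hN (hmN ▸ Ideal.mem_map_of_mem _ hz)
  · exact (inferInstance : (branchPrime K A 0).IsPrime).mem_of_pow_mem n (h ▸ zero_mem _)
  · exact (inferInstance : (branchPrime K A 1).IsPrime).mem_of_pow_mem n (h ▸ zero_mem _)

end Branches

/-- A residue which agrees with a scalar after a field extension comes from the base field. -/
theorem exists_algebraMap_eq_of_tmul_eq {k L K : Type u} [Field k] [Field L] [Field K] [Algebra k L] [Algebra k K]
    (ξ : L) (γ : K) (h : ξ ⊗ₜ[k] (1 : K) = (1 : L) ⊗ₜ[k] γ) : ∃ c : k, algebraMap k L c = ξ := by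
  by_contra hno
  have hmem : ξ ∉ Submodule.span k {(1 : L)} := fun hm => hno (by
    obtain ⟨c, hc⟩ := Submodule.mem_span_singleton.mp hm
    exact ⟨c, by rw [Algebra.algebraMap_eq_smul_one, hc]⟩)
  obtain ⟨f, hf, hle⟩ := Submodule.exists_le_ker_of_notMem hmem
  have h1 : f 1 = 0 := hle (Submodule.mem_span_singleton_self _)
  have h2 := congrArg ((TensorProduct.lid k K).toLinearMap ∘ₗ f.rTensor K) h
  simp only [LinearMap.comp_apply, LinearMap.rTensor_tmul, h1] at h2
  simp [Algebra.smul_def, hf] at h2

end Groth.Agent.StrictSSLib
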