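import Groth.Agent.StrictSSLib.NodeRing
import Mathlib.AlgebraicGeometry.Morphisms.Smooth
import Mathlib.AlgebraicGeometry.Morphisms.Etale
import Mathlib.AlgebraicGeometry.Morphisms.FormallyUnramified
import Mathlib.AlgebraicGeometry.Morphisms.FiniteType

/-!
# Charts give smooth points or nodes in the fibres
-/

set_option autoImplicit false
set_option linter.style.haveILetI false
set_option maxSynthPendingDepth 4

universe u

open CategoryTheory CategoryTheory.Limits AlgebraicGeometry
open scoped TensorProduct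

noncomputable section

namespace Groth.Agent.StrictSSLib

theorem mem_smoothLocus_of_comp {W X S : Scheme.{u}} (h : W ⟶ X) [IsOpenImmersion h] (φ : X ⟶ S)
    [LocallyOfFinitePresentation φ] [Smooth (h ≫ φ)] (w : W) : h w ∈ φ.smoothLocus := by
  show w ∈ h ⁻¹ᵁ φ.smoothLocus
  rw [Scheme.Hom.preimage_smoothLocus_eq, Scheme.Hom.smoothLocus_eq_top]
  trivial

theorem smooth_smoothLocus {X S : Scheme.{u}} (φ : X ⟶ S) [LocallyOfFinitePresentation φ] :
    Smooth (φ.smoothLocus.ι ≫ φ) := by
  rw [← Scheme.Hom.smoothLocus_eq_top_iff, ← Scheme.Hom.preimage_smoothLocus_eq, Scheme.Opens.ι_preimage_self]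

/-- A point of a fibre over a smooth point has a neighbourhood smooth over the residue field. -/
theorem fibre_smooth {X S : Scheme.{u}} (φ : X ⟶ S) [LocallyOfFinitePresentation φ] (s : S) (x : φ.fiber s)
    (hx : φ.fiberι s x ∈ φ.smoothLocus) :
    ∃ V : (φ.fiber s).Opens, x ∈ V ∧ Smooth (V.ι ≫ φ.fiberToSpecResidueField s) := by
  refine ⟨φ.fiberι s ⁻¹ᵁ φ.smoothLocus, hx, ?_⟩
  haveI := smooth_smoothLocus φ
  have h1 : IsPullback (φ.fiberι s ∣_ φ.smoothLocus) (φ.fiberι s ⁻¹ᵁ φ.smoothLocus).ι φ.smoothLocus.ι (φ.fiberι s) :=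
    isPullback_morphismRestrict _ _
  have h2 : IsPullback (φ.fiberι s) (φ.fiberToSpecResidueField s) φ (S.fromSpecResidueField s) :=
    IsPullback.of_hasPullback _ _
  exact MorphismProperty.of_isPullback (P := @Smooth) (h1.paste_vert h2) inferInstance

section Line

variable (A : CommRingCat.{u})

theorem smooth_lineToBase : Smooth (StrictSS.lineToBase A) := by
  rw [HasRingHomProperty.Spec_iff (P := @Smooth)]
  haveI : Algebra.Smooth A (Polynomial A) := ⟨inferInstance, inferInstance⟩
  exact RingHom.smooth_algebraMap.mpr this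

end Line

section Node

variable {C S : Scheme.{u}} {φ : C ⟶ S} [LocallyOfFinitePresentation φ] {A : CommRingCat.{u}} {j : Spec A ⟶ S}
  [IsOpenImmersion j] {U : C.Opens} {q : (U : Scheme.{u}) ⟶ Spec A} (hq : U.ι ≫ φ = q ≫ j) {a : A}
  (f : (U : Scheme.{u}) ⟶ Spec (CommRingCat.of (StrictSS.NodeAlg A a))) [Etale f]
  (hf : f ≫ StrictSS.nodeToBase A a = q)

include hq hf in
/-- Off the common zero of the two variables the curve is smooth. -/
theorem mem_smoothLocus_of_notMem (c : (U : Scheme.{u})) (i : Fin 2) (hc : nx (a : A) i ∉ (f c).asIdeal) :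
    U.ι c ∈ φ.smoothLocus := by
  let N := StrictSS.NodeAlg A a
  let loc : Spec (CommRingCat.of (Localization.Away (nx (a : A) i))) ⟶ Spec (CommRingCat.of N) :=
    Spec.map (CommRingCat.ofHom (algebraMap N (Localization.Away (nx (a : A) i))))
  haveI : IsOpenImmersion loc := IsOpenImmersion.of_isLocalization (nx (a : A) i)
  obtain ⟨w, hw⟩ : f c ∈ Set.range loc := by
    have h := PrimeSpectrum.localization_away_comap_range (Localization.Away (nx (a : A) i)) (nx (a : A) i)
    exact (Set.ext_iff.mp h (f c)).mpr hc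
  obtain ⟨z, hz, -⟩ := Scheme.Pullback.exists_preimage_pullback (f := f) (g := loc) c w hw.symm
  rw [← hz]
  have hsm : Smooth (Spec.map (CommRingCat.ofHom (algebraMap A (Localization.Away (nx (a : A) i))))) := by
    rw [HasRingHomProperty.Spec_iff (P := @Smooth)]
    exact RingHom.smooth_algebraMap.mpr (smooth_away (a : A) i)
  have hloc : loc ≫ StrictSS.nodeToBase A a =
      Spec.map (CommRingCat.ofHom (algebraMap A (Localization.Away (nx (a : A) i)))) := by
    rw [← Spec.map_comp, ← CommRingCat.ofHom_comp, ← IsScalarTower.algebraMap_eq]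
  haveI : Smooth ((pullback.fst f loc ≫ U.ι) ≫ φ) := by
    rw [Category.assoc, hq, ← hf, Category.assoc, pullback.condition_assoc, ← Category.assoc loc, hloc]
    infer_instance
  exact mem_smoothLocus_of_comp (pullback.fst f loc ≫ U.ι) φ z

end Node

/-- The map from the base field to a local ring. -/
def strMap {K : Type u} [Field K] {X : Scheme.{u}} (h : X ⟶ Spec (CommRingCat.of K)) (x : X) :
    K →+* X.presheaf.stalk x :=
  (X.presheaf.germ ⊤ x trivial).hom.comp (Coh.toGlobal h)

theorem isOrdDoublePt_stalk {K : Type u} [Field K] {X : Scheme.{u}} (π : X ⟶ Spec (CommRingCat.of K))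
    [LocallyOfFiniteType π] (x : X) (h : NodeData K (X.presheaf.stalk x) (strMap π x)) :
    letI : X.Over (Spec (CommRingCat.of K)) := ⟨π⟩
    letI := Curv2.stalkAlgebra K X x
    Curv2.IsOrdDoublePt K (X.presheaf.stalk x) := by
  letI : X.Over (Spec (CommRingCat.of K)) := ⟨π⟩
  letI := Curv2.stalkAlgebra K X x
  haveI : IsLocallyNoetherian X := LocallyOfFiniteType.isLocallyNoetherian π
  exact NodeData.isOrdDoublePt (K := K) h

theorem strMap_comp {K : Type u} [Field K] {X Y : Scheme.{u}} (f : X ⟶ Y) (h : Y ⟶ Spec (CommRingCat.of K))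
    (x : X) : strMap (f ≫ h) x = (f.stalkMap x).hom.comp (strMap h (f x)) := by
  ext c
  simp only [strMap, RingHom.comp_apply, Coh.toGlobal]
  exact (Scheme.Hom.germ_stalkMap_apply f ⊤ x trivial _).symm

theorem strMap_SpecMap {K : Type u} [Field K] {R : CommRingCat.{u}} (g : CommRingCat.of K ⟶ R) (x : Spec R) :
    strMap (Spec.map g) x = (StructureSheaf.toStalk R x).hom.comp g.hom := by
  ext c
  have e : (Spec.map g).appTop ((Scheme.ΓSpecIso (CommRingCat.of K)).inv c) = (Scheme.ΓSpecIso R).inv (g c) :=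
    (DFunLike.congr_fun (congrArg CommRingCat.Hom.hom (Scheme.ΓSpecIso_inv_naturality g)) c).symm
  exact (congrArg ((Spec R).presheaf.germ ⊤ x trivial) e).trans rfl

section Node

variable {C S : Scheme.{u}} {φ : C ⟶ S} {A : CommRingCat.{u}} {j : Spec A ⟶ S}
  [IsOpenImmersion j] {U : C.Opens} {q : (U : Scheme.{u}) ⟶ Spec A} (hq : U.ι ≫ φ = q ≫ j) {a : A}
  (f : (U : Scheme.{u}) ⟶ Spec (CommRingCat.of (StrictSS.NodeAlg A a))) [Etale f]
  (hf : f ≫ StrictSS.nodeToBase A a = q)

include hq hf in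
/-- The geometric points over the common zero of the two variables are ordinary double points. -/
theorem nodeData_geom {K : Type u} [Field K] [IsAlgClosed K] {g : Spec (CommRingCat.of K) ⟶ S} {X : Scheme.{u}}
    {P : X ⟶ C} {π : X ⟶ Spec (CommRingCat.of K)} (hpb : IsPullback P π φ g) (xb : X) (c : (U : Scheme.{u}))
    (hc : P xb = U.ι c) (h : ∀ i, nx (a : A) i ∈ (f c).asIdeal) :
    NodeData K (X.presheaf.stalk xb) (strMap π xb) := by
  have hUc : P xb ∈ U := hc ▸ c.2
  let W : X.Opens := P ⁻¹ᵁ U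
  let xw : (W : Scheme.{u}) := ⟨xb, hUc⟩
  have hW : IsPullback (P ∣_ U) (W.ι ≫ π) (U.ι ≫ φ) g := (isPullback_morphismRestrict P U).paste_vert hpb
  have hxw : (P ∣_ U) xw = c := U.ι.isOpenEmbedding.injective (by
    rw [← hc, ← Scheme.Hom.comp_apply, morphismRestrict_ι, Scheme.Hom.comp_apply]
    rfl)
  -- the point of the base
  obtain ⟨b, hb⟩ : ∃ b : Spec (CommRingCat.of K) ⟶ Spec A, b ≫ j = g := by
    refine ⟨IsOpenImmersion.lift j g ?_, IsOpenImmersion.lift_fac _ _ _⟩
    rintro _ ⟨t, rfl⟩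
    rw [show t = π xb from @Subsingleton.elim _ (inferInstanceAs (Subsingleton (PrimeSpectrum K))) _ _,
      ← Scheme.Hom.comp_apply, ← hpb.w, Scheme.Hom.comp_apply, hc, ← Scheme.Hom.comp_apply, hq,
      Scheme.Hom.comp_apply]
    exact ⟨_, rfl⟩
  obtain ⟨ψ, rfl⟩ := Spec.map_surjective b
  letI : Algebra A K := ψ.hom.toAlgebra
  have hW' : IsPullback (P ∣_ U) (W.ι ≫ π) q (Spec.map ψ) := by
    have hw : (P ∣_ U) ≫ q = (W.ι ≫ π) ≫ Spec.map ψ := by
      rw [← cancel_mono j, Category.assoc, Category.assoc, ← hq, hb]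
      exact hW.w
    refine IsPullback.of_isLimit' ⟨hw⟩ (PullbackCone.IsLimit.mk _
      (fun s => hW.lift s.fst s.snd (by rw [hq, ← hb, ← Category.assoc, s.condition, Category.assoc]))
      (fun s => hW.lift_fst _ _ _) (fun s => hW.lift_snd _ _ _)
      (fun s m h1 h2 => hW.hom_ext (h1.trans (hW.lift_fst _ _ _).symm) (h2.trans (hW.lift_snd _ _ _).symm)))
  -- the node over the field
  let R := K ⊗[A] StrictSS.NodeAlg A a
  let inl : CommRingCat.of K ⟶ CommRingCat.of R := CommRingCat.ofHom Algebra.TensorProduct.includeLeftRingHom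
  let inr : CommRingCat.of (StrictSS.NodeAlg A a) ⟶ CommRingCat.of R :=
    CommRingCat.ofHom Algebra.TensorProduct.includeRight.toRingHom
  have hR : IsPullback (Spec.map inr) (Spec.map inl) (StrictSS.nodeToBase A a) (Spec.map ψ) :=
    (isPullback_SpecMap_of_isPushout _ _ _ _ (CommRingCat.isPushout_tensorProduct A K (StrictSS.NodeAlg A a))).flip
  let gW : (W : Scheme.{u}) ⟶ Spec (CommRingCat.of R) :=
    hR.lift ((P ∣_ U) ≫ f) (W.ι ≫ π) (by rw [Category.assoc, hf, hW'.w])
  have hgW : IsPullback (P ∣_ U) gW f (Spec.map inr) := by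
    refine IsPullback.of_bot ?_ (hR.lift_fst _ _ _).symm hR
    rw [hR.lift_snd, hf]
    exact hW'
  haveI : Etale gW := MorphismProperty.of_isPullback (P := @Etale) hgW inferInstance
  -- the image of the point
  have hP : ∀ i, kx (a : A) K i ∈ (gW xw).asIdeal := fun i => by
    have h1 : Spec.map inr (gW xw) = f c := by
      rw [← Scheme.Hom.comp_apply, hR.lift_fst, Scheme.Hom.comp_apply, hxw]
    have h2 := h i
    rw [← h1] at h2
    exact h2
  have ha : algebraMap A K a = 0 := by
    have h1 : algebraMap A R a ∈ (gW xw).asIdeal := by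
      have h2 : kx (a : A) K 0 * kx (a : A) K 1 = algebraMap A R a := by
        rw [kx, kx, Algebra.TensorProduct.tmul_mul_tmul, one_mul, nx_mul, Algebra.algebraMap_eq_smul_one,
          TensorProduct.tmul_smul, Algebra.algebraMap_eq_smul_one]
        rfl
      rw [← h2]
      exact Ideal.mul_mem_right _ _ (hP 0)
    by_contra h0
    refine (gW xw).isPrime.ne_top (Ideal.eq_top_of_isUnit_mem _ h1 ?_)
    rw [IsScalarTower.algebraMap_apply A K R]
    exact (IsUnit.mk0 _ h0).map _
  haveI hprime : (gW xw).asIdeal.IsPrime := (gW xw).isPrime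
  letI algL : Algebra R ((Spec (CommRingCat.of R)).presheaf.stalk (gW xw)) :=
    (StructureSheaf.toStalk R (gW xw)).hom.toAlgebra
  haveI : IsLocalization.AtPrime (R := R) ((Spec (CommRingCat.of R)).presheaf.stalk (gW xw)) (gW xw).asIdeal :=
    StructureSheaf.IsLocalization.to_stalk (R := R) (gW xw)
  have hL := origin_data ha (gW xw).asIdeal (hP 0) (hP 1) ((Spec (CommRingCat.of R)).presheaf.stalk (gW xw))
  obtain ⟨u, v, huv, hgen, hres, hu, hv⟩ := hL
  -- along the etale chart
  letI algLB : Algebra ((Spec (CommRingCat.of R)).presheaf.stalk (gW xw)) ((W : Scheme.{u}).presheaf.stalk xw) :=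
    (gW.stalkMap xw).hom.toAlgebra
  letI algKL : Algebra K ((Spec (CommRingCat.of R)).presheaf.stalk (gW xw)) :=
    ((algebraMap R ((Spec (CommRingCat.of R)).presheaf.stalk (gW xw))).comp (algebraMap K R)).toAlgebra
  letI algKB : Algebra K ((W : Scheme.{u}).presheaf.stalk xw) :=
    ((algebraMap ((Spec (CommRingCat.of R)).presheaf.stalk (gW xw)) ((W : Scheme.{u}).presheaf.stalk xw)).comp
      (algebraMap K ((Spec (CommRingCat.of R)).presheaf.stalk (gW xw)))).toAlgebra
  haveI : IsScalarTower K ((Spec (CommRingCat.of R)).presheaf.stalk (gW xw)) ((W : Scheme.{u}).presheaf.stalk xw) :=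
    IsScalarTower.of_algebraMap_eq' rfl
  haveI : Module.Flat ((Spec (CommRingCat.of R)).presheaf.stalk (gW xw)) ((W : Scheme.{u}).presheaf.stalk xw) :=
    Flat.stalkMap gW xw
  haveI : IsLocalHom (algebraMap ((Spec (CommRingCat.of R)).presheaf.stalk (gW xw)) ((W : Scheme.{u}).presheaf.stalk xw)) :=
    inferInstanceAs <| IsLocalHom (gW.stalkMap xw).hom
  haveI : Algebra.EssFiniteType ((Spec (CommRingCat.of R)).presheaf.stalk (gW xw)) ((W : Scheme.{u}).presheaf.stalk xw) := by
    rw [← RingHom.essFiniteType_algebraMap]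
    exact LocallyOfFiniteType.stalkMap gW xw
  haveI : Algebra.FormallyUnramified ((Spec (CommRingCat.of R)).presheaf.stalk (gW xw)) ((W : Scheme.{u}).presheaf.stalk xw) := by
    rw [← RingHom.formallyUnramified_algebraMap]
    exact FormallyUnramified.stalkMap gW xw
  have hB : NodeData K ((W : Scheme.{u}).presheaf.stalk xw) (algebraMap K ((W : Scheme.{u}).presheaf.stalk xw)) :=
    nodeData_of_unramified u v huv hgen hres hu hv
  have hstr : algebraMap K ((W : Scheme.{u}).presheaf.stalk xw) = strMap (W.ι ≫ π) xw := by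
    have e : W.ι ≫ π = gW ≫ Spec.map inl := (hR.lift_snd _ _ _).symm
    rw [e, strMap_comp, strMap_SpecMap]
    rfl
  rw [hstr, strMap_comp] at hB
  haveI : IsIso (W.ι.stalkMap xw) := inferInstance
  refine hB.map (asIso (W.ι.stalkMap xw)).commRingCatIsoToRingEquiv.symm ?_
  ext t
  exact ((asIso (W.ι.stalkMap xw)).commRingCatIsoToRingEquiv.symm_apply_apply _).symm

end Node

end Groth.Agent.StrictSSLib
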