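import Groth.Agent.StrictSSLib.NodeTransport
import Groth.Agent.StrictSSLib.NodeFibre
import Mathlib.AlgebraicGeometry.AlgClosed.Basic

/-!
# Ordinary double points along etale morphisms
-/

set_option autoImplicit false
set_option linter.style.haveILetI false

universe u

open CategoryTheory CategoryTheory.Limits AlgebraicGeometry IsLocalRing

noncomputable section

namespace Groth.Agent.StrictSSLib

/-- Ordinary double point at a point of a scheme over a field. -/
def IsOdpAt {K : Type u} [Field K] {Y : Scheme.{u}} (π : Y ⟶ Spec (CommRingCat.of K)) (y : Y) : Prop :=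
  letI : Y.Over (Spec (CommRingCat.of K)) := ⟨π⟩
  letI := Curv2.stalkAlgebra K Y y
  Curv2.IsOrdDoublePt K (Y.presheaf.stalk y)

theorem fromSpecResidueField_comp {k : Type u} [Field k] {X : Scheme.{u}} (φ : X ⟶ Spec (CommRingCat.of k)) (x : X) :
    X.fromSpecResidueField x ≫ φ = Spec.map (CommRingCat.ofHom ((X.residue x).hom.comp (strMap φ x))) := by
  rw [Scheme.fromSpecResidueField, Category.assoc, ← Scheme.SpecMap_stalkMap_fromSpecStalk,
    Spec.fromSpecStalk_eq, ← Spec.map_comp, ← Spec.map_comp]
  congr 1
  ext c
  show X.residue x (φ.stalkMap x ((StructureSheaf.toStalk k (φ x)).hom c)) = X.residue x (strMap φ x c)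
  congr 1
  exact Scheme.Hom.germ_stalkMap_apply φ ⊤ x trivial _

/-- Closed points over an algebraically closed field are rational. -/
theorem residue_surjective_of_isClosed {K : Type u} [Field K] [IsAlgClosed K] {X : Scheme.{u}}
    (π : X ⟶ Spec (CommRingCat.of K)) [LocallyOfFiniteType π] {x : X} (hx : IsClosed ({x} : Set X)) :
    Function.Surjective ((residue (X.presheaf.stalk x)).comp (strMap π x)) := by
  have h : (residueFieldIsoBase π x hx).inv = CommRingCat.ofHom ((X.residue x).hom.comp (strMap π x)) :=
    Spec.map_injective (by rw [SpecMap_residueFieldIsoBase_inv, fromSpecResidueField_comp])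
  intro r
  obtain ⟨c, hc⟩ := ((ConcreteCategory.isIso_iff_bijective (residueFieldIsoBase π x hx).inv).mp inferInstance).2 r
  refine ⟨c, ?_⟩
  rw [← hc, h]
  rfl

/-- Ordinary double points are invariant under etale morphisms over an algebraically closed field. -/
theorem isOdpAt_iff_of_etale {K : Type u} [Field K] [IsAlgClosed K] {X Y : Scheme.{u}}
    (π : X ⟶ Spec (CommRingCat.of K)) [LocallyOfFiniteType π] (f : Y ⟶ X) [Etale f] (y : Y)
    (hx : IsClosed ({f y} : Set X)) : IsOdpAt π (f y) ↔ IsOdpAt (f ≫ π) y := by
  haveI : IsLocallyNoetherian X := LocallyOfFiniteType.isLocallyNoetherian π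
  haveI : IsLocallyNoetherian Y := LocallyOfFiniteType.isLocallyNoetherian (f ≫ π)
  let L := X.presheaf.stalk (f y)
  let A := Y.presheaf.stalk y
  letI algLA : Algebra L A := (f.stalkMap y).hom.toAlgebra
  letI algKL : Algebra K L := (strMap π (f y)).toAlgebra
  letI algKA : Algebra K A := (strMap (f ≫ π) y).toAlgebra
  haveI : IsScalarTower K L A := IsScalarTower.of_algebraMap_eq' (strMap_comp f π y)
  haveI : IsLocalHom (algebraMap L A) := inferInstanceAs <| IsLocalHom (f.stalkMap y).hom
  haveI : Module.Flat L A := Flat.stalkMap f y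
  haveI : Algebra.EssFiniteType L A := by
    rw [← RingHom.essFiniteType_algebraMap]
    exact LocallyOfFiniteType.stalkMap f y
  haveI : Algebra.FormallyUnramified L A := by
    rw [← RingHom.formallyUnramified_algebraMap]
    exact FormallyUnramified.stalkMap f y
  exact isOrdDoublePt_iff_of_unramified (K := K) (L := L) (A := A) (residue_surjective_of_isClosed π hx)

/-- Transport along an equality of structure morphisms. -/
theorem isOdpAt_congr {K : Type u} [Field K] {Y : Scheme.{u}} {π π' : Y ⟶ Spec (CommRingCat.of K)} (h : π = π')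
    (y : Y) : IsOdpAt π y ↔ IsOdpAt π' y := by
  subst h
  rfl

end Groth.Agent.StrictSSLib
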