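import Groth.Agent.StrictSSLib.NodeEtale
import Groth.Agent.StrictSSLib.NodeFibre
import Groth.Agent.EtStruct.Scheme

/-!
# Node data give node charts
-/

set_option autoImplicit false
set_option linter.style.haveILetI false

universe u

open CategoryTheory CategoryTheory.Limits AlgebraicGeometry IsLocalRing

noncomputable section

namespace Groth.Agent.StrictSSLib

section

variable {k : Type u} [Field k]

theorem node_exists_const (r : StrictSS.NodeAlg k (0 : k)) :
    ∃ c : k, r - algebraMap k _ c ∈ Ideal.span {nx (0 : k) 0, nx (0 : k) 1} := by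
  obtain ⟨p, rfl⟩ := Ideal.Quotient.mk_surjective r
  induction p using MvPolynomial.induction_on with
  | C b =>
    refine ⟨b, ?_⟩
    show Ideal.Quotient.mk _ (MvPolynomial.C b) - Ideal.Quotient.mk _ (MvPolynomial.C b) ∈ _
    rw [sub_self]
    exact zero_mem _
  | add p q hp hq =>
    obtain ⟨c, hc⟩ := hp
    obtain ⟨d, hd⟩ := hq
    exact ⟨c + d, by rw [map_add, map_add, add_sub_add_comm]; exact add_mem hc hd⟩
  | mul_X p i _ =>
    refine ⟨0, ?_⟩
    rw [RingHom.map_zero (algebraMap k (StrictSS.NodeAlg k (0 : k))), sub_zero, map_mul]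
    exact Ideal.mul_mem_left _ _ (Ideal.subset_span (by fin_cases i <;> simp [nx]))

theorem node_prime_eq (P : Ideal (StrictSS.NodeAlg k (0 : k))) [P.IsPrime] (h : ∀ i, nx (0 : k) i ∈ P) :
    P = Ideal.span {nx (0 : k) 0, nx (0 : k) 1} := by
  have hle : Ideal.span {nx (0 : k) 0, nx (0 : k) 1} ≤ P := Ideal.span_le.mpr (by rintro _ (rfl | rfl) <;> apply h)
  refine le_antisymm (fun r hr => ?_) hle
  obtain ⟨c, hc⟩ := node_exists_const r
  rcases eq_or_ne c 0 with rfl | hc0
  · rwa [RingHom.map_zero (algebraMap k (StrictSS.NodeAlg k (0 : k))), sub_zero] at hc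
  · have h1 : algebraMap k _ c ∈ P := by
      have := sub_mem hr (hle hc)
      rwa [sub_sub_cancel] at this
    exact absurd (Ideal.eq_top_of_isUnit_mem _ h1 ((IsUnit.mk0 c hc0).map (algebraMap k (StrictSS.NodeAlg k (0 : k))))) (Ideal.IsPrime.ne_top inferInstance)

variable (P : Ideal (StrictSS.NodeAlg k (0 : k))) [P.IsPrime] (L : Type u) [CommRing L] [IsLocalRing L]
  [Algebra (StrictSS.NodeAlg k (0 : k)) L] [IsLocalization.AtPrime (R := StrictSS.NodeAlg k (0 : k)) L P]

theorem node_local_data (h : ∀ i, nx (0 : k) i ∈ P) :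
    maximalIdeal L = Ideal.span {algebraMap (StrictSS.NodeAlg k (0 : k)) L (nx 0 0), algebraMap (StrictSS.NodeAlg k (0 : k)) L (nx 0 1)} ∧
      Function.Surjective ((residue L).comp ((algebraMap (StrictSS.NodeAlg k (0 : k)) L).comp (algebraMap k _))) := by
  have hPs := node_prime_eq P h
  refine ⟨by rw [← IsLocalization.AtPrime.map_eq_maximalIdeal P L, hPs, Ideal.map_span, Set.image_pair], fun (z : ResidueField L) => ?_⟩
  have hres : ∀ r : StrictSS.NodeAlg k (0 : k), ∃ c : k, residue L (algebraMap _ L r) =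
      residue L (algebraMap (StrictSS.NodeAlg k (0 : k)) L (algebraMap k _ c)) := fun r => by
    obtain ⟨c, hc⟩ := node_exists_const r
    refine ⟨c, Ideal.Quotient.eq.mpr ?_⟩
    rw [← map_sub, IsLocalization.AtPrime.to_map_mem_maximal_iff L P, hPs]
    exact hc
  obtain ⟨z, rfl⟩ := residue_surjective z
  obtain ⟨⟨r, s⟩, hrs⟩ := IsLocalization.surj P.primeCompl z
  obtain ⟨c, hc⟩ := hres r
  obtain ⟨d, hd⟩ := hres s
  refine ⟨c / d, ?_⟩
  have hsne : residue L (algebraMap (StrictSS.NodeAlg k (0 : k)) L (s : StrictSS.NodeAlg k (0 : k))) ≠ 0 :=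
    (IsLocalRing.residue_ne_zero_iff_isUnit _).mpr (IsLocalization.map_units L s)
  have h2 := congrArg (residue L) hrs
  rw [map_mul, hc, hd] at h2
  rw [hd] at hsne
  rw [map_div₀, div_eq_iff (show ((residue L).comp ((algebraMap (StrictSS.NodeAlg k (0 : k)) L).comp (algebraMap k _))) d ≠ 0 from hsne)]
  exact h2.symm

end

theorem germ_topIso_inv {X : Scheme.{u}} (U : X.Opens) (x : (U : Scheme.{u})) (s : Γ(X, U)) :
    (U : Scheme.{u}).presheaf.germ ⊤ x trivial (U.topIso.inv s) = U.ι.stalkMap x (X.presheaf.germ U x.1 x.2 s) := by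
  have h1 := DFunLike.congr_fun (congrArg CommRingCat.Hom.hom (U.germ_stalkIso_inv ⊤ x trivial)) (U.topIso.inv s)
  refine h1.symm.trans ?_
  refine Eq.trans ?_ (DFunLike.congr_fun (congrArg CommRingCat.Hom.hom (Scheme.Opens.stalkIso_inv U x)) _)
  show (U.stalkIso x).inv (X.presheaf.germ (U.ι ''ᵁ ⊤) x.1 _ (U.topIso.inv s)) = _
  congr 1
  exact TopCat.Presheaf.germ_res_apply _ _ _ _ _

/-- A point with node data, away from the marked points, has a node chart. -/
theorem hasNodeChart_of_nodeData {k : Type u} [Field k] {C D : Scheme.{u}} (φ : C ⟶ Spec (CommRingCat.of k))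
    [LocallyOfFiniteType φ] (i : D ⟶ C) (hi : IsClosed (Set.range i)) {x : C} (hx : x ∉ Set.range i)
    (h : NodeData k (C.presheaf.stalk x) (strMap φ x)) : StrictSS.HasNodeChartAt φ i x := by
  obtain ⟨u, v, huv, hgen, hres, hu, hv⟩ := h
  obtain ⟨U₁, hx₁, us, rfl⟩ := TopCat.Presheaf.exists_germ_eq C.presheaf u
  obtain ⟨U₂, hx₂, vs, rfl⟩ := TopCat.Presheaf.exists_germ_eq C.presheaf v
  let E : C.Opens := ⟨(Set.range i)ᶜ, hi.isOpen_compl⟩
  let U₀ : C.Opens := U₁ ⊓ U₂ ⊓ E
  have hx₀ : x ∈ U₀ := ⟨⟨hx₁, hx₂⟩, hx⟩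
  let u₀ : Γ(C, U₀) := C.presheaf.map (homOfLE (inf_le_left.trans inf_le_left : U₀ ≤ U₁)).op us
  let v₀ : Γ(C, U₀) := C.presheaf.map (homOfLE (inf_le_left.trans inf_le_right : U₀ ≤ U₂)).op vs
  have hz : C.presheaf.germ U₀ x hx₀ (u₀ * v₀) = C.presheaf.germ U₀ x hx₀ 0 := by
    rw [map_mul, map_zero, TopCat.Presheaf.germ_res_apply, TopCat.Presheaf.germ_res_apply]
    exact huv
  obtain ⟨(U : C.Opens), hxU, iU, iU', hU⟩ := C.presheaf.germ_eq x hx₀ hx₀ _ _ hz
  let x' : (U : Scheme.{u}) := ⟨x, hxU⟩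
  let q : (U : Scheme.{u}) ⟶ Spec (CommRingCat.of k) := U.ι ≫ φ
  letI : Algebra k Γ((U : Scheme.{u}), ⊤) := (Coh.toGlobal q).toAlgebra
  let b : Fin 2 → Γ((U : Scheme.{u}), ⊤) :=
    ![U.topIso.inv (C.presheaf.map iU.op u₀), U.topIso.inv (C.presheaf.map iU.op v₀)]
  have hb : b 0 * b 1 = algebraMap k _ (0 : k) := by
    show U.topIso.inv _ * U.topIso.inv _ = _
    rw [← map_mul, ← map_mul, hU, map_zero, map_zero, map_zero]
  let h₀ := nodeLift b hb
  let f : (U : Scheme.{u}) ⟶ Spec (CommRingCat.of (StrictSS.NodeAlg k (0 : k))) :=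
    (U : Scheme.{u}).toSpecΓ ≫ Spec.map (CommRingCat.ofHom h₀.toRingHom)
  have hf : f ≫ StrictSS.nodeToBase k (0 : k) = q := by
    refine (Category.assoc _ _ _).trans ?_
    refine (congrArg ((U : Scheme.{u}).toSpecΓ ≫ ·) ((Spec.map_comp _ _).symm.trans
      (congrArg Spec.map (show _ = CommRingCat.ofHom (algebraMap k Γ((U : Scheme.{u}), ⊤)) from
        CommRingCat.hom_ext h₀.comp_algebraMap)))).trans ?_
    rw [show CommRingCat.ofHom (algebraMap k Γ((U : Scheme.{u}), ⊤)) =
      (Scheme.ΓSpecIso (CommRingCat.of k)).inv ≫ q.appTop from rfl, Spec.map_comp, ← Category.assoc,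
      ← Scheme.toSpecΓ_naturality, Category.assoc, ← SpecMap_ΓSpecIso_hom, ← Spec.map_comp, Iso.inv_hom_id,
      Spec.map_id, Category.comp_id]
  have hgl : ∀ i : Fin 2, f.stalkMap x' ((StructureSheaf.toStalk (StrictSS.NodeAlg k (0 : k)) (f x')).hom (nx 0 i)) =
      (U : Scheme.{u}).presheaf.germ ⊤ x' trivial (b i) := by
    intro i
    have h1 : f.appTop ((Scheme.ΓSpecIso (CommRingCat.of (StrictSS.NodeAlg k (0 : k)))).inv (nx 0 i)) = b i := by
      refine Eq.trans ?_ (nodeLift_nx b hb i)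
      show (U : Scheme.{u}).toSpecΓ.appTop ((Spec.map (CommRingCat.ofHom h₀.toRingHom)).appTop
        ((Scheme.ΓSpecIso (CommRingCat.of (StrictSS.NodeAlg k (0 : k)))).inv (nx 0 i))) = h₀ (nx 0 i)
      refine (congrArg (U : Scheme.{u}).toSpecΓ.appTop (DFunLike.congr_fun (congrArg CommRingCat.Hom.hom
        (Scheme.ΓSpecIso_inv_naturality (CommRingCat.ofHom h₀.toRingHom))) (nx 0 i)).symm).trans ?_
      rw [Scheme.toSpecΓ_appTop]
      exact Iso.inv_hom_id_apply (Scheme.ΓSpecIso Γ((U : Scheme.{u}), ⊤)) _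
    rw [← h1]
    exact Scheme.Hom.germ_stalkMap_apply f ⊤ x' trivial _
  have hgU : ∀ (s : Γ(C, U)), (U : Scheme.{u}).presheaf.germ ⊤ x' trivial (U.topIso.inv s) =
      U.ι.stalkMap x' (C.presheaf.germ U x hxU s) := germ_topIso_inv U x'
  have hb0 : (U : Scheme.{u}).presheaf.germ ⊤ x' trivial (b 0) = U.ι.stalkMap x' (C.presheaf.germ U₁ x hx₁ us) := by
    show (U : Scheme.{u}).presheaf.germ ⊤ x' trivial (U.topIso.inv _) = _
    rw [hgU, TopCat.Presheaf.germ_res_apply, TopCat.Presheaf.germ_res_apply]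
  have hb1 : (U : Scheme.{u}).presheaf.germ ⊤ x' trivial (b 1) = U.ι.stalkMap x' (C.presheaf.germ U₂ x hx₂ vs) := by
    show (U : Scheme.{u}).presheaf.germ ⊤ x' trivial (U.topIso.inv _) = _
    rw [hgU, TopCat.Presheaf.germ_res_apply, TopCat.Presheaf.germ_res_apply]
  let eU : C.presheaf.stalk x ≃+* (U : Scheme.{u}).presheaf.stalk x' := (asIso (U.ι.stalkMap x')).commRingCatIsoToRingEquiv
  have hgenU : maximalIdeal ((U : Scheme.{u}).presheaf.stalk x') =
      Ideal.span {(U : Scheme.{u}).presheaf.germ ⊤ x' trivial (b 0), (U : Scheme.{u}).presheaf.germ ⊤ x' trivial (b 1)} := by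
    rw [← IsLocalRing.eq_maximalIdeal (Ideal.map_isMaximal_of_equiv eU (p := maximalIdeal (C.presheaf.stalk x))),
      hgen, Ideal.map_span, Set.image_pair, hb0, hb1]
    rfl
  have hmem : ∀ i, nx (0 : k) i ∈ (f x').asIdeal := by
    intro i
    by_contra hni
    let P := (f x').asIdeal
    haveI : P.IsPrime := (f x').isPrime
    have h1 : IsUnit ((StructureSheaf.toStalk (StrictSS.NodeAlg k (0 : k)) (f x')).hom (nx 0 i)) := by
      letI algL : Algebra (StrictSS.NodeAlg k (0 : k)) ((Spec (CommRingCat.of (StrictSS.NodeAlg k (0 : k)))).presheaf.stalk (f x')) :=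
        (StructureSheaf.toStalk (StrictSS.NodeAlg k (0 : k)) (f x')).hom.toAlgebra
      haveI : IsLocalization.AtPrime (R := StrictSS.NodeAlg k (0 : k)) ((Spec (CommRingCat.of (StrictSS.NodeAlg k (0 : k)))).presheaf.stalk (f x')) P :=
        StructureSheaf.IsLocalization.to_stalk (R := StrictSS.NodeAlg k (0 : k)) (f x')
      exact IsLocalization.map_units (M := P.primeCompl) ((Spec (CommRingCat.of (StrictSS.NodeAlg k (0 : k)))).presheaf.stalk (f x')) ⟨nx 0 i, hni⟩
    have h2 := h1.map (f.stalkMap x').hom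
    change IsUnit (f.stalkMap x' ((StructureSheaf.toStalk (StrictSS.NodeAlg k (0 : k)) (f x')).hom (nx 0 i))) at h2
    rw [hgl] at h2
    refine (maximalIdeal.isMaximal ((U : Scheme.{u}).presheaf.stalk x')).ne_top (Ideal.eq_top_of_isUnit_mem _ ?_ h2)
    rw [hgenU]
    fin_cases i
    · exact Ideal.subset_span (Or.inl rfl)
    · exact Ideal.subset_span (Or.inr rfl)
  -- the local rings
  let L := (Spec (CommRingCat.of (StrictSS.NodeAlg k (0 : k)))).presheaf.stalk (f x')
  let A := (U : Scheme.{u}).presheaf.stalk x'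
  haveI : (f x').asIdeal.IsPrime := (f x').isPrime
  letI algL : Algebra (StrictSS.NodeAlg k (0 : k)) L := (StructureSheaf.toStalk (StrictSS.NodeAlg k (0 : k)) (f x')).hom.toAlgebra
  haveI : IsLocalization.AtPrime (R := StrictSS.NodeAlg k (0 : k)) L (f x').asIdeal :=
    StructureSheaf.IsLocalization.to_stalk (R := StrictSS.NodeAlg k (0 : k)) (f x')
  letI algLA : Algebra L A := (f.stalkMap x').hom.toAlgebra
  letI algkL : Algebra k L := ((algebraMap (StrictSS.NodeAlg k (0 : k)) L).comp (algebraMap k _)).toAlgebra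
  letI algkA : Algebra k A := ((algebraMap L A).comp (algebraMap k L)).toAlgebra
  haveI : IsScalarTower k L A := IsScalarTower.of_algebraMap_eq' rfl
  haveI : IsLocalHom (algebraMap L A) := inferInstanceAs <| IsLocalHom (f.stalkMap x').hom
  haveI : IsNoetherianRing (StrictSS.NodeAlg k (0 : k)) := inferInstance
  haveI : IsNoetherianRing L := IsLocalization.isNoetherianRing (f x').asIdeal.primeCompl L inferInstance
  haveI : LocallyOfFiniteType q := inferInstance
  haveI : IsLocallyNoetherian (U : Scheme.{u}) := LocallyOfFiniteType.isLocallyNoetherian q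
  haveI : IsNoetherianRing A := inferInstance
  obtain ⟨hgenL, hresL⟩ := node_local_data (f x').asIdeal L hmem
  have hstr : algebraMap k A = eU.toRingHom.comp (strMap φ x) := by
    have e1 : algebraMap k A = strMap (f ≫ StrictSS.nodeToBase k (0 : k)) x' := by
      rw [strMap_comp, strMap_SpecMap]
      rfl
    rw [e1, hf, show eU.toRingHom = (U.ι.stalkMap x').hom from rfl, strMap_comp]
    rfl
  have hresA : Function.Surjective ((residue A).comp (algebraMap k A)) := by
    intro r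
    obtain ⟨a', rfl⟩ := residue_surjective r
    obtain ⟨a, rfl⟩ := eU.surjective a'
    obtain ⟨c, hc⟩ := hres (residue _ a)
    refine ⟨c, Ideal.Quotient.eq.mpr ?_⟩
    rw [hstr, ← IsLocalRing.eq_maximalIdeal (Ideal.map_isMaximal_of_equiv eU (p := maximalIdeal (C.presheaf.stalk x)))]
    have h1 := Ideal.mem_map_of_mem eU (Ideal.Quotient.eq.mp hc)
    rw [map_sub] at h1
    exact h1
  have hnil : ∀ (i : Fin 2) (n : ℕ), algebraMap L A (algebraMap (StrictSS.NodeAlg k (0 : k)) L (nx 0 i)) ^ n ≠ 0 := by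
    intro i n h0
    change (f.stalkMap x' ((StructureSheaf.toStalk (StrictSS.NodeAlg k (0 : k)) (f x')).hom (nx 0 i))) ^ n = 0 at h0
    rw [hgl] at h0
    fin_cases i
    · change ((U : Scheme.{u}).presheaf.germ ⊤ x' trivial (b 0)) ^ n = 0 at h0
      rw [hb0] at h0
      change (eU _) ^ n = 0 at h0
      exact hu n (eU.injective ((map_pow eU _ n).trans (h0.trans (map_zero _).symm)))
    · change ((U : Scheme.{u}).presheaf.germ ⊤ x' trivial (b 1)) ^ n = 0 at h0
      rw [hb1] at h0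
      change (eU _) ^ n = 0 at h0
      exact hv n (eU.injective ((map_pow eU _ n).trans (h0.trans (map_zero _).symm)))
  have hgenA : maximalIdeal A = Ideal.span {algebraMap L A (algebraMap (StrictSS.NodeAlg k (0 : k)) L (nx 0 0)),
      algebraMap L A (algebraMap (StrictSS.NodeAlg k (0 : k)) L (nx 0 1))} := by
    rw [hgenU, ← hgl 0, ← hgl 1]
    rfl
  obtain ⟨hflat, hmax, hsurj⟩ := node_map_flat (k := k) (algebraMap (StrictSS.NodeAlg k (0 : k)) L (nx 0 0))
    (algebraMap (StrictSS.NodeAlg k (0 : k)) L (nx 0 1)) (by rw [← map_mul, nx_mul, RingHom.map_zero (algebraMap k (StrictSS.NodeAlg k (0 : k))), RingHom.map_zero])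
    hgenL hresL hgenA hresA (hnil 0) (hnil 1)
  -- etale
  haveI : LocallyOfFiniteType f := by
    haveI : LocallyOfFiniteType (f ≫ StrictSS.nodeToBase k (0 : k)) := by rw [hf]; infer_instance
    exact locallyOfFiniteType_of_comp f (StrictSS.nodeToBase k (0 : k))
  haveI : LocallyOfFinitePresentation f := inferInstance
  haveI : Algebra.EssFiniteType L A := by
    rw [← RingHom.essFiniteType_algebraMap]
    exact LocallyOfFiniteType.stalkMap f x'
  haveI : Module.Finite (ResidueField L) (ResidueField A) :=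
    Module.Finite.of_surjective (Algebra.linearMap (ResidueField L) (ResidueField A)) hsurj
  haveI : Algebra.IsSeparable (ResidueField L) (ResidueField A) :=
    Algebra.IsSeparable.of_equiv_equiv (RingEquiv.refl _)
      (RingEquiv.ofBijective _ ⟨(algebraMap (ResidueField L) (ResidueField A)).injective, hsurj⟩) rfl
  haveI hunr : Algebra.FormallyUnramified L A := Algebra.FormallyUnramified.of_map_maximalIdeal hmax
  obtain ⟨W, hxW, hW⟩ := (EtStruct.etale_nhd_iff f x').mpr
    ⟨RingHom.formallyUnramified_algebraMap.mpr hunr, RingHom.flat_algebraMap_iff.mpr hflat⟩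
  refine ⟨CommRingCat.of k, 𝟙 _, inferInstance, U.ι ''ᵁ W, ⟨x', hxW, rfl⟩, (U.ι ''ᵁ W).ι ≫ φ,
    by rw [Category.comp_id], 0, (U.ι.isoImage W).inv ≫ W.ι ≫ f, inferInstance, ?_, ?_⟩
  · rw [Category.assoc, Category.assoc, hf, ← Scheme.Hom.isoImage_inv_ι, Category.assoc, Category.assoc]
  · rw [Set.disjoint_right]
    rintro _ ⟨y, -, rfl⟩
    exact (leOfHom iU y.2).2

end Groth.Agent.StrictSSLib
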