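import Groth.Agent.StrictSSLib.OdpDescentMain
import Mathlib.RingTheory.RegularLocalRing.Defs
import Mathlib.RingTheory.Flat.TorsionFree

/-!
# One-dimensional reduced quotients of a node
-/

set_option autoImplicit false
set_option linter.style.haveILetI false

universe u

open IsLocalRing
open scoped TensorProduct

noncomputable section

namespace Groth.Agent.StrictSSLib

variable {K : Type u} [Field K]

/-- An element alive on both axes generates an ideal containing a power of the maximal ideal. -/
theorem exists_pow_le_span {z : FormalNode K} (hz : ∀ i, nodeAxis i z ≠ 0) :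
    ∃ n : ℕ, maximalIdeal (FormalNode K) ^ n ≤ Ideal.span {z} := by
  have hrad : maximalIdeal (FormalNode K) ≤ (Ideal.span {z}).radical := by
    rw [maximalIdeal_formalNode, Ideal.span_le]
    have key : ∀ i j : Fin 2, j ≠ i → gen (K := K) i ∈ (Ideal.span {z}).radical := by
      intro i j hij
      obtain ⟨n, u, hu, -, hzu⟩ := exists_pow_unit (z * gen i) hij.symm
        (by rw [map_mul, nodeAxis_gen_ne hij.symm, mul_zero])
        (by rw [map_mul, nodeAxis_gen]; exact mul_ne_zero (hz i) PowerSeries.X_ne_zero)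
      have h1 : gen (K := K) i ^ n * u ∈ Ideal.span {z} := hzu ▸ Ideal.mul_mem_right _ _ (Ideal.subset_span rfl)
      exact ⟨n, (Ideal.mul_unit_mem_iff_mem _ hu).mp h1⟩
    rintro _ (rfl | rfl)
    · exact key 0 1 (by simp)
    · exact key 1 0 (by simp)
  exact Ideal.exists_pow_le_of_le_radical_of_fg hrad (IsNoetherian.noetherian _)

/-- An ideal with a nonzerodivisor modulo it is zero or a branch. -/
theorem node_quotient (J : Ideal (FormalNode K)) (hJ : J ≠ ⊥) (hJ' : J ≠ ⊤) {t : FormalNode K}
    (ht : t ∈ maximalIdeal (FormalNode K)) (hreg : ∀ x, t * x ∈ J → x ∈ J) :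
    ∃ j : Fin 2, J = Ideal.span {gen (K := K) j} := by
  have hone : ∀ {n : ℕ}, ¬ maximalIdeal (FormalNode K) ^ n ≤ J := by
    intro n h
    refine hJ' ((Ideal.eq_top_iff_one J).mpr ?_)
    have : ∀ m : ℕ, t ^ m ∈ J → (1 : FormalNode K) ∈ J := by
      intro m
      induction m with
      | zero => intro h; rwa [pow_zero] at h
      | succ m ih => intro h; exact ih (hreg _ (by rwa [← pow_succ']))
    exact this n (h (Ideal.pow_mem_pow ht n))
  have haxis : ∀ z ∈ J, ∃ i, nodeAxis i z = 0 := by
    intro z hz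
    by_contra hcon
    push Not at hcon
    obtain ⟨n, hn⟩ := exists_pow_le_span hcon
    exact hone (hn.trans ((Ideal.span_singleton_le_iff_mem _).mpr hz))
  obtain ⟨z, hzJ, hz0⟩ := Submodule.exists_mem_ne_zero_of_ne_bot hJ
  obtain ⟨i, hi⟩ := haxis z hzJ
  obtain ⟨j, hji⟩ : ∃ j : Fin 2, j ≠ i := exists_ne i
  have hj : nodeAxis j z ≠ 0 := fun h => hz0 (node_ext fun l => by
    rcases eq_or_ne l i with rfl | hl
    · exact hi
    · rw [show l = j by omega]; exact h)
  obtain ⟨n, u, hu, -, hzu⟩ := exists_pow_unit z hji hi hj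
  have hpow : gen (K := K) j ^ n ∈ J := (Ideal.mul_unit_mem_iff_mem _ hu).mp (hzu ▸ hzJ)
  have hgen : gen (K := K) j ∈ J := by
    have : ∀ m : ℕ, gen (K := K) j ^ (m + 1) ∈ J → gen (K := K) j ∈ J := by
      intro m
      induction m with
      | zero => intro h; rwa [zero_add, pow_one] at h
      | succ m ih =>
        intro h
        refine ih (hreg _ ?_)
        have ht' := ht
        rw [maximalIdeal_formalNode] at ht'
        obtain ⟨a, b, rfl⟩ := Ideal.mem_span_pair.mp ht'
        have hij : gen (K := K) i * gen j = 0 := gen_mul hji.symm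
        have e : (a * gen (K := K) 0 + b * gen 1) * gen j ^ (m + 1) = (if j = 0 then a else b) * gen j ^ (m + 1 + 1) := by
          obtain rfl | rfl : j = 0 ∨ j = 1 := by omega
          · rw [if_pos rfl, add_mul, mul_assoc b, pow_succ' (gen (K := K) 0) m, ← mul_assoc (gen (K := K) 1),
              gen_mul (by simp : (1 : Fin 2) ≠ 0)]
            ring
          · rw [if_neg (by simp), add_mul, mul_assoc a, pow_succ' (gen (K := K) 1) m, ← mul_assoc (gen (K := K) 0),
              gen_mul (by simp : (0 : Fin 2) ≠ 1)]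
            ring
        rw [e]
        exact Ideal.mul_mem_left _ _ h
    rcases n with _ | n
    · exact absurd (J.eq_top_of_isUnit_mem hpow (by rw [pow_zero]; exact isUnit_one)) hJ'
    · exact this n hpow
  refine ⟨j, le_antisymm (fun w hw => ?_) ((Ideal.span_singleton_le_iff_mem _).mpr hgen)⟩
  have hwi : nodeAxis i w = 0 := by
    by_contra hwi
    obtain ⟨m, v, hv, -, hwv⟩ := exists_pow_unit (w * gen i) hji.symm
      (by rw [map_mul, nodeAxis_gen_ne hji.symm, mul_zero])
      (by rw [map_mul, nodeAxis_gen]; exact mul_ne_zero hwi PowerSeries.X_ne_zero)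
    have h1 : gen (K := K) i ^ m ∈ J := (Ideal.mul_unit_mem_iff_mem _ hv).mp (hwv ▸ Ideal.mul_mem_right _ _ hw)
    have hrad : maximalIdeal (FormalNode K) ≤ J.radical := by
      rw [maximalIdeal_formalNode, Ideal.span_le]
      have h0 : ∀ l : Fin 2, gen (K := K) l ∈ J.radical := fun l => by
        rcases eq_or_ne l i with rfl | hl
        · exact ⟨m, h1⟩
        · rw [show l = j by omega]; exact Ideal.le_radical hgen
      rintro _ (rfl | rfl) <;> exact h0 _
    obtain ⟨N, hN⟩ := Ideal.exists_pow_le_of_le_radical_of_fg hrad (IsNoetherian.noetherian _)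
    exact hone hN
  rcases eq_or_ne w 0 with rfl | hw0
  · exact zero_mem _
  have hwj : nodeAxis j w ≠ 0 := fun h => hw0 (node_ext fun l => by
    rcases eq_or_ne l i with rfl | hl
    · exact hwi
    · rw [show l = j by omega]; exact h)
  obtain ⟨m, v, -, hm, hwv⟩ := exists_pow_unit w hji hwi hwj
  rw [hwv]
  exact Ideal.mem_span_singleton.mpr (Dvd.dvd.mul_right (dvd_pow_self _ (show m ≠ 0 by omega)) _)

variable {B B' : Type u} [CommRing B] [IsLocalRing B] [IsNoetherianRing B] [CommRing B'] [IsLocalRing B']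
  [Algebra B (FormalNode K)] [IsLocalHom (algebraMap B (FormalNode K))] [Module.Flat B (FormalNode K)]

/-- A quotient of a ring below a node with a nonzerodivisor in the maximal ideal is the ring or is regular. -/
theorem bijective_or_regular_of_node (hm : (maximalIdeal B).map (algebraMap B (FormalNode K)) = maximalIdeal (FormalNode K))
    (ψ : B →+* B') (hψ : Function.Surjective ψ) {t : B'} (ht : t ∈ maximalIdeal B') (hreg : IsRegular t) :
    Function.Bijective ψ ∨ IsRegularLocalRing B' := by
  haveI : Module.FaithfullyFlat B (FormalNode K) := Module.FaithfullyFlat.of_flat_of_isLocalHom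
  haveI : IsNoetherianRing B' := isNoetherianRing_of_surjective B B' ψ hψ
  haveI hloc : IsLocalHom ψ := .of_surjective ψ hψ
  by_cases hI : RingHom.ker ψ = ⊥
  · exact Or.inl ⟨(RingHom.injective_iff_ker_eq_bot ψ).mpr hI, hψ⟩
  refine Or.inr ?_
  set φ := algebraMap B (FormalNode K)
  obtain ⟨s, rfl⟩ := hψ t
  have hs : s ∈ maximalIdeal B := (mem_maximalIdeal _).mpr fun hu => (mem_maximalIdeal _).mp ht (hu.map ψ)
  have hregN : ∀ x, φ s * x ∈ (RingHom.ker ψ).map φ → x ∈ (RingHom.ker ψ).map φ := by
    set J := (RingHom.ker ψ).map φ with hJdef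
    have hs' : IsSMulRegular (B ⧸ RingHom.ker ψ) s := fun x y h => by
      obtain ⟨a, rfl⟩ := Ideal.Quotient.mk_surjective x
      obtain ⟨b, rfl⟩ := Ideal.Quotient.mk_surjective y
      simp only [Algebra.smul_def, Ideal.Quotient.algebraMap_eq, ← map_mul, Ideal.Quotient.eq, RingHom.mem_ker,
        map_sub, sub_eq_zero] at h ⊢
      rw [map_mul, map_mul] at h
      exact hreg.left h
    intro x hx
    have hN : IsSMulRegular (FormalNode K ⊗[B] (B ⧸ RingHom.ker ψ)) s :=
      IsSMulRegular.lTensor (M := FormalNode K) hs'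
    let e : (FormalNode K ⊗[B] (B ⧸ RingHom.ker ψ)) ≃ₐ[FormalNode K] FormalNode K ⧸ J :=
      (Algebra.TensorProduct.quotIdealMapEquivTensorQuot (FormalNode K) (RingHom.ker ψ)).symm
    rw [← Ideal.Quotient.eq_zero_iff_mem] at hx ⊢
    refine e.symm.injective ((hN ?_).trans (map_zero _).symm)
    show s • e.symm (Ideal.Quotient.mk J x) = s • (0 : _)
    rw [smul_zero, ← algebraMap_smul (FormalNode K) s, ← map_smul]
    show e.symm (Ideal.Quotient.mk J (φ s * x)) = 0
    rw [hx, map_zero]
  have hJ : (RingHom.ker ψ).map φ ≠ ⊥ := fun h => hI ((Ideal.map_eq_bot_iff_of_injective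
    (FaithfulSMul.algebraMap_injective B (FormalNode K))).mp h)
  have hker : RingHom.ker ψ ≤ maximalIdeal B := le_maximalIdeal (RingHom.ker_ne_top ψ)
  have hJ' : (RingHom.ker ψ).map φ ≠ ⊤ := fun h => (maximalIdeal.isMaximal (FormalNode K)).ne_top
    (top_le_iff.mp (h ▸ (Ideal.map_mono hker).trans hm.le))
  obtain ⟨j, hj⟩ := node_quotient _ hJ hJ' (map_mem_max hm hs) hregN
  obtain ⟨i, hij⟩ : ∃ i : Fin 2, i ≠ j := exists_ne j
  obtain ⟨b, hb, hbl⟩ : ∃ b ∈ maximalIdeal B, axLin i (φ b) ≠ 0 := by
    obtain ⟨a, ha, b, hb, hdet⟩ := exists_gen_pair hm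
    by_contra hcon
    push Not at hcon
    obtain rfl | rfl : i = 0 ∨ i = 1 := by omega
    all_goals exact hdet (by rw [hcon a ha, hcon b hb]; ring)
  have hmax : maximalIdeal B ≤ Ideal.span {b} ⊔ RingHom.ker ψ := by
    rw [← Ideal.comap_map_eq_self_of_faithfullyFlat (B := FormalNode K) (Ideal.span {b} ⊔ RingHom.ker ψ),
      ← Ideal.map_le_iff_le_comap, hm, Ideal.map_sup, Ideal.map_span, Set.image_singleton, hj]
    refine Submodule.le_of_le_smul_of_le_jacobson_bot (I := maximalIdeal (FormalNode K)) (IsNoetherian.noetherian _)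
      (IsLocalRing.maximalIdeal_le_jacobson _) fun w hw => ?_
    let c : FormalNode K := Ideal.Quotient.mk _ (MvPowerSeries.C (axLin i w / axLin i (φ b)))
    have hcc : axConst i c = axLin i w / axLin i (φ b) := by
      simp [c, axConst, nodeAxis_mk, axisSeries, ← PowerSeries.coeff_zero_eq_constantCoeff_apply]
    have hd : w - c * φ b ∈ maximalIdeal (FormalNode K) := sub_mem hw (Ideal.mul_mem_left _ c (map_mem_max hm hb))
    have hl : axLin i (w - c * φ b) = 0 := by
      have : axLin i w = axLin i (w - c * φ b) + axLin i (c * φ b) := by rw [← axLin_add, sub_add_cancel]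
      rw [axLin_mul i c (map_mem_max hm hb), hcc, div_mul_cancel₀ _ hbl] at this
      linear_combination -this
    have hd' := hd
    rw [maximalIdeal_formalNode] at hd'
    obtain ⟨r, r', hr⟩ := Ideal.mem_span_pair.mp hd'
    rw [show w = c * φ b + (w - c * φ b) by ring, ← hr]
    refine add_mem (Submodule.mem_sup_left (Submodule.mem_sup_left (Ideal.mul_mem_left _ _ (Ideal.subset_span rfl)))) ?_
    rw [← hr, axLin_add, axLin_mul i r (gen_mem 0), axLin_mul i r' (gen_mem 1)] at hl
    obtain ⟨rfl, rfl⟩ | ⟨rfl, rfl⟩ : (i = 0 ∧ j = 1) ∨ (i = 1 ∧ j = 0) := by omega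
    · refine add_mem (Submodule.mem_sup_right ?_) (Submodule.mem_sup_left (Submodule.mem_sup_right (Ideal.mul_mem_left _ _ (Ideal.subset_span rfl))))
      rw [smul_eq_mul]
      exact Ideal.mul_mem_mul (mem_max_of_axConst 0 (by simpa [axLin_gen] using hl)) (gen_mem 0)
    · refine add_mem (Submodule.mem_sup_left (Submodule.mem_sup_right (Ideal.mul_mem_left _ _ (Ideal.subset_span rfl)))) (Submodule.mem_sup_right ?_)
      rw [smul_eq_mul]
      exact Ideal.mul_mem_mul (mem_max_of_axConst 1 (by simpa [axLin_gen] using hl)) (gen_mem 1)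
  have hmax' : maximalIdeal B' = Ideal.span {ψ b} := by
    refine le_antisymm (fun x hx => ?_) ((Ideal.span_singleton_le_iff_mem _).mpr ?_)
    · obtain ⟨x, rfl⟩ := hψ x
      obtain ⟨y, hy, z, hz, hyz⟩ := Submodule.mem_sup.mp
        (hmax ((mem_maximalIdeal _).mpr fun hu => (mem_maximalIdeal _).mp hx (hu.map ψ)))
      obtain ⟨r, rfl⟩ := Ideal.mem_span_singleton'.mp hy
      rw [← hyz, map_add, RingHom.mem_ker.mp hz, add_zero, map_mul]
      exact Ideal.mul_mem_left _ _ (Ideal.subset_span rfl)
    · exact map_nonunit ψ b hb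
  refine IsRegularLocalRing.of_spanFinrank_maximalIdeal_le B' ?_
  have h1 : (maximalIdeal B').spanFinrank ≤ 1 := by
    rw [hmax']
    exact (Submodule.spanFinrank_span_le_ncard_of_finite (Set.finite_singleton _)).trans (by simp)
  have h2 : (1 : WithBot ℕ∞) ≤ ringKrullDim B' := by
    by_contra hcon
    haveI : Ring.KrullDimLE 0 B' := Ring.krullDimLE_iff.mpr (by
      have h3 := not_le.mp hcon
      revert h3
      generalize ringKrullDim B' = d
      cases d with
      | bot => exact fun _ => bot_le
      | coe d =>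
        intro h3
        have h4 : d < 1 := WithBot.coe_lt_coe.mp h3
        rw [ENat.lt_one_iff_eq_zero] at h4
        subst h4
        exact le_refl _)
    obtain ⟨n, hn⟩ := Ring.KrullDimLE.isNilpotent_iff_mem_maximalIdeal.mpr ht
    exact (hreg.pow n).ne_zero hn
  exact le_trans (by exact_mod_cast h1) h2

end Groth.Agent.StrictSSLib
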