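import Groth.Agent.StrictSSLib.NodalBaseChange
import Groth.Agent.StrictSSLib.NodeQuotient
import Groth.Agent.GeomLoc.SmoothRegular
import Groth.Agent.FBase.BC

/-!
# Reduced closed subcurves of at-worst-nodal curves
-/

set_option autoImplicit false
set_option linter.style.haveILetI false

universe u

open CategoryTheory CategoryTheory.Limits AlgebraicGeometry IsLocalRing

noncomputable section

namespace Groth.Agent.StrictSSLib

/-- Closed points of a reduced curve carry a nonzerodivisor. -/
theorem exists_isRegular_mem {Y : Scheme.{u}} [IsReduced Y] [IsLocallyNoetherian Y]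
    (hdim : ∀ Z ∈ irreducibleComponents (Y : Type u), topologicalKrullDim Z = 1) {y : Y}
    (hy : IsClosed ({y} : Set Y)) : ∃ t ∈ maximalIdeal (Y.presheaf.stalk y), IsRegular t := by
  set A := Y.presheaf.stalk y
  have hmin : maximalIdeal A ∉ minimalPrimes A := by
    intro h
    haveI : Ring.KrullDimLE 0 A := Ring.krullDimLE_zero_iff.mpr fun P hP => by
      have h1 : P ≤ maximalIdeal A := le_maximalIdeal hP.ne_top
      rw [le_antisymm h1 (h.2 ⟨hP, bot_le⟩ h1)]
      infer_instance
    have h2 : Order.coheight y = 0 := by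
      have h3 : ringKrullDim A ≤ (0 : ℕ) := Ring.krullDimLE_iff.mp ‹_›
      rw [ringKrullDim_stalk_eq_coheight] at h3
      exact le_antisymm (by exact_mod_cast h3) bot_le
    have hZ : closure {y} ∈ irreducibleComponents (Y : Type u) :=
      (FlatMor.GenericPts.closure_mem_irreducibleComponents_iff _).mpr fun z hz =>
        Order.coheight_eq_zero.mp h2 (show y ≤ z from hz)
    rw [hy.closure_eq] at hZ
    have h4 := hdim _ hZ
    have h5 : topologicalKrullDim ({y} : Set Y) ≤ 0 := by
      haveI : Subsingleton (TopologicalSpace.IrreducibleCloseds ({y} : Set Y)) := ⟨fun a b => by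
        ext z
        obtain ⟨za, hza⟩ := a.isIrreducible.nonempty
        obtain ⟨zb, hzb⟩ := b.isIrreducible.nonempty
        constructor
        · intro _; rwa [Subsingleton.elim z zb]
        · intro _; rwa [Subsingleton.elim z za]⟩
      exact Order.krullDim_nonpos_of_subsingleton
    rw [h4] at h5
    exact absurd h5 (not_le.mpr zero_lt_one)
  have hfin : (minimalPrimes A).Finite := minimalPrimes.finite_of_isNoetherianRing A
  have hnot : ¬ ((maximalIdeal A : Set A) ⊆ ⋃ P ∈ (hfin.toFinset : Set (Ideal A)), (P : Set A)) := by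
    rw [Ideal.subset_union_prime ⊥ ⊥ fun P hP _ _ => (hfin.mem_toFinset.mp hP).1.1]
    rintro ⟨P, hP, hle⟩
    rw [hfin.mem_toFinset] at hP
    exact hmin ((maximalIdeal.isMaximal A).eq_of_le hP.1.1.ne_top hle ▸ hP)
  obtain ⟨t, ht, ht'⟩ := Set.not_subset.mp hnot
  refine ⟨t, ht, (isRegular_iff_eq_zero_of_mul).mpr ⟨?_, ?_⟩⟩
  all_goals
    intro x hx
    refine IsReduced.eq_zero x ?_
    rw [← mem_nilradical, nilradical, ← Ideal.sInf_minimalPrimes]
    refine Submodule.mem_sInf.mpr fun P hP => ?_
    have htP : t ∉ P := fun h => ht' (Set.mem_biUnion (Finset.mem_coe.mpr (hfin.mem_toFinset.mpr hP)) h)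
    first
      | exact ((hP.1.1.mem_or_mem (show t * x ∈ P from hx ▸ zero_mem P)).resolve_left htP)
      | exact ((hP.1.1.mem_or_mem (show x * t ∈ P from hx ▸ zero_mem P)).resolve_right htP)

/-- A regular local ring of dimension at most one has no proper quotient with a nonzerodivisor in the maximal ideal. -/
theorem bijective_of_domain {B B' : Type u} [CommRing B] [IsDomain B] [IsLocalRing B] [Ring.KrullDimLE 1 B]
    [CommRing B'] [IsLocalRing B'] (ψ : B →+* B') (hψ : Function.Surjective ψ) {t : B'}
    (ht : t ∈ maximalIdeal B') (hreg : IsRegular t) : Function.Bijective ψ := by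
  refine ⟨(RingHom.injective_iff_ker_eq_bot ψ).mpr ?_, hψ⟩
  by_contra hne
  obtain ⟨s, rfl⟩ := hψ t
  have hs : s ∈ maximalIdeal B := (mem_maximalIdeal _).mpr fun hu => (mem_maximalIdeal _).mp ht (hu.map ψ)
  have hrad : s ∈ (RingHom.ker ψ).radical := by
    rw [Ideal.radical_eq_sInf]
    refine Submodule.mem_sInf.mpr fun P ⟨hle, hP⟩ => ?_
    have hmax : Ideal.IsMaximal P := Ideal.IsPrime.isMaximal_of_ne_bot hP fun h => hne (le_bot_iff.mp (h ▸ hle))
    rwa [eq_maximalIdeal hmax]
  obtain ⟨n, hn⟩ := hrad
  exact (hreg.pow n).ne_zero (by rw [← map_pow]; exact hn)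

/-- A reduced closed subcurve of an at-worst-nodal curve is at worst nodal. -/
theorem atWorstNodal_of_closedImmersion {k : Type u} [Field k] (X : Scheme.{u}) [X.Over (Spec (CommRingCat.of k))]
    [LocallyOfFiniteType (X ↘ Spec (CommRingCat.of k))]
    (hdim : ∀ Z ∈ irreducibleComponents (X : Type u), topologicalKrullDim Z = 1)
    (hX : Curv2.AtWorstNodal k X) {Y : Scheme.{u}} (ι : Y ⟶ X) [IsClosedImmersion ι] [IsReduced Y]
    (hY : ∀ Z ∈ irreducibleComponents (Y : Type u), topologicalKrullDim Z = 1) :
    @Curv2.AtWorstNodal k _ Y ⟨ι ≫ (X ↘ Spec (CommRingCat.of k))⟩ := by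
  let φ := X ↘ Spec (CommRingCat.of k)
  letI : Y.Over (Spec (CommRingCat.of k)) := ⟨ι ≫ φ⟩
  intro y hy
  let K := AlgebraicClosure k
  let P := Curv2.bcFst k X K
  let π := Curv2.bcSnd k X K
  let Q := Curv2.bcFst k Y K
  let ρ := Curv2.bcSnd k Y K
  have h1 : IsPullback P π φ (Spec.map (CommRingCat.ofHom (algebraMap k K))) := IsPullback.of_hasPullback _ _
  have h2 : IsPullback Q ρ (ι ≫ φ) (Spec.map (CommRingCat.ofHom (algebraMap k K))) := IsPullback.of_hasPullback _ _
  let j := h1.lift (Q ≫ ι) ρ (by rw [Category.assoc]; exact h2.w)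
  have hj1 : j ≫ P = Q ≫ ι := h1.lift_fst _ _ _
  have hj2 : j ≫ π = ρ := h1.lift_snd _ _ _
  have hjsq : IsPullback j Q P ι :=
    IsPullback.of_right (by rw [hj2]; exact h2.flip) hj1 h1.flip
  haveI : IsClosedImmersion j := MorphismProperty.of_isPullback (P := @IsClosedImmersion) hjsq.flip inferInstance
  haveI hb : Flat (Spec.map (CommRingCat.ofHom (algebraMap k K))) := by
    rw [HasRingHomProperty.Spec_iff (P := @Flat)]
    exact RingHom.flat_algebraMap_iff.mpr inferInstance
  haveI : LocallyOfFiniteType (ι ≫ φ) := inferInstance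
  haveI : Flat Q := MorphismProperty.of_isPullback (P := @Flat) h2.flip inferInstance
  haveI : LocallyOfFiniteType ρ := MorphismProperty.of_isPullback h2 inferInstance
  haveI : LocallyOfFiniteType π := MorphismProperty.of_isPullback h1 inferInstance
  haveI : IsLocallyNoetherian Y := LocallyOfFiniteType.isLocallyNoetherian (ι ≫ φ)
  haveI : IsLocallyNoetherian (Curv2.bc k X K) := LocallyOfFiniteType.isLocallyNoetherian π
  haveI : IsLocallyNoetherian (Curv2.bc k Y K) := LocallyOfFiniteType.isLocallyNoetherian ρ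
  obtain ⟨yb, hyb⟩ : ∃ yb : Curv2.bc k Y K, Q yb = y := by
    obtain ⟨yb, hyb, -⟩ := Scheme.Pullback.exists_preimage_pullback (f := ι ≫ φ)
      (g := Spec.map (CommRingCat.ofHom (algebraMap k K))) y (IsLocalRing.closedPoint K)
      (Subsingleton.elim (α := PrimeSpectrum k) _ _)
    exact ⟨yb, hyb⟩
  have hybc : IsClosed ({yb} : Set (Curv2.bc k Y K)) := isClosed_singleton_of_over_closed h2 (by rw [show Q yb = y from hyb]; exact hy)
  have hxc : IsClosed ({ι y} : Set X) := by
    have := ι.isClosedMap _ hy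
    rwa [Set.image_singleton] at this
  have hxb : P (j yb) = ι y := by
    show (j ≫ P) yb = ι y
    rw [hj1, Scheme.Hom.comp_apply, show Q yb = y from hyb]
  have hxbc : IsClosed ({j yb} : Set (Curv2.bc k X K)) := isClosed_singleton_of_over_closed h1 (by rw [hxb]; exact hxc)
  let B := (Curv2.bc k X K).presheaf.stalk (j yb)
  let B' := (Curv2.bc k Y K).presheaf.stalk yb
  let ψ : B →+* B' := (j.stalkMap yb).hom
  have hψ : Function.Surjective ψ := j.stalkMap_surjective yb
  obtain ⟨t, ht, hreg⟩ : ∃ t ∈ maximalIdeal B', IsRegular t := by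
    obtain ⟨t, ht, hreg⟩ := exists_isRegular_mem hY (y := Q yb) (by rw [show Q yb = y from hyb]; exact hy)
    letI : Algebra (Y.presheaf.stalk (Q yb)) B' := (Q.stalkMap yb).hom.toAlgebra
    haveI : Module.Flat (Y.presheaf.stalk (Q yb)) B' := RingHom.flat_algebraMap_iff.mp (Flat.stalkMap Q yb)
    refine ⟨algebraMap _ B' t, map_nonunit (Q.stalkMap yb).hom t ht, ?_⟩
    have hs : IsSMulRegular B' t := Module.Flat.isSMulRegular_of_isRegular hreg
    refine (isRegular_iff_eq_zero_of_mul).mpr ⟨fun x hx => ?_, fun x hx => ?_⟩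
    · exact hs (by show t • x = t • 0; rw [smul_zero, Algebra.smul_def]; exact hx)
    · exact hs (by show t • x = t • 0; rw [smul_zero, Algebra.smul_def, mul_comm]; exact hx)
  suffices h : IsRegularLocalRing B' ∨ (IsOdpAt π (j yb) ∧ Function.Bijective ψ) by
    rcases h with h | ⟨hord, hbij⟩
    · left
      haveI : LocallyOfFinitePresentation ρ := inferInstance
      haveI : LocallyOfFinitePresentation (ι ≫ φ) := inferInstance
      letI : (Curv2.bc k Y K).Over (Spec (CommRingCat.of K)) := ⟨ρ⟩
      haveI : LocallyOfFinitePresentation ((Curv2.bc k Y K) ↘ Spec (CommRingCat.of K)) := inferInstanceAs (LocallyOfFinitePresentation ρ)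
      have hs : yb ∈ ρ.smoothLocus := (GeomLoc.mem_smoothLocus_iff_isRegularLocalRing (k := K) yb (by
        letI := Curv2.resAlgebra K (Curv2.bc k Y K) yb
        exact FBase.TensorAlgClosed.isGeometricallyReduced_of_perfectField)).mpr h
      rw [S2155.result (ι ≫ φ) _ ρ Q h2 (Or.inr hb)] at hs
      haveI := smooth_smoothLocus (ι ≫ φ)
      exact ⟨(ι ≫ φ).smoothLocus, hyb ▸ hs, smooth_smoothLocus (ι ≫ φ)⟩
    · right
      refine ⟨hy, yb, hyb, ?_⟩
      letI : Algebra K B := (strMap π (j yb)).toAlgebra
      letI : Algebra K B' := (strMap ρ yb).toAlgebra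
      letI : Algebra B B' := ψ.toAlgebra
      haveI : IsLocalHom (algebraMap B B') := IsLocalHom.of_surjective ψ hψ
      haveI : Module.Flat B B' := RingHom.flat_algebraMap_iff.mp (RingHom.Flat.of_bijective hbij)
      exact isOrdDoublePt_of_map_maximalIdeal (k := K) (A := B) (eq_maximalIdeal (Ideal.map_isMaximal_of_equiv
        (RingEquiv.ofBijective ψ hbij) (p := maximalIdeal B))) (residue_surjective_of_isClosed ρ hybc) hord
  have hdim' := fun Z hZ => (topDim_components_baseChange φ hdim h1 Z hZ).le
  by_cases hnode : Curv2.IsNode k X (ι y)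
  · obtain ⟨-, zb, hzb, hord⟩ := hnode
    have hord' : IsOdpAt π (j yb) := isOdpAt_of_over_same h1
      (isClosed_singleton_of_over_closed h1 (by rw [show P zb = ι y from hzb]; exact hxc)) hxbc
      ((show P zb = ι y from hzb).trans hxb.symm) hord
    obtain ⟨e, he⟩ := id hord'
    letI : Algebra B (FormalNode K) := (e.toRingHom.comp (algebraMap B (AdicCompletion (maximalIdeal B) B))).toAlgebra
    haveI : IsLocalHom e.toRingHom := ⟨fun a ha => (isLocalHom_equiv e).map_nonunit a ha⟩
    haveI : IsLocalHom (algebraMap B (FormalNode K)) := RingHom.isLocalHom_comp _ _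
    haveI : Module.Flat B (FormalNode K) := RingHom.flat_algebraMap_iff.mp
      ((RingHom.flat_algebraMap_iff.mpr inferInstance).comp (RingHom.Flat.of_bijective e.bijective))
    have hm : (maximalIdeal B).map (algebraMap B (FormalNode K)) = maximalIdeal (FormalNode K) := by
      show (maximalIdeal B).map (e.toRingHom.comp (algebraMap B (AdicCompletion (maximalIdeal B) B))) = _
      rw [← Ideal.map_map, ← AdicCompletion.maximalIdeal_eq_map (R := B)]
      exact eq_maximalIdeal (Ideal.map_isMaximal_of_equiv e)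
    rcases bijective_or_regular_of_node hm ψ hψ ht hreg with h | h
    · exact Or.inr ⟨hord', h⟩
    · exact Or.inl h
  · refine Or.inl ?_
    have hxs := mem_smoothLocus_of_atWorstNodal X (fun Z hZ => (hdim Z hZ).le) hX hnode
    haveI : LocallyOfFinitePresentation φ := inferInstance
    haveI : LocallyOfFinitePresentation π := inferInstance
    have hs : j yb ∈ π.smoothLocus := by
      rw [S2155.result φ _ π P h1 (Or.inr hb)]
      show P (j yb) ∈ φ.smoothLocus
      rw [hxb]; exact hxs
    haveI := smooth_smoothLocus π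
    haveI := CurveDVR.isRegularLocalRing_stalk (π.smoothLocus.ι ≫ π) ⟨j yb, hs⟩
    haveI : IsRegularLocalRing B :=
      IsRegularLocalRing.of_ringEquiv (π.smoothLocus.stalkIso ⟨j yb, hs⟩).commRingCatIsoToRingEquiv
    haveI := RegLoc.isDomain B
    haveI : Ring.KrullDimLE 1 B := krullDimLE_of_coheight_le (z := j yb) (n := 1) (by
      refine Order.coheight_le fun p hp => ?_
      by_contra hlen
      push Not at hlen
      have h2le : 2 ≤ p.length := by exact_mod_cast hlen
      have e01 : p ⟨0, by omega⟩ < p ⟨1, by omega⟩ := p.strictMono (by simp [Fin.lt_def])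
      have e12 : p ⟨1, by omega⟩ < p ⟨2, by omega⟩ := p.strictMono (by simp [Fin.lt_def])
      rcases isClosed_or_coheight_eq_zero hdim' (p ⟨1, by omega⟩) with h | h
      · have h' := specializes_iff_mem_closure.mp (show p ⟨1, by omega⟩ ⤳ p ⟨0, by omega⟩ from e01.le)
        rw [h.closure_eq] at h'
        exact e01.ne (Set.mem_singleton_iff.mp h')
      · exact e12.not_ge (Order.coheight_eq_zero.mp h e12.le))
    exact IsRegularLocalRing.of_ringEquiv (RingEquiv.ofBijective ψ (bijective_of_domain ψ hψ ht hreg))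

end Groth.Agent.StrictSSLib
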