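import Groth.Agent.StrictSSLib.NodalFamily

/-!
# Nodal curves and descent along field extensions
-/

set_option autoImplicit false
set_option linter.style.haveILetI false

universe u

open CategoryTheory CategoryTheory.Limits AlgebraicGeometry TopologicalSpace

noncomputable section

namespace Groth.Agent.StrictSSLib

/-- A curve is nodal if its base change to a field extension is. -/
theorem IsNodalCurve.of_isPullback {k : Type u} [Field k] {X : Scheme.{u}} {φ : X ⟶ Spec (CommRingCat.of k)}
    [LocallyOfFiniteType φ] {K : Type u} [Field K] [Algebra k K] {Y : Scheme.{u}} {P : Y ⟶ X}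
    {π : Y ⟶ Spec (CommRingCat.of K)} (hK : IsPullback P π φ (Spec.map (CommRingCat.ofHom (algebraMap k K))))
    (h : IsNodalCurve π) : IsNodalCurve φ := by
  letI : X.Over (Spec (CommRingCat.of k)) := ⟨φ⟩
  haveI hb : Flat (Spec.map (CommRingCat.ofHom (algebraMap k K))) := by
    rw [HasRingHomProperty.Spec_iff (P := @Flat)]
    exact RingHom.flat_algebraMap_iff.mpr inferInstance
  haveI : Flat P := MorphismProperty.of_isPullback (P := @Flat) hK.flip inferInstance
  haveI : LocallyOfFiniteType π := MorphismProperty.of_isPullback hK inferInstance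
  have hsurj : ∀ x : X, ∃ y, P y = x := fun x => by
    obtain ⟨y, hy, -⟩ := Scheme.Pullback.exists_preimage_pullback (f := φ)
      (g := Spec.map (CommRingCat.ofHom (algebraMap k K))) x (IsLocalRing.closedPoint K)
      (Subsingleton.elim (α := PrimeSpectrum k) _ _)
    refine ⟨hK.isoPullback.inv y, ?_⟩
    rw [← Scheme.Hom.comp_apply, IsPullback.isoPullback_inv_fst]
    exact hy
  have hdim : ∀ Z ∈ irreducibleComponents (X : Type u), topologicalKrullDim Z = 1 := by
    refine components_dim_eq_one_of_points (fun x => ?_) fun x h0 hx => ?_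
    · by_cases hg : ∀ z : X, z ⤳ x → z = x
      · exact Or.inr (CycLib.coheight_eq_zero_of_maximal hg)
      push Not at hg
      obtain ⟨z, hzx, hne⟩ := hg
      refine Or.inl (isClosed_of_closure_subset fun w hw => Set.mem_singleton_iff.2 (by_contra fun hwx => ?_))
      obtain ⟨w', rfl⟩ := hsurj w
      obtain ⟨x', hx'w, hx'⟩ := Flat.generalizingMap P (specializes_iff_mem_closure.2 hw)
      obtain ⟨z', hz'x, hz'⟩ := Flat.generalizingMap P (hx'.symm ▸ hzx : z ⤳ P x')
      rcases isClosed_or_coheight_eq_zero (fun Z hZ => (h.1 Z hZ).le) x' with hc | hc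
      · have h4 := hx'w.mem_closure
        rw [hc.closure_eq] at h4
        exact hwx ((congrArg P (Set.mem_singleton_iff.1 h4)).trans hx')
      · exact hne (hz'.symm.trans ((congrArg P (hz'x.antisymm (Order.coheight_eq_zero.1 hc (show x' ≤ z' from hz'x))).eq).trans hx'))
    · obtain ⟨y, rfl⟩ := hsurj x
      obtain ⟨y', hy'c, hy'y⟩ := FlatMor.GenericPts.exists_generic_specializes y
      have hy'0 : Order.coheight y' = 0 := CycLib.coheight_eq_zero_of_maximal fun v hv =>
        (hv.antisymm ((FlatMor.GenericPts.closure_mem_irreducibleComponents_iff _).mp hy'c v hv)).eq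
      have hPy : P y' = P y := ((hy'y.map P.continuous).antisymm
        (Order.coheight_eq_zero.1 h0 (show P y ≤ P y' from hy'y.map P.continuous))).eq
      exact not_isClosed_of_coheight_eq_zero h.1 hy'0 (isClosed_singleton_of_over_closed hK (hPy ▸ hx))
  haveI : LocallyOfFinitePresentation φ := inferInstance
  haveI : LocallyOfFinitePresentation π := inferInstance
  haveI : LocallyOfFiniteType (X ↘ Spec (CommRingCat.of k)) := inferInstanceAs (LocallyOfFiniteType φ)
  refine ⟨hdim, (atWorstNodal_iff φ).mpr fun x hx => ?_⟩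
  obtain ⟨y, rfl⟩ := hsurj x
  rcases (atWorstNodal_iff π).mp h.2 y (isClosed_singleton_of_over_closed hK hx) with hs | hn
  · rw [S2155.result φ _ π P hK (Or.inr hb)] at hs
    exact Or.inl hs
  · exact Or.inr ((isNode_iff_of_isPullback X (fun Z hZ => (hdim Z hZ).le) hK y).mpr hn)

end Groth.Agent.StrictSSLib
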