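import Groth.Agent.S11549
import Groth.Agent.GeomFieldLib.NormalRing

/-!
# Normality of a flat local algebra over a discrete valuation ring from its generic and special fibres
-/

set_option autoImplicit false
set_option linter.style.haveILetI false

universe u

open IsLocalRing
open scoped TensorProduct

namespace Groth.Agent.StrictSSLib

theorem normal_of_flat_dvr {R A : Type u} [CommRing R] [IsDomain R] [IsDiscreteValuationRing R] [CommRing A]
    [IsLocalRing A] [IsNoetherianRing A] [Algebra R A] [IsLocalHom (algebraMap R A)] [Module.Flat R A]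
    (hgen : ∀ (q : Ideal A) [q.IsPrime], q.comap (algebraMap R A) = ⊥ →
      IsDomain (Localization.AtPrime q) ∧ IsIntegrallyClosed (Localization.AtPrime q))
    (hred : IsReduced (A ⧸ (maximalIdeal R).map (algebraMap R A))) : IsDomain A ∧ IsIntegrallyClosed A := by
  classical
  let K := FractionRing R
  letI : Algebra A (K ⊗[R] A) := Algebra.TensorProduct.rightAlgebra
  let M := Algebra.algebraMapSubmonoid A (nonZeroDivisors R)
  haveI : IsLocalization M (K ⊗[R] A) := IsLocalization.tensorRight K (nonZeroDivisors R)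
  haveI : IsNoetherianRing (K ⊗[R] A) := IsLocalization.isNoetherianRing M _ inferInstance
  have hinj : Function.Injective (algebraMap A (K ⊗[R] A)) :=
    Algebra.TensorProduct.includeRight_injective (IsFractionRing.injective R K)
  haveI : Nontrivial (K ⊗[R] A) := hinj.nontrivial
  have hN : EGA4.IsNormalRing (K ⊗[R] A) := by
    intro Q _
    let q := Q.comap (algebraMap A (K ⊗[R] A))
    have hdis : Disjoint (M : Set A) (q : Set A) := ((IsLocalization.isPrime_iff_isPrime_disjoint M _ Q).mp ‹_›).2
    obtain ⟨Q', hQ', hc, ⟨e⟩⟩ := GeomFieldLib.exists_localization_equiv (T := K ⊗[R] A) M q hdis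
    have hQQ : Q' = Q := by
      exact (IsLocalization.map_comap M _ Q').symm.trans ((congrArg _ hc).trans (IsLocalization.map_comap M _ Q))
    subst hQQ
    refine GeomFieldLib.isDomain_isIC_congr e.symm (hgen q ?_)
    refine (Submodule.eq_bot_iff _).mpr fun r hr => ?_
    by_contra hr0
    exact Set.disjoint_left.mp hdis ⟨r, mem_nonZeroDivisors_of_ne_zero hr0, rfl⟩ hr
  obtain ⟨ϖ, hϖ⟩ := IsDiscreteValuationRing.exists_irreducible R
  have hden : ∀ e : K ⊗[R] A, ∃ (n : ℕ) (a : A), algebraMap A _ (algebraMap R A ϖ ^ n) * e = algebraMap A _ a := by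
    intro e
    obtain ⟨⟨a, ⟨_, r, hr, rfl⟩⟩, h⟩ := IsLocalization.surj M e
    obtain ⟨n, u, hu⟩ := IsDiscreteValuationRing.eq_unit_mul_pow_irreducible (nonZeroDivisors.ne_zero hr) hϖ
    refine ⟨n, algebraMap R A (↑u⁻¹ : R) * a, ?_⟩
    have e1 : algebraMap R A ϖ ^ n = algebraMap R A (↑u⁻¹ : R) * algebraMap R A r := by
      rw [← map_mul, ← map_pow, hu, ← mul_assoc, Units.inv_mul, one_mul]
    rw [e1, map_mul, map_mul, mul_assoc, mul_comm (algebraMap A _ (algebraMap R A r)) e, h]
  have hidem : ∀ e : K ⊗[R] A, IsIdempotentElem e → e = 0 ∨ e = 1 := by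
    intro e he
    suffices h : ∃ a, e = algebraMap A _ a by
      obtain ⟨a, rfl⟩ := h
      have ha : a * a = a := hinj (by rw [map_mul]; exact he)
      rcases IsLocalRing.isUnit_or_isUnit_one_sub_self a with h | h
      · exact Or.inr (by rw [show a = 1 from h.mul_eq_left.mp ha, map_one])
      · refine Or.inl ?_
        rw [show a = 0 from h.mul_left_eq_zero.mp (by rw [mul_sub, mul_one, ha, sub_self]), map_zero]
    obtain ⟨n, a, h⟩ := hden e
    induction n generalizing a with
    | zero => exact ⟨a, by simpa using h⟩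
    | succ n ih =>
      have hsq : a * a = algebraMap R A ϖ ^ (n + 1) * a := hinj (by
        rw [map_mul, map_mul, ← h]
        linear_combination (algebraMap A (K ⊗[R] A) (algebraMap R A ϖ ^ (n + 1))) ^ 2 * he.eq)
      have ha : a ∈ (maximalIdeal R).map (algebraMap R A) := by
        have := hred
        rw [← Ideal.Quotient.eq_zero_iff_mem]
        refine IsReduced.eq_zero _ ⟨2, ?_⟩
        rw [pow_two, ← map_mul, hsq, Ideal.Quotient.eq_zero_iff_mem, pow_succ, mul_comm (algebraMap R A ϖ ^ n), mul_assoc]
        exact Ideal.mul_mem_right _ _ (Ideal.mem_map_of_mem _ (hϖ.maximalIdeal_eq ▸ Ideal.mem_span_singleton_self ϖ))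
      rw [hϖ.maximalIdeal_eq, Ideal.map_span, Set.image_singleton, Ideal.mem_span_singleton'] at ha
      obtain ⟨b, rfl⟩ := ha
      refine ih b ?_
      rw [pow_succ, map_mul, map_mul] at h
      have hu : IsUnit (algebraMap A (K ⊗[R] A) (algebraMap R A ϖ)) :=
        IsLocalization.map_units (K ⊗[R] A) (⟨_, ϖ, mem_nonZeroDivisors_of_ne_zero hϖ.ne_zero, rfl⟩ : M)
      refine hu.mul_left_cancel ?_
      linear_combination h
  obtain ⟨hd, hic⟩ := GeomFieldLib.isDomain_isIC_of_connected hN (minimalPrimes.finite_of_isNoetherianRing _) hidem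
  exact S11549.result R A hred

end Groth.Agent.StrictSSLib
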