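import Groth.Agent.StrictSSLib.NodeRegular
import Groth.Agent.StrictSSLib.OdpEtale
import Mathlib.RingTheory.AdicCompletion.LocalRing
import Mathlib.AlgebraicGeometry.Pullbacks

/-!
# The local ring under an ordinary double point is not regular
-/

set_option autoImplicit false
set_option linter.style.haveILetI false
set_option maxSynthPendingDepth 4

universe u

open CategoryTheory CategoryTheory.Limits AlgebraicGeometry IsLocalRing
open scoped TensorProduct

noncomputable section

namespace Groth.Agent.StrictSSLib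

/-- Approximation in a completion modulo the square of the maximal ideal. -/
theorem exists_sub_mem_sq {K : Type u} [Field K] {B : Type u} [CommRing B] [IsLocalRing B] [IsNoetherianRing B]
    (e : AdicCompletion (maximalIdeal B) B ≃+* FormalNode K) (z : FormalNode K) :
    ∃ b : B, z - e (algebraMap B _ b) ∈ maximalIdeal (FormalNode K) ^ 2 := by
  obtain ⟨l, hl⟩ := Submodule.Quotient.mk_surjective _ ((e.symm z).1 2)
  refine ⟨l, ?_⟩
  have h : (algebraMap B (AdicCompletion (maximalIdeal B) B)) l - e.symm z ∈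
      (maximalIdeal B) ^ 2 • (⊤ : Submodule B (AdicCompletion (maximalIdeal B) B)) := by
    rw [AdicCompletion.algebraMap_apply, AdicCompletion.pow_smul_top_eq_ker_eval (maximalIdeal B).fg_of_isNoetherianRing]
    simpa [AdicCompletion.eval, sub_eq_zero] using hl
  rw [Ideal.smul_top_eq_map, Submodule.restrictScalars_mem, Ideal.map_pow, ← AdicCompletion.maximalIdeal_eq_map] at h
  have h' := Ideal.mem_map_of_mem e.toRingHom h
  rw [Ideal.map_pow] at h'
  have hle : (maximalIdeal (AdicCompletion (maximalIdeal B) B)).map e.toRingHom ≤ maximalIdeal (FormalNode K) :=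
    ((local_hom_TFAE e.toRingHom).out 0 2 rfl rfl).mp ⟨fun a ha => (isLocalHom_equiv e).map_nonunit a ha⟩
  have h'' : e.toRingHom (algebraMap B _ l - e.symm z) ∈ maximalIdeal (FormalNode K) ^ 2 := Ideal.pow_right_mono hle 2 h'
  rw [map_sub, show e.toRingHom (e.symm z) = z from e.apply_symm_apply z] at h''
  rw [← neg_sub]
  exact neg_mem h''

theorem germ_app_congr {X Y : Scheme.{u}} {f f' : X ⟶ Y} (h : f = f') (U : Y.Opens) (x : X) (hx : f x ∈ U)
    (hx' : f' x ∈ U) (r : Γ(Y, U)) :
    X.presheaf.germ (f ⁻¹ᵁ U) x hx (f.app U r) = X.presheaf.germ (f' ⁻¹ᵁ U) x hx' (f'.app U r) := by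
  subst h
  rfl

/-- Germs of pullbacks of sections of an affine open along a map of spectra. -/
theorem germ_app_SpecMap_fromSpec {C : Scheme.{u}} {U : C.Opens} (hU : IsAffineOpen U) {S : CommRingCat.{u}}
    (f : Γ(C, U) ⟶ S) (p : Spec S) (h : (Spec.map f ≫ hU.fromSpec) p ∈ U) (r : Γ(C, U)) :
    (Spec S).presheaf.germ _ p h ((Spec.map f ≫ hU.fromSpec).app U r) = (StructureSheaf.toStalk S p).hom (f r) := by
  rw [Scheme.Hom.comp_app, hU.fromSpec_app_self]
  change (Spec S).presheaf.germ (Spec.map f ⁻¹ᵁ (hU.fromSpec ⁻¹ᵁ U)) p h ((Spec.map f).app _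
    ((Spec Γ(C, U)).presheaf.map _ ((Scheme.ΓSpecIso Γ(C, U)).inv r))) = _
  rw [← Scheme.Hom.germ_stalkMap_apply (Spec.map f) (hU.fromSpec ⁻¹ᵁ U) p h]
  erw [TopCat.Presheaf.germ_res_apply]
  erw [Scheme.Hom.germ_stalkMap_apply (Spec.map f) ⊤ p trivial]
  exact congrArg ((Spec S).presheaf.germ ⊤ p trivial)
    (DFunLike.congr_fun (congrArg CommRingCat.Hom.hom (Scheme.ΓSpecIso_inv_naturality f)) r).symm

variable {k K : Type u} [Field k] [Field K] [Algebra k K] [Algebra.IsAlgebraic k K]

/-- Under an ordinary double point of an algebraic base change the local ring is not regular. -/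
theorem not_isRegularLocalRing_of_isOdpAt {C Y : Scheme.{u}} {φ : C ⟶ Spec (CommRingCat.of k)} [LocallyOfFiniteType φ]
    {P : Y ⟶ C} {π : Y ⟶ Spec (CommRingCat.of K)}
    (hpb : IsPullback P π φ (Spec.map (CommRingCat.ofHom (algebraMap k K)))) (y : Y)
    (hx : IsClosed ({P y} : Set C)) (hord : IsOdpAt π y) : ¬ IsRegularLocalRing (C.presheaf.stalk (P y)) := by
  intro hreg
  haveI : LocallyOfFiniteType π := MorphismProperty.of_isPullback hpb inferInstance
  haveI : IsLocallyNoetherian Y := LocallyOfFiniteType.isLocallyNoetherian π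
  haveI : Flat P := MorphismProperty.of_isPullback (P := @Flat) hpb.flip inferInstance
  obtain ⟨U, hU, hxU, -⟩ := exists_isAffineOpen_mem_and_subset (x := P y) (U := ⊤) trivial
  let R := Γ(C, U)
  letI algR : Algebra k R := (Coh.toGlobal φ |> (C.presheaf.map (homOfLE (le_top (a := U))).op).hom.comp).toAlgebra
  let g : Spec R ⟶ C := hU.fromSpec
  have hg : g ≫ φ = Spec.map (CommRingCat.ofHom (algebraMap k R)) := by
    have h0 := IsAffineOpen.SpecMap_appLE_fromSpec φ (isAffineOpen_top (Spec (CommRingCat.of k))) hU (show U ≤ φ ⁻¹ᵁ ⊤ from le_top)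
    rw [IsAffineOpen.fromSpec_top, Scheme.isoSpec_Spec_inv, ← Spec.map_comp] at h0
    exact h0.symm
  haveI : Algebra.FiniteType k R := by
    have h0 := LocallyOfFiniteType.finiteType_appLE (f := φ) (isAffineOpen_top (Spec (CommRingCat.of k))) hU (show U ≤ φ ⁻¹ᵁ ⊤ from le_top)
    exact h0.comp (RingHom.FiniteType.of_surjective _
      ((ConcreteCategory.isIso_iff_bijective (Scheme.ΓSpecIso (CommRingCat.of k)).inv).mp inferInstance).2)
  let iL : CommRingCat.of R ⟶ CommRingCat.of (R ⊗[k] K) := CommRingCat.ofHom Algebra.TensorProduct.includeLeftRingHom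
  let iR : CommRingCat.of K ⟶ CommRingCat.of (R ⊗[k] K) :=
    CommRingCat.ofHom (Algebra.TensorProduct.includeRight.toRingHom : K →+* R ⊗[k] K)
  have h1 : IsPullback (Spec.map iL) (Spec.map iR) (Spec.map (CommRingCat.ofHom (algebraMap k R)))
      (Spec.map (CommRingCat.ofHom (algebraMap k K))) :=
    isPullback_SpecMap_of_isPushout _ _ _ _ (CommRingCat.isPushout_tensorProduct k R K)
  rw [← hg] at h1
  let g' : Spec (CommRingCat.of (R ⊗[k] K)) ⟶ Y :=
    hpb.lift (Spec.map iL ≫ g) (Spec.map iR) (by rw [Category.assoc]; exact h1.w)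
  have hg'P : g' ≫ P = Spec.map iL ≫ g := hpb.lift_fst _ _ _
  have hg'π : g' ≫ π = Spec.map iR := hpb.lift_snd _ _ _
  have hsq : IsPullback g' (Spec.map iL) P g := by
    refine IsPullback.of_right ?_ hg'P hpb.flip
    rw [hg'π]
    exact h1.flip
  haveI : IsOpenImmersion g' := MorphismProperty.of_isPullback (P := @IsOpenImmersion) hsq.flip inferInstance
  obtain ⟨t, ht⟩ : P y ∈ Set.range g := by rw [hU.range_fromSpec]; exact hxU
  obtain ⟨z, hz, -⟩ := Scheme.Pullback.exists_preimage_pullback (f := P) (g := g) y t ht.symm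
  obtain ⟨p, rfl⟩ : ∃ p, g' p = y :=
    ⟨hsq.isoPullback.inv z, by rw [← Scheme.Hom.comp_apply, hsq.isoPullback_inv_fst]; exact hz⟩
  let B := Y.presheaf.stalk (g' p)
  let A := C.presheaf.stalk (P (g' p))
  letI algB : Algebra K B := (Coh.toGlobal π |> (Y.presheaf.germ ⊤ (g' p) trivial).hom.comp).toAlgebra
  obtain ⟨e, -⟩ : Curv2.IsOrdDoublePt K B := hord
  let ι := AdicCompletion (maximalIdeal B) B
  let toN : B →+* FormalNode K := e.toRingHom.comp (algebraMap B ι)
  haveI : IsLocalHom toN := by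
    haveI : IsLocalHom e.toRingHom := ⟨fun a ha => (isLocalHom_equiv e).map_nonunit a ha⟩
    exact RingHom.isLocalHom_comp _ _
  have htoN : toN.Flat := (RingHom.flat_algebraMap_iff.mpr inferInstance).comp (RingHom.Flat.of_bijective e.bijective)
  let α : A →+* FormalNode K := toN.comp (P.stalkMap (g' p)).hom
  letI algAN : Algebra A (FormalNode K) := α.toAlgebra
  haveI : IsLocalHom (algebraMap A (FormalNode K)) := RingHom.isLocalHom_comp toN (P.stalkMap (g' p)).hom
  haveI : Module.Flat A (FormalNode K) :=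
    RingHom.flat_algebraMap_iff.mp ((Flat.stalkMap P (g' p)).comp htoN)
  haveI : IsRegularLocalRing A := hreg
  -- the affine chart
  let xU : U := ⟨P (g' p), hxU⟩
  letI algRA : Algebra R A := (C.presheaf.germ U _ hxU).hom.toAlgebra
  let q := (hU.primeIdealOf xU).asIdeal
  haveI : IsLocalization.AtPrime A q := hU.isLocalization_stalk xU
  haveI : q.IsMaximal := by
    have h2 : IsClosed ({hU.primeIdealOf xU} : Set (Spec R)) := by
      have e2 : ({hU.primeIdealOf xU} : Set (Spec R)) = g ⁻¹' {P (g' p)} := by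
        ext w
        simp only [Set.mem_singleton_iff, Set.mem_preimage]
        exact ⟨fun h => h ▸ hU.fromSpec_primeIdealOf xU,
          fun h => g.isOpenEmbedding.injective (h.trans (hU.fromSpec_primeIdealOf xU).symm)⟩
      rw [e2]
      exact hx.preimage g.continuous
    exact (PrimeSpectrum.isClosed_singleton_iff_isMaximal _).mp h2
  let S := (Spec (CommRingCat.of (R ⊗[k] K))).presheaf.stalk p
  let σ := asIso (g'.stalkMap p)
  let h : R ⊗[k] K →+* FormalNode K :=
    toN.comp (σ.inv.hom.comp (StructureSheaf.toStalk (R ⊗[k] K) p).hom)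
  refine not_principal_of_node q h (A := A) ?_ ?_ (isPrincipal_of_regular (K := K))
  · intro r
    show toN (σ.inv ((StructureSheaf.toStalk (R ⊗[k] K) p).hom (iL r))) = toN (P.stalkMap (g' p) (algebraMap R A r))
    congr 1
    have key : σ.hom (P.stalkMap (g' p) (algebraMap R A r)) = (StructureSheaf.toStalk (R ⊗[k] K) p).hom (iL r) := by
      have hx1 : (g' ≫ P) p ∈ U := hxU
      have hx2 : (Spec.map iL ≫ g) p ∈ U := hg'P ▸ hx1
      refine Eq.trans ?_ (((germ_app_congr hg'P U p hx1 hx2 r)).trans (germ_app_SpecMap_fromSpec hU iL p hx2 r))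
      show g'.stalkMap p (P.stalkMap (g' p) (C.presheaf.germ U (P (g' p)) hxU r)) = _
      rw [Scheme.Hom.germ_stalkMap_apply P U (g' p) hxU, Scheme.Hom.germ_stalkMap_apply g' (P ⁻¹ᵁ U) p hxU]
      rfl
    rw [← key, ← CategoryTheory.comp_apply, Iso.hom_inv_id]
    rfl
  · intro i
    obtain ⟨b, hb⟩ := exists_sub_mem_sq e (gen i)
    letI algS : Algebra (R ⊗[k] K) S := (StructureSheaf.toStalk (R ⊗[k] K) p).hom.toAlgebra
    haveI : p.asIdeal.IsPrime := p.isPrime
    haveI : IsLocalization.AtPrime S p.asIdeal := StructureSheaf.IsLocalization.to_stalk (R ⊗[k] K) p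
    obtain ⟨⟨r, s⟩, hrs⟩ := IsLocalization.surj p.asIdeal.primeCompl (σ.hom b)
    have hs : IsUnit (h s) := ((IsLocalization.map_units S s).map σ.inv.hom).map toN
    refine ⟨r, s, hs, ?_⟩
    have hr : h r = toN b * h s := by
      show toN (σ.inv (algebraMap (R ⊗[k] K) S r)) = toN b * toN (σ.inv (algebraMap (R ⊗[k] K) S s))
      rw [← hrs, map_mul, ← CategoryTheory.comp_apply, Iso.hom_inv_id, map_mul]
      rfl
    rw [hr, ← sub_mul]
    refine Ideal.mul_mem_right _ _ ?_
    rw [← neg_sub]
    exact neg_mem hb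

end Groth.Agent.StrictSSLib
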