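import Groth.Agent.StrictSSLib.NodalBaseChange
import Groth.Agent.AlgSpCov.Instances
import Groth.Agent.AlgSpD.EtaleTop

/-!
# At-worst-nodal curves and etale maps
-/

set_option autoImplicit false
set_option linter.style.haveILetI false

universe u

open CategoryTheory CategoryTheory.Limits AlgebraicGeometry TopologicalSpace

noncomputable section

namespace Groth.Agent.StrictSSLib

/-- Smooth points can be tested after an etale map. -/
theorem mem_smoothLocus_comp_iff {W X S : Scheme.{u}} (g : W ⟶ X) [Etale g] (φ : X ⟶ S)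
    [LocallyOfFinitePresentation φ] (w : W) : w ∈ (g ≫ φ).smoothLocus ↔ g w ∈ φ.smoothLocus := by
  constructor
  · intro h
    let U := (g ≫ φ).smoothLocus
    haveI := smooth_smoothLocus (g ≫ φ)
    let e := U.ι ≫ g
    haveI : Etale e := inferInstance
    let V : X.Opens := ⟨Set.range e, e.isOpenMap.isOpen_range⟩
    let e' : (U : Scheme.{u}) ⟶ (V : Scheme.{u}) := IsOpenImmersion.lift V.ι e (by rw [Scheme.Opens.range_ι]; rfl)
    have he' : e' ≫ V.ι = e := IsOpenImmersion.lift_fac _ _ _
    haveI : Etale (e' ≫ V.ι) := by rw [he']; infer_instance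
    haveI : Etale e' := Etale.of_comp e' V.ι
    haveI : Surjective e' := ⟨fun v => by
      obtain ⟨a, ha⟩ := v.2
      exact ⟨a, V.ι.isOpenEmbedding.injective (by rw [← Scheme.Hom.comp_apply, he']; exact ha)⟩⟩
    haveI : Smooth (e' ≫ V.ι ≫ φ) := by
      rw [← Category.assoc, he', Category.assoc]; infer_instance
    haveI : Smooth (V.ι ≫ φ) := AlgSpCov.smooth_of_comp_smooth e' (V.ι ≫ φ) inferInstance
    exact mem_smoothLocus_of_comp V.ι φ ⟨g w, ⟨w, h⟩, rfl⟩
  · intro h
    haveI := smooth_smoothLocus φ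
    let U : W.Opens := g ⁻¹ᵁ φ.smoothLocus
    haveI : Smooth (U.ι ≫ g ≫ φ) := by
      rw [← Category.assoc, ← morphismRestrict_ι, Category.assoc]; infer_instance
    exact mem_smoothLocus_of_comp U.ι (g ≫ φ) ⟨w, h⟩

/-- Closed points correspond along locally quasi-finite maps of schemes of finite type over a field. -/
theorem isClosed_singleton_iff_of_lqf {k : Type u} [Field k] {W X : Scheme.{u}} (g : W ⟶ X)
    [LocallyQuasiFinite g] [LocallyOfFiniteType g] (φ : X ⟶ Spec (CommRingCat.of k)) [LocallyOfFiniteType φ] (w : W) :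
    IsClosed ({w} : Set W) ↔ IsClosed ({g w} : Set X) := by
  haveI : JacobsonSpace X := LocallyOfFiniteType.jacobsonSpace φ
  refine ⟨fun h => g.closePoints_subset_preimage_closedPoints h, fun h => ?_⟩
  refine isClosed_of_closure_subset fun y hy => Set.mem_singleton_iff.mpr ?_
  have hwy : w ⤳ y := specializes_iff_mem_closure.mpr hy
  have e : g y ∈ closure {g w} := (hwy.map g.continuous).mem_closure
  rw [h.closure_eq] at e
  exact (AlgSpD.eq_of_specializes_of_apply_eq g hwy (Set.mem_singleton_iff.mp e).symm).symm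

/-- A maximal point of a curve is not closed. -/
theorem not_isClosed_of_coheight_eq_zero {Y : Scheme.{u}}
    (hdim : ∀ Z ∈ irreducibleComponents (Y : Type u), topologicalKrullDim Z = 1) {y : Y}
    (h0 : Order.coheight y = 0) : ¬ IsClosed ({y} : Set Y) := by
  intro hy
  have hZ : closure {y} ∈ irreducibleComponents (Y : Type u) :=
    (FlatMor.GenericPts.closure_mem_irreducibleComponents_iff _).mpr fun z hz =>
      Order.coheight_eq_zero.mp h0 (show y ≤ z from hz)
  rw [hy.closure_eq] at hZ
  have h4 := hdim _ hZ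
  have h5 : topologicalKrullDim ({y} : Set Y) ≤ 0 := by
    haveI : Subsingleton (IrreducibleCloseds ({y} : Set Y)) := ⟨fun a b => by
      ext z
      obtain ⟨za, hza⟩ := a.isIrreducible.nonempty
      obtain ⟨zb, hzb⟩ := b.isIrreducible.nonempty
      constructor
      · intro _; rwa [Subsingleton.elim z zb]
      · intro _; rwa [Subsingleton.elim z za]⟩
    exact Order.krullDim_nonpos_of_subsingleton
  rw [h4] at h5
  exact absurd h5 (not_le.mpr zero_lt_one)

/-- Curves from the behaviour of their points. -/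
theorem components_dim_eq_one_of_points {Y : Scheme.{u}}
    (h1 : ∀ y : Y, IsClosed ({y} : Set Y) ∨ Order.coheight y = 0)
    (h2 : ∀ y : Y, Order.coheight y = 0 → ¬ IsClosed ({y} : Set Y)) :
    ∀ Z ∈ irreducibleComponents (Y : Type u), topologicalKrullDim Z = 1 := by
  intro Z hZ
  refine le_antisymm ((Topology.IsInducing.subtypeVal.topologicalKrullDim_le).trans ?_) ?_
  · show Order.krullDim (IrreducibleCloseds Y) ≤ 1
    rw [Order.krullDim_eq_of_orderIso (irreducibleSetEquivPoints (α := Y))]
    refine Order.krullDim_le_one_iff.mpr fun y => (h1 y).imp (fun h z hz => ?_) fun h => Order.coheight_eq_zero.mp h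
    have h3 : z ∈ closure {y} := (show y ⤳ z from hz).mem_closure
    rw [h.closure_eq] at h3
    exact (Set.mem_singleton_iff.mp h3).ge
  · obtain ⟨w, hw⟩ : ∃ w, IsGenericPoint w Z :=
      QuasiSober.sober hZ.1 (isClosed_of_mem_irreducibleComponents Z hZ)
    have hw0 : Order.coheight w = 0 := CycLib.coheight_eq_zero_of_maximal fun v hv =>
      (hv.antisymm (FBase.Topo.specializes_of_isGenericPoint_component hZ hw hv)).eq
    have hwc := h2 w hw0
    obtain ⟨y, hy, hyw⟩ : ∃ y ∈ closure ({w} : Set Y), y ≠ w := by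
      by_contra hcon
      push Not at hcon
      exact hwc (isClosed_of_closure_subset fun z hz => hcon z hz)
    let c : Z → IrreducibleCloseds Z := fun z => ⟨closure {z}, isIrreducible_singleton.closure, isClosed_closure⟩
    have hyZ : y ∈ Z := hw.def ▸ hy
    have hwy : (⟨w, hw.mem⟩ : Z) ⤳ ⟨y, hyZ⟩ := (subtype_specializes_iff _ _).mpr (specializes_iff_mem_closure.mpr hy)
    have hlt : c ⟨y, hyZ⟩ < c ⟨w, hw.mem⟩ := by
      refine lt_of_le_of_ne (show closure {(⟨y, hyZ⟩ : Z)} ⊆ closure {⟨w, hw.mem⟩} from hwy.closure_subset) fun h => hyw ?_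
      exact (Inseparable.eq ((inseparable_iff_closure_eq.2 (congrArg (fun s : IrreducibleCloseds Z => (s : Set Z)) h)).map continuous_subtype_val))
    let ser : LTSeries (IrreducibleCloseds Z) := (RelSeries.singleton _ (c ⟨y, hyZ⟩)).snoc (c ⟨w, hw.mem⟩) hlt
    exact Order.LTSeries.length_le_krullDim ser

/-- Components of a scheme etale over a curve are curves. -/
theorem components_dim_of_etale {k : Type u} [Field k] {W X : Scheme.{u}} (g : W ⟶ X) [Etale g]
    (φ : X ⟶ Spec (CommRingCat.of k)) [LocallyOfFiniteType φ]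
    (hdim : ∀ Z ∈ irreducibleComponents (X : Type u), topologicalKrullDim Z = 1) :
    ∀ Z ∈ irreducibleComponents (W : Type u), topologicalKrullDim Z = 1 := by
  haveI := lqf_of_etale g
  refine components_dim_eq_one_of_points (fun w => ?_) fun w h0 hw => ?_
  · rcases isClosed_or_coheight_eq_zero (fun Z hZ => (hdim Z hZ).le) (g w) with h | h
    · exact Or.inl ((isClosed_singleton_iff_of_lqf g φ w).mpr h)
    · exact Or.inr (le_antisymm (h ▸ AlgSpD.coheight_le_apply g w) bot_le)
  · exact not_isClosed_of_coheight_eq_zero hdim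
      (le_antisymm (h0 ▸ AlgSpD.coheight_apply_le g (Flat.generalizingMap g) w) bot_le)
      ((isClosed_singleton_iff_of_lqf g φ w).mp hw)

/-- Nodes are invariant under etale maps. -/
theorem isNode_comp_iff {k : Type u} [Field k] {W X : Scheme.{u}} (g : W ⟶ X) [Etale g]
    (φ : X ⟶ Spec (CommRingCat.of k)) [LocallyOfFiniteType φ] (w : W) :
    @Curv2.IsNode k _ W ⟨g ≫ φ⟩ w ↔ @Curv2.IsNode k _ X ⟨φ⟩ (g w) := by
  letI : X.Over (Spec (CommRingCat.of k)) := ⟨φ⟩
  letI : W.Over (Spec (CommRingCat.of k)) := ⟨g ≫ φ⟩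
  haveI := lqf_of_etale g
  let K := AlgebraicClosure k
  let b := Spec.map (CommRingCat.ofHom (algebraMap k K))
  let P := Curv2.bcFst k X K
  let π := Curv2.bcSnd k X K
  let Q := Curv2.bcFst k W K
  let ρ := Curv2.bcSnd k W K
  have h1 : IsPullback P π φ b := IsPullback.of_hasPullback _ _
  have h2 : IsPullback Q ρ (g ≫ φ) b := IsPullback.of_hasPullback _ _
  let gK := h1.lift (Q ≫ g) ρ (by rw [Category.assoc]; exact h2.w)
  have hg1 : gK ≫ P = Q ≫ g := h1.lift_fst _ _ _
  have hg2 : gK ≫ π = ρ := h1.lift_snd _ _ _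
  have hsq : IsPullback gK Q P g := IsPullback.of_right (by rw [hg2]; exact h2.flip) hg1 h1.flip
  haveI : Etale gK := MorphismProperty.of_isPullback (P := @Etale) hsq.flip inferInstance
  haveI : LocallyOfFiniteType π := MorphismProperty.of_isPullback h1 inferInstance
  have happ : ∀ v, P (gK v) = g (Q v) := fun v => by
    rw [← Scheme.Hom.comp_apply, hg1, Scheme.Hom.comp_apply]
  constructor
  · rintro ⟨hw, v, hv, hord⟩
    have hgw := (isClosed_singleton_iff_of_lqf g φ w).mp hw
    refine ⟨hgw, gK v, (happ v).trans (congrArg g hv), ?_⟩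
    have hc : IsClosed ({gK v} : Set (Curv2.bc k X K)) :=
      isClosed_singleton_of_over_closed h1 (by rw [happ, show Q v = w from hv]; exact hgw)
    exact (isOdpAt_iff_of_etale π gK v hc).mpr (hg2 ▸ hord)
  · rintro ⟨hgw, xb, hxb, hord⟩
    obtain ⟨v, hv⟩ : ∃ v : Curv2.bc k W K, Q v = w := by
      obtain ⟨v, hv, -⟩ := Scheme.Pullback.exists_preimage_pullback (f := g ≫ φ)
        (g := b) w (IsLocalRing.closedPoint K) (Subsingleton.elim (α := PrimeSpectrum k) _ _)
      exact ⟨v, hv⟩
    refine ⟨(isClosed_singleton_iff_of_lqf g φ w).mpr hgw, v, hv, ?_⟩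
    have hc : IsClosed ({gK v} : Set (Curv2.bc k X K)) :=
      isClosed_singleton_of_over_closed h1 (by rw [happ, show Q v = w from hv]; exact hgw)
    have hord' := isOdpAt_of_over_same h1
      (isClosed_singleton_of_over_closed h1 (by rw [show P xb = g w from hxb]; exact hgw)) hc
      ((show P xb = g w from hxb).trans ((happ v).trans (congrArg g hv)).symm) hord
    show IsOdpAt ρ v
    rw [← hg2]
    exact (isOdpAt_iff_of_etale π gK v hc).mp hord'

end Groth.Agent.StrictSSLib
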