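import Groth.Agent.StrictSSLib.NodePoint
import Groth.Agent.EtStruct.Completion

/-!
# A map between two node points is flat and unramified
-/

set_option autoImplicit false
set_option linter.style.haveILetI false

universe u

open IsLocalRing

noncomputable section

namespace Groth.Agent.StrictSSLib

/-- The map of completions attached to a local homomorphism. -/
theorem exists_completionHom (L A : Type u) [CommRing L] [IsLocalRing L] [CommRing A] [IsLocalRing A] [Algebra L A]
    [IsLocalHom (algebraMap L A)] :
    ∃ χ : AdicCompletion (maximalIdeal L) L →+* AdicCompletion (maximalIdeal A) A,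
      ∀ l, χ (algebraMap L _ l) = algebraMap A _ (algebraMap L A l) := by
  have hle : ∀ n : ℕ, maximalIdeal L ^ n ≤ (maximalIdeal A ^ n).comap (algebraMap L A) := fun n => by
    rw [← Ideal.map_le_iff_le_comap, Ideal.map_pow]
    exact Ideal.pow_right_mono (((local_hom_TFAE (algebraMap L A)).out 0 2 rfl rfl).mp inferInstance) n
  let f : ∀ n : ℕ, AdicCompletion (maximalIdeal L) L →+* A ⧸ maximalIdeal A ^ n := fun n =>
    (Ideal.quotientMap (maximalIdeal A ^ n) (algebraMap L A) (hle n)).comp
      (AdicCompletion.evalₐ (maximalIdeal L) n).toRingHom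
  have hf : ∀ {m n : ℕ} (h : m ≤ n), (Ideal.Quotient.factorPow (maximalIdeal A) h).comp (f n) = f m := by
    intro m n h
    refine RingHom.ext fun x => ?_
    obtain ⟨s, rfl⟩ := AdicCompletion.mk_surjective _ _ x
    simp only [f, RingHom.comp_apply, AlgHom.toRingHom_eq_coe, RingHom.coe_coe, AdicCompletion.evalₐ_mk,
      Ideal.quotientMap_mk, Ideal.Quotient.factorPow, Ideal.Quotient.factor_mk]
    rw [Ideal.Quotient.eq, ← map_sub]
    have hs : Ideal.Quotient.mk (maximalIdeal L ^ m) (s.val m) = Ideal.Quotient.mk (maximalIdeal L ^ m) (s.val n) := by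
      have := s.property h
      rwa [SModEq.sub_mem, smul_eq_mul, Ideal.mul_top, ← Ideal.Quotient.eq] at this
    exact hle m (Ideal.Quotient.eq.mp hs.symm)
  refine ⟨AdicCompletion.liftRingHom (maximalIdeal A) f hf, fun l => AdicCompletion.ext_evalₐ fun n => ?_⟩
  rw [AdicCompletion.evalₐ_liftRingHom, AlgHom.commutes]
  simp only [f, RingHom.comp_apply, AlgHom.toRingHom_eq_coe, RingHom.coe_coe, AlgHom.commutes,
    Ideal.Quotient.algebraMap_eq, Ideal.quotientMap_mk]

/-- A local map between two node points matching the branches is flat and unramified. -/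
theorem node_map_flat {k : Type u} [Field k] {L A : Type u} [CommRing L] [IsLocalRing L] [IsNoetherianRing L]
    [CommRing A] [IsLocalRing A] [IsNoetherianRing A] [Algebra k L] [Algebra k A] [Algebra L A]
    [IsScalarTower k L A] [IsLocalHom (algebraMap L A)]
    (a b : L) (hab : a * b = 0) (hgenL : maximalIdeal L = Ideal.span {a, b})
    (hresL : Function.Surjective ((residue L).comp (algebraMap k L)))
    (hgenA : maximalIdeal A = Ideal.span {algebraMap L A a, algebraMap L A b})
    (hresA : Function.Surjective ((residue A).comp (algebraMap k A)))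
    (ha : ∀ n : ℕ, algebraMap L A a ^ n ≠ 0) (hb : ∀ n : ℕ, algebraMap L A b ^ n ≠ 0) :
    Module.Flat L A ∧ (maximalIdeal L).map (algebraMap L A) = maximalIdeal A ∧
      Function.Surjective (algebraMap (ResidueField L) (ResidueField A)) := by
  have hmap : (maximalIdeal L).map (algebraMap L A) = maximalIdeal A := by
    rw [hgenL, Ideal.map_span, Set.image_pair, hgenA]
  have hresLA : Function.Surjective (algebraMap (ResidueField L) (ResidueField A)) := fun r => by
    obtain ⟨c, rfl⟩ := hresA r
    refine ⟨residue L (algebraMap k L c), ?_⟩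
    rw [RingHom.comp_apply, IsScalarTower.algebraMap_apply k L A]
    rfl
  refine ⟨?_, hmap, hresLA⟩
  have haL : ∀ n : ℕ, a ^ n ≠ 0 := fun n h => ha n (by rw [← map_pow, h, map_zero])
  have hbL : ∀ n : ℕ, b ^ n ≠ 0 := fun n h => hb n (by rw [← map_pow, h, map_zero])
  obtain ⟨χ, hχ⟩ := exists_completionHom L A
  obtain ⟨ψ, hψ⟩ := CAlg48.PSEval.exists_algHom (k := k) (maximalIdeal (AdicCompletion (maximalIdeal L) L))
    ![algebraMap L (AdicCompletion (maximalIdeal L) L) a, algebraMap L (AdicCompletion (maximalIdeal L) L) b] (by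
      intro i
      rw [AdicCompletion.maximalIdeal_eq_map (R := L), hgenL]
      fin_cases i
      · exact Ideal.mem_map_of_mem _ (Ideal.subset_span (Or.inl rfl))
      · exact Ideal.mem_map_of_mem _ (Ideal.subset_span (Or.inr rfl)))
  have hψ0 : ψ (MvPowerSeries.X 0) = algebraMap L _ a := by simpa using hψ 0
  have hψ1 : ψ (MvPowerSeries.X 1) = algebraMap L _ b := by simpa using hψ 1
  let ψ' : MvPowerSeries (Fin 2) k →ₐ[k] AdicCompletion (maximalIdeal A) A :=
    { χ.comp ψ.toRingHom with
      commutes' := fun c => by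
        show χ (ψ (algebraMap k _ c)) = _
        rw [AlgHom.commutes, IsScalarTower.algebraMap_apply k L (AdicCompletion (maximalIdeal L) L), hχ,
          ← IsScalarTower.algebraMap_apply k L A, ← IsScalarTower.algebraMap_apply] }
  have hψ'0 : ψ' (MvPowerSeries.X 0) = algebraMap A _ (algebraMap L A a) := (congrArg χ hψ0).trans (hχ a)
  have hψ'1 : ψ' (MvPowerSeries.X 1) = algebraMap A _ (algebraMap L A b) := (congrArg χ hψ1).trans (hχ b)
  have hs := psHom_surjective a b hgenL hresL ψ hψ0 hψ1
  have hs' := psHom_surjective (algebraMap L A a) (algebraMap L A b) hgenA hresA ψ' hψ'0 hψ'1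
  have hk := psHom_ker a b hab haL hbL ψ hψ0 hψ1
  have hk' := psHom_ker (algebraMap L A a) (algebraMap L A b) (by rw [← map_mul, hab, map_zero]) ha hb ψ' hψ'0 hψ'1
  have hbij : Function.Bijective χ := by
    refine ⟨(injective_iff_map_eq_zero χ).mpr fun x hx => ?_, fun x => ?_⟩
    · obtain ⟨f, rfl⟩ := hs x
      have h1 : f ∈ RingHom.ker (ψ' : MvPowerSeries (Fin 2) k →+* AdicCompletion (maximalIdeal A) A) := hx
      rw [hk', ← hk] at h1
      exact h1
    · obtain ⟨f, hf⟩ := hs' x
      exact ⟨ψ f, hf⟩
  letI := χ.toAlgebra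
  haveI : IsScalarTower L (AdicCompletion (maximalIdeal L) L) (AdicCompletion (maximalIdeal A) A) :=
    IsScalarTower.of_algebraMap_eq fun l => by
      rw [IsScalarTower.algebraMap_apply L A (AdicCompletion (maximalIdeal A) A)]
      exact (hχ l).symm
  haveI : Module.Finite (ResidueField L) (ResidueField A) :=
    Module.Finite.of_surjective (Algebra.linearMap (ResidueField L) (ResidueField A)) hresLA
  exact (EtStruct.Completion.flat_iff L A hmap).mp
    (RingHom.flat_algebraMap_iff.mp (RingHom.Flat.of_bijective hbij))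

end Groth.Agent.StrictSSLib
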