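import Groth.Agent.StrictSSLib.NodeAlgebra
import Groth.Agent.StrictSSLib.NodeFibre
import Mathlib.FieldTheory.PurelyInseparable.Basic
import Mathlib.AlgebraicGeometry.ResidueField

/-!
# Nodes over a separably closed field are rational
-/

set_option autoImplicit false
set_option linter.style.haveILetI false

universe u

open CategoryTheory CategoryTheory.Limits AlgebraicGeometry IsLocalRing
open scoped TensorProduct

noncomputable section

namespace Groth.Agent.StrictSSLib

theorem isLocalRing_tensor_purelyInseparable (k L K : Type u) [Field k] [Field L] [Field K] [Algebra k L]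
    [Algebra k K] [IsPurelyInseparable k K] : IsLocalRing (L ⊗[k] K) := by
  haveI : Nontrivial (L ⊗[k] K) :=
    (Algebra.TensorProduct.includeLeft_injective (S := L) (FaithfulSMul.algebraMap_injective k K)).nontrivial
  have key : ∀ x : L ⊗[k] K, ¬ IsUnit x → IsNilpotent x := fun x hx => by
    obtain ⟨n, hn, c, hc⟩ := IsPurelyInseparable.exists_pow_mem_range_tensorProduct (R := L) x
    rcases eq_or_ne c 0 with rfl | hc0
    · exact ⟨n, by rw [← hc, map_zero]⟩
    · exact absurd ((isUnit_pow_iff (Nat.pos_iff_ne_zero.mp hn)).mp (hc ▸ (IsUnit.mk0 c hc0).map _)) hx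
  exact IsLocalRing.of_nonunits_add fun a b ha hb => IsNilpotent.not_isUnit ((Commute.all a b).isNilpotent_add (key a ha) (key b hb))

theorem stalkClosedPointTo_congr {R : CommRingCat.{u}} [IsLocalRing R] {X : Scheme.{u}} {h h' : Spec R ⟶ X}
    (e : h = h') (V : X.Opens) (hm : h (closedPoint R) ∈ V) (s : Γ(X, V)) :
    Scheme.stalkClosedPointTo h (X.presheaf.germ V _ hm s) =
      Scheme.stalkClosedPointTo h' (X.presheaf.germ V _ (e ▸ hm) s) := by
  subst e
  rfl

section

variable {k K : Type u} [Field k] [Field K] [Algebra k K] {C Y : Scheme.{u}}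
  {φ : C ⟶ Spec (CommRingCat.of k)} {P : Y ⟶ C} {π : Y ⟶ Spec (CommRingCat.of K)}
  (hpb : IsPullback P π φ (Spec.map (CommRingCat.ofHom (algebraMap k K))))

include hpb in
/-- A point over `x`, seen in the fibre ring `κ(x) ⊗ K`. -/
theorem exists_theta [IsPurelyInseparable k K] (y : Y) :
    letI : Algebra k (C.residueField (P y)) := ((C.residue (P y)).hom.comp (strMap φ (P y))).toAlgebra
    ∃ θ : Y.presheaf.stalk y →+* (C.residueField (P y)) ⊗[k] K,
      (∀ a, θ (P.stalkMap y a) = C.residue (P y) a ⊗ₜ[k] 1) ∧ ∀ γ, θ (strMap π y γ) = 1 ⊗ₜ[k] γ := by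
  letI : Algebra k (C.residueField (P y)) := ((C.residue (P y)).hom.comp (strMap φ (P y))).toAlgebra
  haveI := isLocalRing_tensor_purelyInseparable k (C.residueField (P y)) K
  let R : CommRingCat.{u} := CommRingCat.of ((C.residueField (P y)) ⊗[k] K)
  haveI : IsLocalRing R := isLocalRing_tensor_purelyInseparable k (C.residueField (P y)) K
  let ψ : CommRingCat.of k ⟶ C.residueField (P y) := CommRingCat.ofHom (algebraMap k (C.residueField (P y)))
  have hψ : C.fromSpecResidueField (P y) ≫ φ = Spec.map ψ := by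
    obtain ⟨ψ', hψ'⟩ := Spec.map_surjective (C.fromSpecResidueField (P y) ≫ φ)
    rw [← hψ']
    congr 1
    refine Spec.map_injective ?_
    rw [hψ', Scheme.fromSpecResidueField, Category.assoc, ← Scheme.SpecMap_stalkMap_fromSpecStalk,
      Spec.fromSpecStalk_eq, ← Spec.map_comp, ← Spec.map_comp]
    congr 1
    ext c
    show C.residue (P y) (φ.stalkMap (P y) ((StructureSheaf.toStalk k (φ (P y))).hom c)) = C.residue (P y) (strMap φ (P y) c)
    congr 1
    exact Scheme.Hom.germ_stalkMap_apply φ ⊤ (P y) trivial _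
  let inl : C.residueField (P y) ⟶ R := CommRingCat.ofHom (Algebra.TensorProduct.includeLeftRingHom (R := k) (A := C.residueField (P y)) (B := K))
  let inr : CommRingCat.of K ⟶ R := CommRingCat.ofHom Algebra.TensorProduct.includeRight.toRingHom
  have hR : IsPullback (Spec.map inl) (Spec.map inr) (Spec.map ψ) (Spec.map (CommRingCat.ofHom (algebraMap k K))) :=
    isPullback_SpecMap_of_isPushout _ _ _ _ (CommRingCat.isPushout_tensorProduct k (C.residueField (P y)) K)
  let g : Spec R ⟶ Y := hpb.lift (Spec.map inl ≫ C.fromSpecResidueField (P y)) (Spec.map inr)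
    (by rw [Category.assoc, hψ, hR.w])
  have hg1 : g ≫ P = Spec.map inl ≫ C.fromSpecResidueField (P y) := hpb.lift_fst _ _ _
  have hg2 : g ≫ π = Spec.map inr := hpb.lift_snd _ _ _
  let h : Spec (Y.residueField y) ⟶ Spec R := hR.lift (Spec.map (P.residueFieldMap y))
    (Y.fromSpecResidueField y ≫ π)
    (by rw [← hψ, ← Category.assoc, Scheme.Hom.SpecMap_residueFieldMap_fromSpecResidueField, Category.assoc,
      hpb.w, Category.assoc])
  have hh : h ≫ g = Y.fromSpecResidueField y := hpb.hom_ext
    (by rw [Category.assoc, hg1, ← Category.assoc, hR.lift_fst, Scheme.Hom.SpecMap_residueFieldMap_fromSpecResidueField])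
    (by rw [Category.assoc, hg2, hR.lift_snd])
  have hsub : ∀ p : Spec R, p = closedPoint R := fun p => PrimeSpectrum.ext <|
    le_antisymm (le_maximalIdeal p.isPrime.ne_top) fun z hz => by
      obtain ⟨n, hn, c, hc⟩ := IsPurelyInseparable.exists_pow_mem_range_tensorProduct (R := C.residueField (P y)) (K := K) z
      refine p.isPrime.mem_of_pow_mem n ?_
      rw [← hc]
      rcases eq_or_ne c 0 with rfl | hc0
      · rw [map_zero]; exact zero_mem _
      · exact absurd ((isUnit_pow_iff (Nat.pos_iff_ne_zero.mp hn)).mp (hc ▸ (IsUnit.mk0 c hc0).map _)) hz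
  have hgy : g (closedPoint R) = y := by
    have h1 : (h ≫ g) (closedPoint (Y.residueField y)) = y := by
      rw [hh]; exact Y.fromSpecResidueField_apply y _
    change g (h _) = y at h1
    rwa [hsub (h (closedPoint _))] at h1
  let θ : Y.presheaf.stalk y ⟶ R := Y.presheaf.stalkSpecializes (Specializes.of_eq hgy) ≫ Scheme.stalkClosedPointTo g
  refine ⟨θ.hom, fun a => ?_, fun γ => ?_⟩
  · obtain ⟨V, hxV, s, rfl⟩ := TopCat.Presheaf.exists_germ_eq C.presheaf a
    have hV : P (g (closedPoint R)) ∈ V := by rw [hgy]; exact hxV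
    haveI : IsLocalHom (C.residue (P y)).hom := inferInstanceAs (IsLocalHom (IsLocalRing.residue (C.presheaf.stalk (P y))))
    haveI : IsLocalHom (C.residue (P y) ≫ inl).hom := by
      refine @RingHom.isLocalHom_comp _ _ _ _ _ _ inl.hom (C.residue (P y)).hom ?_ inferInstance
      exact ⟨fun b hb => isUnit_iff_ne_zero.mpr fun h0 => hb.ne_zero (h0 ▸ map_zero _)⟩
    have e : g ≫ P = Spec.map (C.residue (P y) ≫ inl) ≫ C.fromSpecStalk (P y) := by
      rw [hg1, Spec.map_comp, Category.assoc]; rfl
    have h1 : θ (P.stalkMap y (C.presheaf.germ V (P y) hxV s)) =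
        Scheme.stalkClosedPointTo (g ≫ P) (C.presheaf.germ V _ hV s) := by
      rw [Scheme.stalkClosedPointTo_comp]
      show Scheme.stalkClosedPointTo g (Y.presheaf.stalkSpecializes (Specializes.of_eq hgy) (P.stalkMap y (C.presheaf.germ V (P y) hxV s))) =
        Scheme.stalkClosedPointTo g (P.stalkMap (g (closedPoint R)) (C.presheaf.germ V (P (g (closedPoint R))) hV s))
      refine congrArg _ ?_
      refine (congrArg _ (Scheme.Hom.germ_stalkMap_apply P V y hxV s)).trans ?_
      exact (TopCat.Presheaf.germ_stalkSpecializes_apply _ _ _ _).trans (Scheme.Hom.germ_stalkMap_apply P V _ hV s).symm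
    refine h1.trans ((stalkClosedPointTo_congr e V hV s).trans ?_)
    refine (DFunLike.congr_fun (congrArg CommRingCat.Hom.hom
      (Scheme.germ_stalkClosedPointTo_Spec_fromSpecStalk (C.residue (P y) ≫ inl) V (e ▸ hV))) s).trans ?_
    rfl
  · have h1 : θ (strMap π y γ) = Scheme.stalkClosedPointTo (g ≫ π)
        ((Spec (CommRingCat.of K)).presheaf.germ ⊤ _ trivial ((Scheme.ΓSpecIso (CommRingCat.of K)).inv γ)) := by
      rw [Scheme.stalkClosedPointTo_comp]
      show Scheme.stalkClosedPointTo g (Y.presheaf.stalkSpecializes (Specializes.of_eq hgy)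
          (Y.presheaf.germ ⊤ y trivial (π.appTop ((Scheme.ΓSpecIso (CommRingCat.of K)).inv γ)))) =
        Scheme.stalkClosedPointTo g (π.stalkMap (g (closedPoint R))
          ((Spec (CommRingCat.of K)).presheaf.germ ⊤ _ trivial ((Scheme.ΓSpecIso (CommRingCat.of K)).inv γ)))
      refine congrArg _ ?_
      exact (TopCat.Presheaf.germ_stalkSpecializes_apply _ _ _ _).trans (Scheme.Hom.germ_stalkMap_apply π ⊤ _ trivial _).symm
    refine h1.trans ((stalkClosedPointTo_congr hg2 ⊤ trivial _).trans ?_)
    refine (DFunLike.congr_fun (congrArg CommRingCat.Hom.hom (Scheme.germ_stalkClosedPointTo_Spec inr)) _).trans ?_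
    show inr ((Scheme.ΓSpecIso (CommRingCat.of K)).hom ((Scheme.ΓSpecIso (CommRingCat.of K)).inv γ)) = _
    rw [Iso.inv_hom_id_apply]
    rfl

include hpb in
/-- If the fibre point is reduced with residue field `K`, the point is rational. -/
theorem residue_surjective_of_fibre [IsPurelyInseparable k K] (y : Y)
    (hm : (maximalIdeal (C.presheaf.stalk (P y))).map (P.stalkMap y).hom = maximalIdeal (Y.presheaf.stalk y))
    (hres : Function.Surjective ((residue (Y.presheaf.stalk y)).comp (strMap π y))) :
    Function.Surjective ((residue (C.presheaf.stalk (P y))).comp (strMap φ (P y))) := by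
  letI : Algebra k (C.residueField (P y)) := ((C.residue (P y)).hom.comp (strMap φ (P y))).toAlgebra
  obtain ⟨θ, hθ1, hθ2⟩ := exists_theta hpb y
  intro r
  obtain ⟨a, rfl⟩ := residue_surjective r
  obtain ⟨γ, hγ⟩ := hres (residue _ (P.stalkMap y a))
  have hker : maximalIdeal (Y.presheaf.stalk y) ≤ RingHom.ker θ := by
    rw [← hm, Ideal.map_le_iff_le_comap]
    intro m hm'
    show θ (P.stalkMap y m) = 0
    rw [hθ1, show C.residue (P y) m = 0 from (residue_eq_zero_iff m).mpr hm', TensorProduct.zero_tmul]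
  have h := hker (Ideal.Quotient.eq.mp hγ)
  rw [RingHom.mem_ker, map_sub, hθ1, hθ2, sub_eq_zero] at h
  obtain ⟨c, hc⟩ := exists_algebraMap_eq_of_tmul_eq (C.residue (P y) a) γ h.symm
  exact ⟨c, hc⟩

end

end Groth.Agent.StrictSSLib
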