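import Groth.Prelude.Def_CurvBase
import Groth.Agent.CAlg48.PSEval
import Groth.Agent.PSLoc.Basic
import Groth.Agent.ArtFunLib.PowerSeries
import Groth.Agent.RegLoc.AdicNoeth
import Mathlib.RingTheory.MvPowerSeries.Inverse
import Mathlib.RingTheory.Unramified.LocalRing
import Mathlib.RingTheory.AdicCompletion.LocalRing
import Mathlib.RingTheory.Filtration
import Mathlib.FieldTheory.IsAlgClosed.Basic

/-!
# Two generators of the maximal ideal with product zero and no nilpotency give an ordinary double point
-/

set_option autoImplicit false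
set_option linter.style.haveILetI false

universe u

open IsLocalRing

noncomputable section

namespace Groth.Agent.StrictSSLib

variable {K : Type u} [Field K]

open Classical in
theorem mem_span_XY (f : MvPowerSeries (Fin 2) K)
    (h : ∀ i n, MvPowerSeries.coeff (Finsupp.single i n) f = 0) :
    f ∈ Ideal.span {(MvPowerSeries.X 0 * MvPowerSeries.X 1 : MvPowerSeries (Fin 2) K)} := by
  set e : Fin 2 →₀ ℕ := Finsupp.single 0 1 + Finsupp.single 1 1 with he
  have hXY : (MvPowerSeries.X 0 * MvPowerSeries.X 1 : MvPowerSeries (Fin 2) K) = MvPowerSeries.monomial e 1 := by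
    rw [MvPowerSeries.X, MvPowerSeries.X, MvPowerSeries.monomial_mul_monomial, one_mul]
  let g : MvPowerSeries (Fin 2) K := fun d => MvPowerSeries.coeff (d + e) f
  refine Ideal.mem_span_singleton'.mpr ⟨g, ?_⟩
  rw [hXY, mul_comm]
  ext d
  rw [MvPowerSeries.coeff_monomial_mul]
  split_ifs with hd
  · rw [one_mul]
    show MvPowerSeries.coeff (d - e + e) f = _
    rw [tsub_add_cancel_of_le hd]
  · rw [Finsupp.le_def, Fin.forall_fin_two, not_and_or] at hd
    rcases hd with hd | hd <;> simp [he] at hd
    · rw [show d = Finsupp.single 1 (d 1) by ext i; fin_cases i <;> simp [hd], h]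
    · rw [show d = Finsupp.single 0 (d 0) by ext i; fin_cases i <;> simp [hd], h]

open Classical in
theorem exists_unit_mul_mem (f : MvPowerSeries (Fin 2) K) (i : Fin 2)
    (h : ∃ n, MvPowerSeries.coeff (Finsupp.single i n) f ≠ 0) :
    ∃ (n : ℕ) (g : MvPowerSeries (Fin 2) K), IsUnit g ∧
      MvPowerSeries.X i * f - MvPowerSeries.X i ^ (n + 1) * g ∈
        Ideal.span {(MvPowerSeries.X 0 * MvPowerSeries.X 1 : MvPowerSeries (Fin 2) K)} := by
  set n := Nat.find h
  let g : MvPowerSeries (Fin 2) K := fun d => MvPowerSeries.coeff (d + Finsupp.single i n) f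
  refine ⟨n, g, MvPowerSeries.isUnit_iff_constantCoeff.mpr (isUnit_iff_ne_zero.mpr ?_), mem_span_XY _ ?_⟩
  · show MvPowerSeries.coeff (0 + Finsupp.single i n) f ≠ 0
    rw [zero_add]
    exact Nat.find_spec h
  · intro j m
    rw [map_sub, MvPowerSeries.X_pow_eq, MvPowerSeries.X, MvPowerSeries.coeff_monomial_mul,
      MvPowerSeries.coeff_monomial_mul, sub_eq_zero]
    by_cases hji : j = i
    · subst hji
      simp only [Finsupp.single_le_single, one_mul]
      rcases Nat.lt_or_ge m (n + 1) with hm | hm
      · rw [if_neg (show ¬ n + 1 ≤ m by omega)]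
        split_ifs with h1
        · rw [← Finsupp.single_tsub]
          exact not_not.mp (Nat.find_min h (show m - 1 < n by omega))
        · rfl
      · rw [if_pos (show 1 ≤ m by omega), if_pos hm]
        show _ = MvPowerSeries.coeff (Finsupp.single j m - Finsupp.single j (n + 1) + Finsupp.single j n) f
        rw [← Finsupp.single_tsub, ← Finsupp.single_tsub, ← Finsupp.single_add]
        congr 3
        omega
    · have hno : ∀ t : ℕ, t ≠ 0 → ¬ Finsupp.single i t ≤ Finsupp.single j m := fun t ht hle => by
        have := Finsupp.le_def.mp hle i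
        rw [Finsupp.single_eq_same, Finsupp.single_eq_of_ne (Ne.symm hji)] at this
        omega
      rw [if_neg (hno 1 one_ne_zero), if_neg (hno (n + 1) n.succ_ne_zero)]

variable {B : Type u} [CommRing B] [IsLocalRing B] [IsNoetherianRing B] [Algebra K B]

omit [IsNoetherianRing B] [Algebra K B] in
theorem cpl_algebraMap_injective [IsNoetherianRing B] :
    Function.Injective (algebraMap B (AdicCompletion (maximalIdeal B) B)) := by
  haveI : Module.FaithfullyFlat B (AdicCompletion (maximalIdeal B) B) :=
    Module.FaithfullyFlat.of_flat_of_isLocalHom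
  exact FaithfulSMul.algebraMap_injective B _

open Classical in
/-- A map from `K[[x, y]]` to the completion sending the variables to the generators is surjective. -/
theorem psHom_surjective (u v : B) (hgen : maximalIdeal B = Ideal.span {u, v})
    (hres : Function.Surjective ((residue B).comp (algebraMap K B)))
    (ψ : MvPowerSeries (Fin 2) K →ₐ[K] AdicCompletion (maximalIdeal B) B)
    (hψ0 : ψ (MvPowerSeries.X 0) = algebraMap B _ u) (hψ1 : ψ (MvPowerSeries.X 1) = algebraMap B _ v) :
    Function.Surjective ψ := by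
  haveI : IsNoetherianRing (AdicCompletion (maximalIdeal B) B) :=
    RegLoc.AdicNoeth.isNoetherianRing_adicCompletion _ (IsNoetherian.noetherian _)
  have hmax : maximalIdeal (AdicCompletion (maximalIdeal B) B) =
      Ideal.span {algebraMap B (AdicCompletion (maximalIdeal B) B) u, algebraMap B (AdicCompletion (maximalIdeal B) B) v} := by
    refine (AdicCompletion.maximalIdeal_eq_map (R := B)).trans ?_
    refine (congrArg (Ideal.map (algebraMap B (AdicCompletion (maximalIdeal B) B))) hgen).trans ?_
    rw [Ideal.map_span, Set.image_pair]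
  haveI : IsAdicComplete (maximalIdeal K) K := by
    rw [isField_iff_maximalIdeal_eq.mp (Field.toIsField K)]; infer_instance
  haveI := ArtFunLib.isAdicComplete_ps (σ := Fin 2) (C := K)
  have himg : (maximalIdeal (MvPowerSeries (Fin 2) K)).map (ψ : MvPowerSeries (Fin 2) K →+* _) =
      maximalIdeal (AdicCompletion (maximalIdeal B) B) := by
    rw [ArtFunLib.maximalIdeal_ps_eq, ArtFunLib.psMax, isField_iff_maximalIdeal_eq.mp (Field.toIsField K),
      Ideal.map_bot, bot_sup_eq, Ideal.map_span, hmax, ← Set.range_comp]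
    congr 1
    ext x
    simp [Fin.exists_fin_two, hψ0, hψ1, eq_comm]
  refine PSLoc.surjective_of_cotangent (maximalIdeal (MvPowerSeries (Fin 2) K))
    (ψ : MvPowerSeries (Fin 2) K →+* AdicCompletion (maximalIdeal B) B) himg.le (le_sup_left.trans' himg.ge) fun r => ?_
  obtain ⟨s, rfl⟩ := (AdicCompletion.residueField_map_bijective (R := B)).2 r
  obtain ⟨c, rfl⟩ := hres s
  refine ⟨algebraMap K _ c, ?_⟩
  rw [RingHom.comp_apply, RingHom.coe_coe, AlgHom.commutes, RingHom.comp_apply,
    IsLocalRing.ResidueField.map_residue, ← IsScalarTower.algebraMap_apply]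

open Classical in
/-- Its kernel is generated by `x y` when neither generator is nilpotent. -/
theorem psHom_ker (u v : B) (huv : u * v = 0) (hu : ∀ n : ℕ, u ^ n ≠ 0) (hv : ∀ n : ℕ, v ^ n ≠ 0)
    (ψ : MvPowerSeries (Fin 2) K →ₐ[K] AdicCompletion (maximalIdeal B) B)
    (hψ0 : ψ (MvPowerSeries.X 0) = algebraMap B _ u) (hψ1 : ψ (MvPowerSeries.X 1) = algebraMap B _ v) :
    RingHom.ker (ψ : MvPowerSeries (Fin 2) K →+* AdicCompletion (maximalIdeal B) B) =
      Ideal.span {(MvPowerSeries.X 0 * MvPowerSeries.X 1 : MvPowerSeries (Fin 2) K)} := by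
  have h0 : ∀ x ∈ Ideal.span {(MvPowerSeries.X 0 * MvPowerSeries.X 1 : MvPowerSeries (Fin 2) K)}, ψ x = 0 := by
    intro x hx
    obtain ⟨y, rfl⟩ := Ideal.mem_span_singleton'.mp hx
    rw [map_mul, map_mul, hψ0, hψ1, ← map_mul, huv, map_zero, mul_zero]
  refine le_antisymm (fun f hf => ?_) fun x hx => h0 x hx
  refine mem_span_XY f fun i m => ?_
  by_contra hne
  obtain ⟨n, g, hg, hmem⟩ := exists_unit_mul_mem f i ⟨m, hne⟩
  have h1 := h0 _ hmem
  rw [map_sub, map_mul, map_mul, show ψ f = 0 from hf, mul_zero, zero_sub, neg_eq_zero,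
    (hg.map ψ).mul_left_eq_zero, map_pow] at h1
  revert i
  intro i
  fin_cases i
  · intro _ _ h1
    rw [show ψ (MvPowerSeries.X ((⟨0, by omega⟩ : Fin 2))) = algebraMap B _ u from hψ0, ← map_pow] at h1
    exact hu _ (cpl_algebraMap_injective (h1.trans (map_zero _).symm))
  · intro _ _ h1
    rw [show ψ (MvPowerSeries.X ((⟨1, by omega⟩ : Fin 2))) = algebraMap B _ v from hψ1, ← map_pow] at h1
    exact hv _ (cpl_algebraMap_injective (h1.trans (map_zero _).symm))

/-- Ordinary double points from two generators of the maximal ideal. -/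
theorem isOrdDoublePt_of (u v : B) (huv : u * v = 0) (hgen : maximalIdeal B = Ideal.span {u, v})
    (hres : Function.Surjective ((residue B).comp (algebraMap K B)))
    (hu : ∀ n : ℕ, u ^ n ≠ 0) (hv : ∀ n : ℕ, v ^ n ≠ 0) : Curv2.IsOrdDoublePt K B := by
  classical
  haveI : IsNoetherianRing (AdicCompletion (maximalIdeal B) B) :=
    RegLoc.AdicNoeth.isNoetherianRing_adicCompletion _ (IsNoetherian.noetherian _)
  set toC := algebraMap B (AdicCompletion (maximalIdeal B) B)
  have hinj : Function.Injective toC := by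
    haveI : Module.FaithfullyFlat B (AdicCompletion (maximalIdeal B) B) :=
      Module.FaithfullyFlat.of_flat_of_isLocalHom
    exact FaithfulSMul.algebraMap_injective B _
  have hmax : maximalIdeal (AdicCompletion (maximalIdeal B) B) = Ideal.span {toC u, toC v} := by
    refine (AdicCompletion.maximalIdeal_eq_map (R := B)).trans ?_
    refine (congrArg (Ideal.map toC) hgen).trans ?_
    rw [Ideal.map_span, Set.image_pair]
  have hb : ∀ i, (![toC u, toC v] : Fin 2 → AdicCompletion (maximalIdeal B) B) i ∈
      maximalIdeal (AdicCompletion (maximalIdeal B) B) := by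
    rw [hmax]
    intro i
    fin_cases i
    · exact Ideal.subset_span (Or.inl rfl)
    · exact Ideal.subset_span (Or.inr rfl)
  obtain ⟨ψ, hψ⟩ := CAlg48.PSEval.exists_algHom (k := K) (maximalIdeal (AdicCompletion (maximalIdeal B) B))
    ![toC u, toC v] hb
  have hψ0 : ψ (MvPowerSeries.X 0) = toC u := by simpa using hψ 0
  have hψ1 : ψ (MvPowerSeries.X 1) = toC v := by simpa using hψ 1
  have hsurj : Function.Surjective ψ := psHom_surjective u v hgen hres ψ hψ0 hψ1
  have hker := psHom_ker u v huv hu hv ψ hψ0 hψ1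
  refine ⟨((Ideal.quotEquivOfEq hker.symm).trans (RingHom.quotientKerEquivOfSurjective (f := (ψ : MvPowerSeries (Fin 2) K →+* AdicCompletion (maximalIdeal B) B)) hsurj)).symm, fun c => ?_⟩
  refine (RingEquiv.symm_apply_eq _).mpr ?_
  rw [RingEquiv.trans_apply, Ideal.quotEquivOfEq_mk]
  refine Eq.trans ?_ (RingHom.quotientKerEquivOfSurjective_apply_mk
    (f := (ψ : MvPowerSeries (Fin 2) K →+* AdicCompletion (maximalIdeal B) B)) hsurj (MvPowerSeries.C c)).symm
  show _ = ψ (MvPowerSeries.C c)
  rw [← IsScalarTower.algebraMap_apply K B, ← ψ.commutes c, MvPowerSeries.algebraMap_apply]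
  simp

/-- Two generators of the maximal ideal with product zero, none of them nilpotent, residue field `K`. -/
def NodeData (K : Type u) [Field K] (B : Type u) [CommRing B] [IsLocalRing B] (str : K →+* B) : Prop :=
  ∃ u v : B, u * v = 0 ∧ maximalIdeal B = Ideal.span {u, v} ∧ Function.Surjective ((residue B).comp str) ∧
    (∀ n : ℕ, u ^ n ≠ 0) ∧ ∀ n : ℕ, v ^ n ≠ 0

theorem NodeData.isOrdDoublePt (h : NodeData K B (algebraMap K B)) : Curv2.IsOrdDoublePt K B := by
  obtain ⟨u, v, huv, hgen, hres, hu, hv⟩ := h
  exact isOrdDoublePt_of u v huv hgen hres hu hv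

omit [IsNoetherianRing B] [Algebra K B] in
theorem NodeData.map {B' : Type u} [CommRing B'] [IsLocalRing B'] {str : K →+* B} (h : NodeData K B str)
    (e : B ≃+* B') {str' : K →+* B'} (he : str' = e.toRingHom.comp str) : NodeData K B' str' := by
  obtain ⟨u, v, huv, hgen, hres, hu, hv⟩ := h
  subst he
  refine ⟨e u, e v, by rw [← map_mul, huv, map_zero], ?_, fun r => ?_,
    fun n hn => hu n (e.injective (by rw [map_pow, hn, map_zero])),
    fun n hn => hv n (e.injective (by rw [map_pow, hn, map_zero]))⟩
  · rw [← IsLocalRing.eq_maximalIdeal (Ideal.map_isMaximal_of_equiv e (p := maximalIdeal B)), hgen,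
      Ideal.map_span, Set.image_pair]
  · obtain ⟨b', rfl⟩ := residue_surjective r
    obtain ⟨b, rfl⟩ := e.surjective b'
    obtain ⟨c, hc⟩ := hres (residue B b)
    refine ⟨c, Ideal.Quotient.eq.mpr ?_⟩
    have h1 := Ideal.mem_map_of_mem e (Ideal.Quotient.eq.mp hc)
    rw [IsLocalRing.eq_maximalIdeal (Ideal.map_isMaximal_of_equiv e (p := maximalIdeal B)), map_sub] at h1
    exact h1

omit [IsNoetherianRing B] in
/-- The same along a flat unramified local homomorphism. -/
theorem nodeData_of_unramified [IsAlgClosed K] {L : Type u} [CommRing L] [IsLocalRing L] [Algebra K L]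
    [Algebra L B] [IsScalarTower K L B] [Module.Flat L B] [IsLocalHom (algebraMap L B)]
    [Algebra.EssFiniteType L B] [Algebra.FormallyUnramified L B]
    (u v : L) (huv : u * v = 0) (hgen : maximalIdeal L = Ideal.span {u, v})
    (hres : Function.Surjective ((residue L).comp (algebraMap K L)))
    (hu : ∀ n : ℕ, u ^ n ≠ 0) (hv : ∀ n : ℕ, v ^ n ≠ 0) : NodeData K B (algebraMap K B) := by
  haveI : Module.FaithfullyFlat L B := Module.FaithfullyFlat.of_flat_of_isLocalHom
  have hinj := FaithfulSMul.algebraMap_injective L B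
  refine ⟨algebraMap L B u, algebraMap L B v, by rw [← map_mul, huv, map_zero], ?_, ?_,
    fun n h => hu n (hinj (by rw [map_pow, h, map_zero])), fun n h => hv n (hinj (by rw [map_pow, h, map_zero]))⟩
  · rw [← Algebra.FormallyUnramified.map_maximalIdeal (R := L) (S := B), hgen, Ideal.map_span, Set.image_pair]
  · haveI : Module.Finite K (ResidueField L) :=
      Module.Finite.of_surjective (Algebra.linearMap K (ResidueField L)) hres
    haveI : Module.Finite K (ResidueField B) := Module.Finite.trans (ResidueField L) (ResidueField B)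
    exact (IsAlgClosed.algebraMap_bijective_of_isIntegral (k := K) (K := ResidueField B)).2

end Groth.Agent.StrictSSLib
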