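import Groth.Agent.StrictSSLib.NodeAlgebra
import Groth.Agent.CAlgA.VNR
import Groth.Agent.RegLoc.Basic
import Mathlib.FieldTheory.PurelyInseparable.Basic
import Mathlib.FieldTheory.SeparableClosure
import Mathlib.LinearAlgebra.TensorProduct.RightExactness
import Mathlib.RingTheory.PowerSeries.Order

/-!
# A local ring with principal maximal ideal does not become a node over an algebraic extension
-/

set_option autoImplicit false
set_option linter.style.haveILetI false

universe u

open IsLocalRing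
open scoped TensorProduct

noncomputable section

namespace Groth.Agent.StrictSSLib

variable {K : Type u} [Field K]

/-- The order along an axis. -/
def axOrd (i : Fin 2) (z : FormalNode K) : ℕ∞ := (nodeAxis i z).order

theorem axOrd_mul (i : Fin 2) (y z : FormalNode K) : axOrd i (y * z) = axOrd i y + axOrd i z := by
  rw [axOrd, map_mul, PowerSeries.order_mul]; rfl

theorem axOrd_unit (i : Fin 2) {z : FormalNode K} (hz : IsUnit z) : axOrd i z = 0 :=
  PowerSeries.order_zero_of_unit (hz.map (nodeAxis i))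

theorem nodeAxis_gen (i : Fin 2) : nodeAxis i (gen (K := K) i) = PowerSeries.X := by
  classical
  refine PowerSeries.ext fun n => ?_
  rw [gen, nodeAxis_mk, axisSeries, RingHom.coe_mk, MonoidHom.coe_mk, OneHom.coe_mk, PowerSeries.coeff_mk,
    MvPowerSeries.coeff_X, PowerSeries.coeff_X]
  simp [Finsupp.single_eq_single_iff]

theorem nodeAxis_gen_ne {i j : Fin 2} (h : j ≠ i) : nodeAxis i (gen (K := K) j) = 0 := by
  classical
  refine PowerSeries.ext fun n => ?_
  rw [gen, nodeAxis_mk, axisSeries, RingHom.coe_mk, MonoidHom.coe_mk, OneHom.coe_mk, PowerSeries.coeff_mk,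
    MvPowerSeries.coeff_X, if_neg, map_zero]
  intro e
  rw [Finsupp.single_eq_single_iff] at e
  rcases e with ⟨h1, -⟩ | ⟨-, h2⟩
  · exact h h1.symm
  · exact one_ne_zero h2

theorem one_le_axOrd (i : Fin 2) {z : FormalNode K} (hz : z ∈ maximalIdeal (FormalNode K)) : 1 ≤ axOrd i z := by
  rw [maximalIdeal_formalNode] at hz
  obtain ⟨a, b, rfl⟩ := Ideal.mem_span_pair.mp hz
  refine le_trans (le_min ?_ ?_) ((PowerSeries.min_order_le_order_add _ _).trans_eq
    (congrArg PowerSeries.order (map_add (nodeAxis i) _ _).symm))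
  · rw [map_mul, PowerSeries.order_mul]
    refine le_trans ?_ le_add_self
    rcases eq_or_ne 0 i with rfl | h
    · rw [nodeAxis_gen, PowerSeries.order_X]
    · rw [nodeAxis_gen_ne h, PowerSeries.order_zero]; exact le_top
  · rw [map_mul, PowerSeries.order_mul]
    refine le_trans ?_ le_add_self
    rcases eq_or_ne 1 i with rfl | h
    · rw [nodeAxis_gen, PowerSeries.order_X]
    · rw [nodeAxis_gen_ne h, PowerSeries.order_zero]; exact le_top

theorem two_le_axOrd (i : Fin 2) {z : FormalNode K} (hz : z ∈ maximalIdeal (FormalNode K) ^ 2) : 2 ≤ axOrd i z := by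
  rw [pow_two] at hz
  refine Submodule.mul_induction_on hz (fun a ha b hb => ?_) fun a b ha hb => ?_
  · rw [axOrd_mul]
    exact le_trans (le_of_eq (one_add_one_eq_two (R := ℕ∞)).symm) (add_le_add (one_le_axOrd i ha) (one_le_axOrd i hb))
  · exact le_trans (le_min ha hb) ((PowerSeries.min_order_le_order_add _ _).trans_eq
      (congrArg PowerSeries.order (map_add (nodeAxis i) _ _).symm))

/-- The orders of an approximation of a variable. -/
theorem axOrd_approx {i l : Fin 2} (hl : l ≠ i) {z s : FormalNode K} (hs : IsUnit s)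
    (h : z - gen i * s ∈ maximalIdeal (FormalNode K) ^ 2) : axOrd i z = 1 ∧ 2 ≤ axOrd l z := by
  have hz : z = gen i * s + (z - gen i * s) := by ring
  constructor
  · have h1 : axOrd i (gen (K := K) i * s) = 1 := by
      rw [axOrd_mul, axOrd_unit i hs, add_zero, axOrd, nodeAxis_gen, PowerSeries.order_X]
    have h2 := two_le_axOrd i h
    rw [axOrd, hz, map_add, PowerSeries.order_add_of_order_ne _ _ ?_]
    · change axOrd i (gen i * s) ⊓ axOrd i (z - gen i * s) = 1
      rw [h1]
      exact min_eq_left (le_trans one_le_two h2)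
    · change axOrd i (gen i * s) ≠ axOrd i (z - gen i * s)
      rw [h1]
      exact (lt_of_lt_of_le (by norm_num : (1 : ℕ∞) < 2) h2).ne
  · rw [axOrd, hz, map_add, map_mul, nodeAxis_gen_ne hl.symm, zero_mul, zero_add]
    exact two_le_axOrd l h

section

variable {k R : Type u} [Field k] [CommRing R] [Algebra k R] [Algebra k K] [Algebra.IsAlgebraic k K]

/-- A separably algebraic stage. -/
theorem exists_pow_stage (z : R ⊗[k] K) (q : ℕ) [ExpChar (R ⊗[k] K) q] [ExpChar (separableClosure k K) q] :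
    ∃ n : ℕ, z ^ q ^ n ∈ (Algebra.TensorProduct.map (AlgHom.id k R) (separableClosure k K).val).range := by
  induction z using TensorProduct.induction_on with
  | zero => exact ⟨0, by rw [pow_zero, pow_one]; exact zero_mem _⟩
  | tmul r c =>
    obtain ⟨n, c', hc'⟩ := IsPurelyInseparable.pow_mem (separableClosure k K) q c
    refine ⟨n, (r ^ q ^ n) ⊗ₜ c', ?_⟩
    rw [Algebra.TensorProduct.tmul_pow]
    exact congrArg ((r ^ q ^ n) ⊗ₜ[k] ·) hc'
  | add x y hx hy =>
    obtain ⟨m, hm⟩ := hx
    obtain ⟨n, hn⟩ := hy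
    refine ⟨m + n, ?_⟩
    rw [add_pow_expChar_pow]
    refine add_mem ?_ ?_
    · rw [pow_add, pow_mul]
      exact pow_mem hm _
    · rw [pow_add, mul_comm, pow_mul]
      exact pow_mem hn _

end

theorem false_of_slopes {a c Q₀ Q₁ : ℕ∞} {j₀ j₁ : ℕ} (hQ₀ : 1 ≤ Q₀) (hQ₁ : 1 ≤ Q₁) (hQ₀' : Q₀ ≠ ⊤) (hQ₁' : Q₁ ≠ ⊤)
    (h₀ : (j₀ : ℕ∞) * a = Q₀) (h₀' : 2 * Q₀ ≤ (j₀ : ℕ∞) * c) (h₁ : (j₁ : ℕ∞) * c = Q₁) (h₁' : 2 * Q₁ ≤ (j₁ : ℕ∞) * a) :
    False := by
  subst h₀
  subst h₁
  cases a using ENat.recTopCoe with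
  | top =>
    rcases Nat.eq_zero_or_pos j₀ with rfl | h
    · simp at hQ₀
    · exact hQ₀' (ENat.mul_top (Nat.cast_ne_zero.mpr h.ne'))
  | coe a =>
    cases c using ENat.recTopCoe with
    | top =>
      rcases Nat.eq_zero_or_pos j₁ with rfl | h
      · simp at hQ₁
      · exact hQ₁' (ENat.mul_top (Nat.cast_ne_zero.mpr h.ne'))
    | coe c =>
      norm_cast at hQ₀ hQ₁ h₀' h₁'
      have hj₀ : 0 < j₀ := Nat.pos_of_ne_zero fun h => by simp [h] at hQ₀
      have hj₁ : 0 < j₁ := Nat.pos_of_ne_zero fun h => by simp [h] at hQ₁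
      have ha : 0 < a := Nat.pos_of_ne_zero fun h => by simp [h] at hQ₀
      have hc : 2 * a ≤ c := Nat.le_of_mul_le_mul_left (by linarith) hj₀
      have hc' : 2 * c ≤ a := Nat.le_of_mul_le_mul_left (by linarith) hj₁
      omega

variable {k R A : Type u} [Field k] [CommRing R] [Algebra k R] [Algebra k K] [Algebra.IsAlgebraic k K]
  (q : Ideal R) [q.IsMaximal] [Algebra.FiniteType k R] [CommRing A] [IsLocalRing A] [Algebra R A]
  [IsLocalization.AtPrime A q] [Algebra A (FormalNode K)] [IsLocalHom (algebraMap A (FormalNode K))]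

include q in
/-- A principal maximal ideal excludes the node. -/
theorem not_principal_of_node (h : R ⊗[k] K →+* FormalNode K)
    (hc : ∀ r : R, h (r ⊗ₜ 1) = algebraMap A (FormalNode K) (algebraMap R A r))
    (happrox : ∀ i : Fin 2, ∃ r s, IsUnit (h s) ∧ h r - gen i * h s ∈ maximalIdeal (FormalNode K) ^ 2)
    (hp : (maximalIdeal A).IsPrincipal) : False := by
  classical
  haveI : Nontrivial (R ⊗[k] K) := h.domain_nontrivial
  set Q := ringExpChar k with hQdef
  haveI : ExpChar (separableClosure k K) Q := expChar_of_injective_ringHom (algebraMap k (separableClosure k K)).injective Q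
  haveI : ExpChar (R ⊗[k] K) Q := expChar_of_injective_ringHom (algebraMap k (R ⊗[k] K)).injective Q
  let Ks := separableClosure k K
  let jm : R ⊗[k] Ks →ₐ[k] R ⊗[k] K := Algebra.TensorProduct.map (AlgHom.id k R) Ks.val
  let g : R ⊗[k] Ks →+* FormalNode K := h.comp jm.toRingHom
  have hg : ∀ r : R, g (r ⊗ₜ 1) = algebraMap A (FormalNode K) (algebraMap R A r) := fun r => by
    show h (jm (r ⊗ₜ 1)) = _
    rw [Algebra.TensorProduct.map_tmul, map_one]
    exact hc r
  obtain ⟨π, hπ⟩ := hp.1
  rw [← Ideal.span] at hπ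
  obtain ⟨⟨π₀, sπ⟩, hπs⟩ := IsLocalization.surj q.primeCompl π
  set p : FormalNode K := algebraMap A (FormalNode K) (algebraMap R A π₀) with hpdef
  have hπ0 : maximalIdeal A = Ideal.span {algebraMap R A π₀} := by
    rw [hπ, ← hπs]
    exact (Ideal.span_singleton_mul_right_unit (IsLocalization.map_units A sπ) π).symm
  have hπ0g : g (π₀ ⊗ₜ 1) = p := hg π₀
  -- the non-units of the stage are multiples of the uniformiser
  let J : Ideal (R ⊗[k] Ks) :=
    { carrier := {e | ∃ s e', IsUnit (g s) ∧ e * s = (π₀ ⊗ₜ 1) * e'}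
      add_mem' := by
        rintro a b ⟨s, a', hs, ha⟩ ⟨t, b', ht, hb⟩
        refine ⟨s * t, a' * t + b' * s, by rw [map_mul]; exact hs.mul ht, ?_⟩
        rw [add_mul, mul_add, ← mul_assoc (π₀ ⊗ₜ 1) a', ← ha, ← mul_assoc (π₀ ⊗ₜ 1) b', ← hb]
        ring
      zero_mem' := ⟨1, 0, by rw [map_one]; exact isUnit_one, by simp⟩
      smul_mem' := by
        rintro r a ⟨s, a', hs, ha⟩
        exact ⟨s, r * a', hs, by rw [smul_eq_mul, mul_assoc, ha]; ring⟩ }
  have hqJ : q.map (Algebra.TensorProduct.includeLeft : R →ₐ[R] R ⊗[k] Ks) ≤ J := by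
    rw [Ideal.map_le_iff_le_comap]
    intro a ha
    have h1 : algebraMap R A a ∈ maximalIdeal A := (IsLocalization.AtPrime.to_map_mem_maximal_iff A q a).mpr ha
    rw [hπ0] at h1
    obtain ⟨z, hz⟩ := Ideal.mem_span_singleton'.mp h1
    obtain ⟨⟨b, t⟩, hbt⟩ := IsLocalization.surj q.primeCompl z
    have h2 : algebraMap R A (a * t) = algebraMap R A (π₀ * b) := by
      rw [map_mul, map_mul, ← hz, ← hbt]; ring
    obtain ⟨⟨w, hw⟩, hwe⟩ := (IsLocalization.eq_iff_exists q.primeCompl A).mp h2
    refine ⟨(w * t) ⊗ₜ 1, (w * b) ⊗ₜ 1, ?_, ?_⟩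
    · rw [hg]
      exact (IsLocalization.map_units A (⟨w * t, q.primeCompl.mul_mem hw t.2⟩ : q.primeCompl)).map _
    · show (a ⊗ₜ[k] (1 : Ks)) * ((w * t) ⊗ₜ[k] (1 : Ks)) = _
      rw [Algebra.TensorProduct.tmul_mul_tmul, Algebra.TensorProduct.tmul_mul_tmul, one_mul,
        show a * (w * t) = w * (a * t) by ring, show π₀ * (w * b) = w * (π₀ * b) by ring]
      exact congrArg (· ⊗ₜ[k] (1 : Ks)) hwe
  haveI : Module.Finite k (R ⧸ q) := by
    letI : Field (R ⧸ q) := Ideal.Quotient.field q
    exact finite_of_finite_type_of_isJacobsonRing k _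
  haveI : IsReduced ((R ⧸ q) ⊗[k] Ks) :=
    @CAlgA.VNR.isReduced_tensor_separable k _ (R ⧸ q) Ks (Ideal.Quotient.field q) _ _ _ _
  haveI : Algebra.IsIntegral k ((R ⧸ q) ⊗[k] Ks) := Algebra.IsIntegral.trans (R ⧸ q)
  let red : R ⊗[k] Ks →ₐ[k] (R ⧸ q) ⊗[k] Ks :=
    Algebra.TensorProduct.map (Ideal.Quotient.mkₐ k q) (AlgHom.id k Ks)
  have hsurj : Function.Surjective red := Algebra.TensorProduct.map_surjective _ _ Ideal.Quotient.mk_surjective Function.surjective_id
  have hJ : ∀ e, ¬ IsUnit (g e) → e ∈ J := by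
    intro e he
    obtain ⟨wb, hwb⟩ := CAlgA.VNR.exists_sq_mul (k := k) (red e)
    obtain ⟨w, rfl⟩ := hsurj wb
    have hker : e * (1 - e * w) ∈ RingHom.ker red := by
      rw [RingHom.mem_ker]
      change red.toRingHom (e * (1 - e * w)) = 0
      rw [map_mul, map_sub, map_one, map_mul, mul_sub, mul_one, ← mul_assoc]
      exact sub_eq_zero.mpr hwb
    rw [Algebra.TensorProduct.rTensor_ker _ Ideal.Quotient.mk_surjective] at hker
    have hker' : e * (1 - e * w) ∈ J := hqJ (by
      have e1 : RingHom.ker (Ideal.Quotient.mkₐ k q) = q := Ideal.mk_ker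
      rw [e1] at hker
      exact hker)
    obtain ⟨s, e', hs, hse⟩ := hker'
    refine ⟨(1 - e * w) * s, e', ?_, by rw [← mul_assoc]; exact hse⟩
    rw [map_mul]
    refine IsUnit.mul ?_ hs
    rw [map_sub, map_one, map_mul]
    exact IsLocalRing.isUnit_one_sub_self_of_mem_nonunits _ (Ideal.mul_mem_right _ _ ((mem_maximalIdeal _).mpr he))
  have hpm : p ∈ maximalIdeal (FormalNode K) := map_nonunit _ _ (hπ0 ▸ Ideal.mem_span_singleton_self _)
  have hord : ∀ (i : Fin 2) (m : ℕ) (e : R ⊗[k] Ks), axOrd i (g e) = m →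
      ∃ j : ℕ, ∀ l, axOrd l (g e) = (j : ℕ∞) * axOrd l p := by
    intro i m
    induction m using Nat.strong_induction_on with
    | _ m IH =>
      intro e hm
      by_cases he : IsUnit (g e)
      · exact ⟨0, fun l => by rw [axOrd_unit l he, Nat.cast_zero, zero_mul]⟩
      obtain ⟨s, e', hs, hse⟩ := hJ e he
      have hl : ∀ l, axOrd l (g e) = axOrd l p + axOrd l (g e') := fun l => by
        rw [← axOrd_mul, ← hπ0g, ← map_mul, ← hse, map_mul, axOrd_mul, axOrd_unit l hs, add_zero]
      obtain ⟨m', hm'⟩ := ENat.ne_top_iff_exists.mp (show axOrd i (g e') ≠ ⊤ from fun ht => by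
        have := hl i
        rw [ht, add_top, hm] at this
        exact ENat.coe_ne_top m this)
      have hlt : m' < m := by
        have h1 := hl i
        rw [hm, ← hm'] at h1
        have h2 := one_le_axOrd i hpm
        obtain ⟨a, ha⟩ := ENat.ne_top_iff_exists.mp (show axOrd i p ≠ ⊤ from fun ht => by
          rw [ht, top_add] at h1
          exact ENat.coe_ne_top m h1)
        rw [← ha] at h1 h2
        norm_cast at h1 h2
        omega
      obtain ⟨j, hj⟩ := IH m' hlt e' hm'.symm
      refine ⟨j + 1, fun l => ?_⟩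
      rw [hl l, hj l, Nat.cast_add, Nat.cast_one, add_mul, one_mul, add_comm]
  have key : ∀ i l : Fin 2, l ≠ i → ∃ (j : ℕ) (n : ℕ), (j : ℕ∞) * axOrd i p = (Q ^ n : ℕ) ∧
      2 * (Q ^ n : ℕ) ≤ (j : ℕ∞) * axOrd l p := by
    intro i l hli
    obtain ⟨r, s, hs, hrs⟩ := happrox i
    obtain ⟨h1, h2⟩ := axOrd_approx hli hs hrs
    obtain ⟨n, e, he⟩ := exists_pow_stage (k := k) (R := R) (K := K) r Q
    have he' : ∀ l, axOrd l (g e) = (Q ^ n : ℕ) * axOrd l (h r) := fun l => by
      show axOrd l (h (jm e)) = _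
      rw [show jm e = r ^ Q ^ n from he, map_pow, axOrd, map_pow, PowerSeries.order_pow, nsmul_eq_mul]
      rfl
    obtain ⟨j, hj⟩ := hord i (Q ^ n) e (by rw [he', h1, mul_one])
    refine ⟨j, n, by rw [← hj i, he', h1, mul_one], ?_⟩
    rw [← hj l, he', mul_comm]
    exact mul_le_mul' le_rfl h2
  obtain ⟨j₀, n₀, e₀, f₀⟩ := key 0 1 (by simp)
  obtain ⟨j₁, n₁, e₁, f₁⟩ := key 1 0 (by simp)
  have hQpos : 0 < Q := expChar_pos k Q
  refine false_of_slopes (Q₀ := (Q ^ n₀ : ℕ)) (Q₁ := (Q ^ n₁ : ℕ)) ?_ ?_ (ENat.coe_ne_top _) (ENat.coe_ne_top _) e₀ f₀ e₁ f₁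
  · exact_mod_cast Nat.one_le_pow n₀ Q hQpos
  · exact_mod_cast Nat.one_le_pow n₁ Q hQpos

/-- A domain flat under the node has dimension at most one; if regular, its maximal ideal is principal. -/
theorem isPrincipal_of_regular {A : Type u} [CommRing A] [IsLocalRing A] [IsRegularLocalRing A]
    [Algebra A (FormalNode K)] [IsLocalHom (algebraMap A (FormalNode K))] [Module.Flat A (FormalNode K)] :
    (maximalIdeal A).IsPrincipal := by
  haveI := RegLoc.isDomain A
  haveI : Module.FaithfullyFlat A (FormalNode K) := Module.FaithfullyFlat.of_flat_of_isLocalHom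
  have hbot : ∀ i, branchPrime K A i = ⊥ := fun i => by
    refine (Submodule.eq_bot_iff _).mpr fun a ha => ?_
    by_contra ha0
    obtain ⟨j, hji⟩ : ∃ j : Fin 2, j ≠ i := exists_ne i
    have hz : algebraMap A (FormalNode K) a * gen i = 0 := node_ext fun l => by
      rcases eq_or_ne l i with rfl | hl
      · rw [map_mul, show nodeAxis l (algebraMap A (FormalNode K) a) = 0 from ha, zero_mul]
      · rw [map_mul, nodeAxis_gen_ne hl.symm, mul_zero]
    have hreg : IsSMulRegular (FormalNode K) a := by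
      have hr := Module.Flat.isSMulRegular_of_isRegular (M := FormalNode K) (IsRegular.of_ne_zero ha0)
      exact fun x y e => hr e
    have h0 : gen (K := K) i = 0 := hreg (by
      show a • gen i = a • (0 : FormalNode K)
      rw [Algebra.smul_def, Algebra.smul_def, mul_zero, hz])
    have := congrArg (nodeAxis i) h0
    rw [nodeAxis_gen, map_zero] at this
    exact PowerSeries.X_ne_zero this
  have hprimes : ∀ P : Ideal A, P.IsPrime → P = ⊥ ∨ P = maximalIdeal A := by
    intro P hP
    obtain ⟨⟨P', hP'⟩, hPP⟩ := PrimeSpectrum.comap_surjective_of_faithfullyFlat (A := A) (B := FormalNode K) ⟨P, hP⟩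
    have hPP' : P'.comap (algebraMap A (FormalNode K)) = P := congrArg PrimeSpectrum.asIdeal hPP
    subst hPP'
    have hmem : ∃ i j : Fin 2, j ≠ i ∧ gen (K := K) j ∈ P' := by
      rcases hP'.mem_or_mem (show gen (K := K) 0 * gen 1 ∈ P' by rw [gen_mul (by simp)]; exact zero_mem _) with h | h
      · exact ⟨1, 0, by simp, h⟩
      · exact ⟨0, 1, by simp, h⟩
    obtain ⟨i, j, hji, hj⟩ := hmem
    by_cases hi : gen (K := K) i ∈ P'
    · right
      have : maximalIdeal (FormalNode K) ≤ P' := by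
        rw [maximalIdeal_formalNode, Ideal.span_le]
        rintro _ (rfl | rfl)
        · fin_cases i <;> fin_cases j <;> first | exact hi | exact hj | simp at hji
        · fin_cases i <;> fin_cases j <;> first | exact hi | exact hj | simp at hji
      rw [← ((maximalIdeal.isMaximal (FormalNode K)).eq_of_le hP'.ne_top this)]
      exact ((local_hom_TFAE (algebraMap A (FormalNode K))).out 0 4 rfl rfl).mp inferInstance
    · left
      refine le_bot_iff.mp fun a ha => ?_
      rw [← hbot i]
      show nodeAxis i (algebraMap A (FormalNode K) a) = 0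
      by_contra hne
      by_cases hu : IsUnit (algebraMap A (FormalNode K) a)
      · exact hP'.ne_top (Ideal.eq_top_of_isUnit_mem _ ha hu)
      -- on the branch through `i` the element is a unit times a power of the variable
      obtain ⟨n, hn⟩ := ENat.ne_top_iff_exists.mp (show axOrd i (algebraMap A (FormalNode K) a) ≠ ⊤ from
        fun ht => hne (PowerSeries.order_eq_top.mp ht))
      have hsplit : algebraMap A (FormalNode K) a * gen i ∈ P' := Ideal.mul_mem_right _ _ ha
      obtain ⟨m, w, hw, -, hz⟩ := exists_pow_unit (algebraMap A (FormalNode K) a * gen i) hji.symm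
        (by rw [map_mul, nodeAxis_gen_ne hji.symm, mul_zero])
        (by rw [map_mul, nodeAxis_gen]; exact mul_ne_zero hne PowerSeries.X_ne_zero)
      rw [hz] at hsplit
      rcases hP'.mem_or_mem hsplit with h | h
      · exact hi (hP'.mem_of_pow_mem _ h)
      · exact hP'.ne_top (Ideal.eq_top_of_isUnit_mem _ h hw)
  haveI : Ring.KrullDimLE 1 A := Ring.krullDimLE_one_iff_of_noZeroDivisors.mpr fun P hP0 hP => by
    rw [(hprimes P hP).resolve_left hP0]
    exact maximalIdeal.isMaximal A
  have hd : ringKrullDim A ≤ (1 : ℕ) := Ring.krullDimLE_iff.mp inferInstance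
  rw [← (isRegularLocalRing_iff A).mp ‹_›] at hd
  have h1 : (maximalIdeal A).spanFinrank ≤ 1 := by exact_mod_cast hd
  rcases Nat.le_one_iff_eq_zero_or_eq_one.mp h1 with h | h
  · rw [(Submodule.spanFinrank_eq_zero_iff_eq_bot (IsNoetherian.noetherian _)).mp h]
    exact inferInstance
  · exact ((Submodule.spanFinrank_eq_one_iff (maximalIdeal A)).mp h).1

end Groth.Agent.StrictSSLib
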