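import Groth.Prelude.Def_StrictSS
import Groth.Agent.StrictSSLib.NodePoint
import Mathlib.RingTheory.Smooth.Basic
import Mathlib.RingTheory.Localization.Away.Basic
import Mathlib.RingTheory.TensorProduct.Basic
import Mathlib.Algebra.Polynomial.Eval.Coeff

/-!
# The node algebra: smoothness off the origin, and the origin over a field in which the parameter vanishes
-/

set_option autoImplicit false
set_option linter.style.haveILetI false
set_option maxSynthPendingDepth 4

universe u

open IsLocalRing
open scoped TensorProduct Polynomial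

noncomputable section

namespace Groth.Agent.StrictSSLib

variable {A : Type u} [CommRing A] (a : A)

/-- The image of a variable. -/
def nx (i : Fin 2) : StrictSS.NodeAlg A a := Ideal.Quotient.mk _ (MvPolynomial.X i)

theorem nx_mul : nx a 0 * nx a 1 = algebraMap A (StrictSS.NodeAlg A a) a := by
  show Ideal.Quotient.mk _ (MvPolynomial.X 0 * MvPolynomial.X 1) = Ideal.Quotient.mk _ (MvPolynomial.C a)
  exact Ideal.Quotient.eq.mpr (Ideal.mem_span_singleton_self _)

theorem nx_mul_other (i : Fin 2) :
    nx a i * nx a (if i = 0 then 1 else 0) = algebraMap A (StrictSS.NodeAlg A a) a := by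
  fin_cases i
  · exact nx_mul a
  · exact (mul_comm _ _).trans (nx_mul a)

variable {a}

/-- Maps out of the node algebra. -/
def nodeLift {R : Type u} [CommRing R] [Algebra A R] (b : Fin 2 → R) (h : b 0 * b 1 = algebraMap A R a) :
    StrictSS.NodeAlg A a →ₐ[A] R :=
  Ideal.Quotient.liftₐ _ (MvPolynomial.aeval b) fun x hx => by
    obtain ⟨y, rfl⟩ := Ideal.mem_span_singleton'.mp hx
    simp [h]

theorem nodeLift_nx {R : Type u} [CommRing R] [Algebra A R] (b : Fin 2 → R) (h : b 0 * b 1 = algebraMap A R a)
    (i : Fin 2) : nodeLift b h (nx a i) = b i :=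
  (Ideal.Quotient.lift_mk _ _ _).trans (MvPolynomial.aeval_X b i)

theorem node_algHom_ext {R : Type u} [CommRing R] [Algebra A R] {f g : StrictSS.NodeAlg A a →ₐ[A] R}
    (h : ∀ i, f (nx a i) = g (nx a i)) : f = g := by
  refine AlgHom.ext fun x => ?_
  obtain ⟨p, rfl⟩ := Ideal.Quotient.mk_surjective x
  exact DFunLike.congr_fun (MvPolynomial.algHom_ext (f := f.comp (Ideal.Quotient.mkₐ A _))
    (g := g.comp (Ideal.Quotient.mkₐ A _)) h) p

variable (a)

/-- Off one of the axes the node algebra is smooth. -/
theorem smooth_away (i : Fin 2) : Algebra.Smooth A (Localization.Away (nx a i)) := by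
  set j : Fin 2 := if i = 0 then 1 else 0 with hj
  have hij : i ≠ j := by fin_cases i <;> simp [hj]
  let T := Localization.Away (Polynomial.X : A[X])
  let x : T := algebraMap A[X] T Polynomial.X
  let y : T := algebraMap A T a * IsLocalization.Away.invSelf (Polynomial.X : A[X])
  have hxy : x * y = algebraMap A T a := by
    rw [mul_left_comm]
    simp [x, IsLocalization.Away.mul_invSelf]
  let b : Fin 2 → T := fun l => if l = i then x else y
  have hb : b 0 * b 1 = algebraMap A T a := by
    fin_cases i
    · exact hxy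
    · exact (mul_comm _ _).trans hxy
  let f : StrictSS.NodeAlg A a →ₐ[A] T := nodeLift b hb
  have hfu : f (nx a i) = x := by rw [nodeLift_nx]; exact if_pos rfl
  have hux : IsUnit (f (nx a i)) := hfu ▸ IsLocalization.Away.algebraMap_isUnit _
  let F : Localization.Away (nx a i) →ₐ[A] T :=
    IsLocalization.liftAlgHom (M := Submonoid.powers (nx a i)) (f := f) fun s => by
      obtain ⟨n, hn⟩ := s.2
      rw [show (s : StrictSS.NodeAlg A a) = nx a i ^ n from hn.symm, map_pow]
      exact hux.pow n
  let g : A[X] →ₐ[A] Localization.Away (nx a i) :=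
    Polynomial.aeval (algebraMap (StrictSS.NodeAlg A a) _ (nx a i))
  let G : T →ₐ[A] Localization.Away (nx a i) :=
    IsLocalization.liftAlgHom (M := Submonoid.powers (Polynomial.X : A[X])) (f := g) fun s => by
      obtain ⟨n, hn⟩ := s.2
      rw [show (s : A[X]) = Polynomial.X ^ n from hn.symm, map_pow]
      refine IsUnit.pow n ?_
      simp only [g, Polynomial.aeval_X]
      exact IsLocalization.Away.algebraMap_isUnit _
  have hGx : G x = algebraMap (StrictSS.NodeAlg A a) _ (nx a i) := by
    simp only [G, x, IsLocalization.coe_liftAlgHom, IsLocalization.lift_eq, g]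
    exact Polynomial.aeval_X _
  have hF : ∀ z, F (algebraMap (StrictSS.NodeAlg A a) _ z) = f z := fun z => by
    simp only [F, IsLocalization.coe_liftAlgHom, IsLocalization.lift_eq]
    rfl
  have hU : IsUnit (algebraMap (StrictSS.NodeAlg A a) (Localization.Away (nx a i)) (nx a i)) :=
    IsLocalization.Away.algebraMap_isUnit _
  have hGy : G y = algebraMap (StrictSS.NodeAlg A a) _ (nx a j) := by
    refine hU.mul_left_cancel ?_
    rw [← hGx, ← map_mul, hxy, AlgHom.commutes, hGx, ← map_mul, nx_mul_other a i,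
      ← IsScalarTower.algebraMap_apply]
  let e : Localization.Away (nx a i) ≃ₐ[A] T := AlgEquiv.ofAlgHom F G
    (IsLocalization.algHom_ext (Submonoid.powers (Polynomial.X : A[X])) (Polynomial.algHom_ext
      ((congrArg F hGx).trans ((hF _).trans hfu))))
    (IsLocalization.algHom_ext (Submonoid.powers (nx a i)) (node_algHom_ext fun l => by
      show G (F (algebraMap _ _ (nx a l))) = algebraMap _ _ (nx a l)
      rw [hF, nodeLift_nx]
      show G (if l = i then x else y) = _
      split_ifs with hl
      · rw [hl, hGx]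
      · rw [hGy, show l = j by fin_cases i <;> fin_cases l <;> simp [hj] at hl ⊢]))
  haveI : Algebra.Smooth A[X] T := Algebra.Smooth.of_isLocalization_Away (Polynomial.X : A[X])
  haveI : Algebra.Smooth A A[X] := ⟨inferInstance, inferInstance⟩
  haveI : Algebra.Smooth A T := Algebra.Smooth.comp A A[X] T
  exact Algebra.Smooth.of_equiv e.symm

section Origin

variable (K : Type u) [Field K] [Algebra A K]

/-- The variables over the field. -/
def kx (i : Fin 2) : K ⊗[A] StrictSS.NodeAlg A a := 1 ⊗ₜ nx a i

variable {a} {K} (ha : algebraMap A K a = 0)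
include ha

theorem kx_mul : kx a K 0 * kx a K 1 = 0 := by
  rw [kx, kx, Algebra.TensorProduct.tmul_mul_tmul, one_mul, nx_mul, Algebra.algebraMap_eq_smul_one,
    TensorProduct.tmul_smul, TensorProduct.smul_tmul', Algebra.smul_def, ha, zero_mul, TensorProduct.zero_tmul]

/-- The restriction to one branch. -/
def branch (i : Fin 2) : K ⊗[A] StrictSS.NodeAlg A a →ₐ[K] K[X] :=
  Algebra.TensorProduct.lift (Algebra.ofId K K[X])
    (nodeLift (fun l => if l = i then Polynomial.X else 0) (by
      fin_cases i <;> simp [IsScalarTower.algebraMap_apply A K K[X], ha]))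
    (fun _ _ => Commute.all _ _)

theorem branch_kx (i l : Fin 2) : branch ha i (kx a K l) = if l = i then Polynomial.X else 0 := by
  rw [branch, kx, Algebra.TensorProduct.lift_tmul, map_one, one_mul, nodeLift_nx]

omit ha in
theorem exists_const (r : K ⊗[A] StrictSS.NodeAlg A a) :
    ∃ c : K, r - algebraMap K (K ⊗[A] StrictSS.NodeAlg A a) c ∈ Ideal.span {kx a K 0, kx a K 1} := by
  induction r using TensorProduct.induction_on with
  | zero => exact ⟨0, by simp⟩
  | add r s hr hs =>
    obtain ⟨c, hc⟩ := hr
    obtain ⟨d, hd⟩ := hs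
    exact ⟨c + d, by rw [map_add, add_sub_add_comm]; exact add_mem hc hd⟩
  | tmul w z =>
    obtain ⟨p, rfl⟩ := Ideal.Quotient.mk_surjective z
    refine ⟨w * algebraMap A K (MvPolynomial.constantCoeff p), ?_⟩
    induction p using MvPolynomial.induction_on with
    | C b =>
      rw [MvPolynomial.constantCoeff_C]
      have key : w ⊗ₜ[A] (Ideal.Quotient.mk _ (MvPolynomial.C b) : StrictSS.NodeAlg A a) =
          algebraMap K (K ⊗[A] StrictSS.NodeAlg A a) (w * algebraMap A K b) := by
        rw [Algebra.TensorProduct.algebraMap_apply, show (Ideal.Quotient.mk _ (MvPolynomial.C b) : StrictSS.NodeAlg A a) =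
          b • (1 : StrictSS.NodeAlg A a) from Algebra.algebraMap_eq_smul_one b, TensorProduct.tmul_smul,
          TensorProduct.smul_tmul', Algebra.smul_def, Algebra.algebraMap_self_apply]
        exact congrArg (· ⊗ₜ[A] (1 : StrictSS.NodeAlg A a)) (mul_comm _ _)
      rw [key, sub_self]
      exact zero_mem _
    | add p q hp hq =>
      rw [map_add, map_add, map_add, mul_add, map_add, TensorProduct.tmul_add, add_sub_add_comm]
      exact add_mem hp hq
    | mul_X p i _ =>
      rw [map_mul MvPolynomial.constantCoeff, MvPolynomial.constantCoeff_X, mul_zero, map_zero, mul_zero, map_zero,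
        sub_zero, map_mul (Ideal.Quotient.mk _),
        show w ⊗ₜ[A] (Ideal.Quotient.mk _ p * Ideal.Quotient.mk _ (MvPolynomial.X i)) =
          (w ⊗ₜ[A] Ideal.Quotient.mk _ p) * kx a K i by rw [kx, Algebra.TensorProduct.tmul_mul_tmul, mul_one]; rfl]
      exact Ideal.mul_mem_left _ _ (Ideal.subset_span (by fin_cases i <;> simp))

variable (P : Ideal (K ⊗[A] StrictSS.NodeAlg A a)) [hP : P.IsPrime] (h0 : kx a K 0 ∈ P) (h1 : kx a K 1 ∈ P)

omit ha in
include h0 h1 hP in
theorem prime_eq : P = Ideal.span {kx a K 0, kx a K 1} := by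
  have hle : Ideal.span {kx a K 0, kx a K 1} ≤ P := Ideal.span_le.mpr (by rintro _ (rfl | rfl) <;> assumption)
  refine le_antisymm (fun r hr => ?_) hle
  obtain ⟨c, hc⟩ := exists_const (a := a) r
  have hcP : algebraMap K (K ⊗[A] StrictSS.NodeAlg A a) c ∈ P := by
    have := sub_mem hr (hle hc)
    rwa [sub_sub_cancel] at this
  have : c = 0 := by
    by_contra hc0
    exact hP.ne_top (Ideal.eq_top_of_isUnit_mem _ hcP ((IsUnit.mk0 c hc0).map _))
  rwa [this, map_zero, sub_zero] at hc

variable (L : Type u) [CommRing L] [IsLocalRing L] [Algebra (K ⊗[A] StrictSS.NodeAlg A a) L]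
  [IsLocalization.AtPrime (R := K ⊗[A] StrictSS.NodeAlg A a) L P]

include h0 h1 in
/-- The origin of the node over the field. -/
theorem origin_data :
    NodeData K L ((algebraMap (K ⊗[A] StrictSS.NodeAlg A a) L).comp (algebraMap K _)) := by
  have hPs := prime_eq P h0 h1
  have hres : ∀ r, ∃ c : K, residue L (algebraMap (K ⊗[A] StrictSS.NodeAlg A a) L r) = residue L (algebraMap (K ⊗[A] StrictSS.NodeAlg A a) L (algebraMap K (K ⊗[A] StrictSS.NodeAlg A a) c)) := by
    intro r
    obtain ⟨c, hc⟩ := exists_const (a := a) r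
    refine ⟨c, Ideal.Quotient.eq.mpr ?_⟩
    rw [← map_sub, IsLocalization.AtPrime.to_map_mem_maximal_iff L P]
    rwa [hPs]
  have hnil : ∀ (i : Fin 2) (n : ℕ), algebraMap (K ⊗[A] StrictSS.NodeAlg A a) L (kx a K i) ^ n ≠ 0 := by
    intro i n h
    rw [← map_pow, IsLocalization.map_eq_zero_iff P.primeCompl] at h
    obtain ⟨⟨s, hs⟩, hsn⟩ := h
    have h2 := congrArg (branch ha i) hsn
    rw [map_mul, map_pow, branch_kx, if_pos rfl, map_zero] at h2
    have h3 : branch ha i s = 0 := (mul_eq_zero.mp h2).resolve_right (pow_ne_zero n Polynomial.X_ne_zero)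
    obtain ⟨c, hc⟩ := exists_const (a := a) s
    have h4 : ∀ z ∈ Ideal.span {kx a K 0, kx a K 1}, (branch ha i z).eval 0 = 0 := fun z hz => by
      obtain ⟨p, q, rfl⟩ := Ideal.mem_span_pair.mp hz
      rw [map_add, map_mul, map_mul, branch_kx, branch_kx]
      simp [apply_ite (Polynomial.eval (0 : K))]
    have h5 := h4 _ hc
    rw [map_sub, h3, zero_sub, AlgHom.commutes, Polynomial.eval_neg, neg_eq_zero, ← Polynomial.C_eq_algebraMap,
      Polynomial.eval_C] at h5
    refine hs ?_
    rw [hPs]
    rwa [h5, map_zero, sub_zero] at hc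
  refine ⟨algebraMap (K ⊗[A] StrictSS.NodeAlg A a) L (kx a K 0), algebraMap (K ⊗[A] StrictSS.NodeAlg A a) L (kx a K 1), by rw [← map_mul, kx_mul ha, map_zero], ?_, ?_,
    hnil 0, hnil 1⟩
  · rw [← IsLocalization.AtPrime.map_eq_maximalIdeal P L, hPs, Ideal.map_span, Set.image_pair]
  · intro z
    obtain ⟨z, rfl⟩ := residue_surjective z
    obtain ⟨⟨r, s⟩, hrs⟩ := IsLocalization.surj P.primeCompl z
    obtain ⟨c, hc⟩ := hres r
    obtain ⟨d, hd⟩ := hres s
    refine ⟨c / d, ?_⟩
    have hsne : residue L (algebraMap (K ⊗[A] StrictSS.NodeAlg A a) L (s : K ⊗[A] StrictSS.NodeAlg A a)) ≠ 0 :=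
      (IsLocalRing.residue_ne_zero_iff_isUnit _).mpr (IsLocalization.map_units L s)
    have h2 := congrArg (residue L) hrs
    rw [map_mul, hc, hd] at h2
    rw [hd] at hsne
    rw [map_div₀, div_eq_iff (show ((residue L).comp ((algebraMap (K ⊗[A] StrictSS.NodeAlg A a) L).comp (algebraMap K _))) d ≠ 0 from hsne)]
    exact h2.symm

end Origin

end Groth.Agent.StrictSSLib
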