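import Groth.Agent.StrictSSLib.OdpFieldExt
import Groth.Agent.CurveDVR.Stalk
import Groth.Agent.CycLib.DimFun
import Groth.Agent.StrictSSLib.NodeFibre
import Mathlib.AlgebraicGeometry.Properties

/-!
# Ordinary double points of a base change lie over closed points
-/

set_option autoImplicit false
set_option linter.style.haveILetI false

universe u

open CategoryTheory CategoryTheory.Limits AlgebraicGeometry IsLocalRing TopologicalSpace

noncomputable section

namespace Groth.Agent.StrictSSLib

/-- On a space with components of dimension at most one a point is closed or maximal. -/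
theorem isClosed_or_coheight_eq_zero {X : Scheme.{u}}
    (hdim : ∀ Z ∈ irreducibleComponents (X : Type u), topologicalKrullDim Z ≤ 1) (x : X) :
    IsClosed ({x} : Set X) ∨ Order.coheight x = 0 := by
  by_cases hg : ∀ z : X, z ⤳ x → z = x
  · exact Or.inr (CycLib.coheight_eq_zero_of_maximal hg)
  push Not at hg
  obtain ⟨g, hgx, hne⟩ := hg
  refine Or.inl (isClosed_of_closure_subset fun y hy => Set.mem_singleton_iff.2 (by_contra fun hyx => ?_))
  have hxy : x ⤳ y := specializes_iff_mem_closure.2 hy
  let Z := irreducibleComponent g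
  have hgZ : g ∈ Z := mem_irreducibleComponent
  have hxZ : x ∈ Z := hgx.mem_closed isClosed_irreducibleComponent hgZ
  have hyZ : y ∈ Z := hxy.mem_closed isClosed_irreducibleComponent hxZ
  let c : Z → IrreducibleCloseds Z := fun z =>
    ⟨closure {z}, isIrreducible_singleton.closure, isClosed_closure⟩
  have hlt : ∀ {a b : Z}, (b : X) ⤳ a → (a : X) ≠ b → c a < c b := by
    intro a b hab hne'
    refine lt_of_le_of_ne (show closure {a} ⊆ closure {b} from ((subtype_specializes_iff _ _).mpr hab).closure_subset) fun h => hne' ?_
    exact (Inseparable.eq ((inseparable_iff_closure_eq.2 (congrArg (fun s : IrreducibleCloseds Z => (s : Set Z)) h)).map continuous_subtype_val))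
  let ser : LTSeries (IrreducibleCloseds Z) :=
    LTSeries.mk 2 ![c ⟨y, hyZ⟩, c ⟨x, hxZ⟩, c ⟨g, hgZ⟩] (Fin.strictMono_iff_lt_succ.2 fun i => by
      fin_cases i
      · exact hlt hxy hyx
      · exact hlt hgx (Ne.symm hne))
  have h2 := (Order.LTSeries.length_le_krullDim ser).trans (hdim Z (irreducibleComponent_mem_irreducibleComponents g))
  change ((2 : ℕ) : WithBot ℕ∞) ≤ 1 at h2
  norm_num at h2

/-- A space of dimension at most one has components of dimension at most one. -/
theorem components_dim_le_of_dim_le {X : Scheme.{u}} {n : WithBot ℕ∞} (h : topologicalKrullDim X ≤ n) :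
    ∀ Z ∈ irreducibleComponents (X : Type u), topologicalKrullDim Z ≤ n :=
  fun _ _ => (Topology.IsInducing.subtypeVal.topologicalKrullDim_le).trans h

set_option backward.isDefEq.respectTransparency.types false in
set_option backward.isDefEq.respectTransparency false in
/-- A reduced local ring of dimension zero over a perfect field is a smooth point. -/
theorem mem_smoothLocus_of_krullDimLE_zero {k : Type u} [Field k] [PerfectField k] {C : Scheme.{u}}
    (f : C ⟶ Spec (CommRingCat.of k)) [LocallyOfFinitePresentation f] (x : C)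
    [_root_.IsReduced (C.presheaf.stalk x)] [Ring.KrullDimLE 0 (C.presheaf.stalk x)] : x ∈ f.smoothLocus := by
  letI : Field (C.presheaf.stalk x) := (Ring.KrullDimLE.isField_of_isReduced).toField
  have := LocallyOfFiniteType.stalkMap f x
  rw [Scheme.Hom.mem_smoothLocus]
  algebraize [(f.stalkMap x).hom]
  let K' := (Spec.structureSheaf k).presheaf.stalk (f x)
  let e : k ≃ₐ[k] K' := IsLocalization.atUnits _ (f x).asIdeal.primeCompl
      (fun y hy ↦ by aesop (add simp IsUnit.mem_submonoid_iff))
  have : Algebra.IsAlgebraic k K' := .of_injective e.symm.toAlgHom e.symm.injective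
  let : Field K' := (e.toRingEquiv.symm.isField (Field.toIsField k)).toField
  let : Field ((Spec (CommRingCat.of k)).presheaf.stalk (f x)) := this
  have : PerfectField ((Spec (CommRingCat.of k)).presheaf.stalk (f x)) :=
    Algebra.IsAlgebraic.perfectField (K := k) (L := (Spec.structureSheaf k).presheaf.stalk (f x))
  exact Algebra.FormallySmooth.of_perfectField

/-- Over an algebraically closed field, a point under an ordinary double point is closed. -/
theorem isClosed_of_isOdpAt {k K : Type u} [Field k] [IsAlgClosed k] [Field K] [Algebra k K]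
    {C Y : Scheme.{u}} {φ : C ⟶ Spec (CommRingCat.of k)} [LocallyOfFiniteType φ]
    {P : Y ⟶ C} {π : Y ⟶ Spec (CommRingCat.of K)}
    (hpb : IsPullback P π φ (Spec.map (CommRingCat.ofHom (algebraMap k K)))) (y : Y)
    (hy : IsClosed ({y} : Set Y)) (hord : IsOdpAt π y)
    (hgen : IsClosed ({P y} : Set C) ∨ Order.coheight (P y) = 0) : IsClosed ({P y} : Set C) := by
  refine hgen.resolve_right fun h0 => ?_
  haveI : LocallyOfFiniteType π := MorphismProperty.of_isPullback hpb inferInstance
  haveI : IsLocallyNoetherian Y := LocallyOfFiniteType.isLocallyNoetherian π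
  haveI : LocallyOfFinitePresentation φ := inferInstance
  haveI : Flat P := MorphismProperty.of_isPullback (P := @Flat) hpb.flip inferInstance
  let A := C.presheaf.stalk (P y)
  let B := Y.presheaf.stalk y
  haveI : Ring.KrullDimLE 0 A := krullDimLE_of_coheight_le (z := P y) (n := 0) h0.le
  haveI : _root_.IsReduced A := by
    obtain ⟨e, -⟩ := hord
    haveI : _root_.IsReduced (FormalNode K) := by
      refine ⟨fun z ⟨n, hn⟩ => node_ext fun i => ?_⟩
      exact IsReduced.eq_zero _ ⟨n, by rw [← map_pow, hn, map_zero]⟩
    letI : Algebra A B := (P.stalkMap y).hom.toAlgebra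
    haveI : IsLocalHom (algebraMap A B) := inferInstanceAs <| IsLocalHom (P.stalkMap y).hom
    haveI : Module.Flat A B := RingHom.flat_algebraMap_iff.mp (Flat.stalkMap P y)
    haveI : Module.FaithfullyFlat A B := Module.FaithfullyFlat.of_flat_of_isLocalHom
    haveI : _root_.IsReduced B := isReduced_of_injective
      (e.toRingHom.comp (algebraMap B (AdicCompletion (maximalIdeal B) B))) (e.injective.comp cpl_algebraMap_injective)
    exact isReduced_of_injective (algebraMap A B) (FaithfulSMul.algebraMap_injective A B)
  let U := φ.smoothLocus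
  have hxU : P y ∈ U := mem_smoothLocus_of_krullDimLE_zero φ (P y)
  haveI : Smooth (U.ι ≫ φ) := smooth_smoothLocus φ
  let W : Y.Opens := P ⁻¹ᵁ U
  have hW : IsPullback (P ∣_ U) (W.ι ≫ π) (U.ι ≫ φ) (Spec.map (CommRingCat.ofHom (algebraMap k K))) :=
    (isPullback_morphismRestrict P U).paste_vert hpb
  haveI : Smooth (W.ι ≫ π) := MorphismProperty.of_isPullback (P := @Smooth) hW inferInstance
  let yw : (W : Scheme.{u}) := ⟨y, hxU⟩
  haveI := CurveDVR.isRegularLocalRing_stalk (W.ι ≫ π) yw
  have hreg : IsRegularLocalRing B :=
    IsRegularLocalRing.of_ringEquiv (W.stalkIso yw).commRingCatIsoToRingEquiv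
  have hid : IsPullback (𝟙 Y) π π (Spec.map (CommRingCat.ofHom (algebraMap K K))) := by
    rw [show CommRingCat.ofHom (algebraMap K K) = 𝟙 _ from rfl, Spec.map_id]
    exact IsPullback.of_horiz_isIso ⟨by simp⟩
  exact not_isRegularLocalRing_of_isOdpAt hid y hy hord hreg

end Groth.Agent.StrictSSLib
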