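import Groth.Agent.StrictSSLib.OdpDescent

/-!
# Ordinary double points and flat maps unramified in the sense of maximal ideals
-/

set_option autoImplicit false
set_option linter.style.haveILetI false

universe u

open IsLocalRing

noncomputable section

namespace Groth.Agent.StrictSSLib

section Iterate

variable {C : Type u} [CommRing C] [IsLocalRing C] [IsNoetherianRing C] [IsAdicComplete (maximalIdeal C) C]

theorem span_pair_congr {u v u' v' : C} (h : maximalIdeal C = Ideal.span {u, v})
    (hu : u' - u ∈ maximalIdeal C ^ 2) (hv : v' - v ∈ maximalIdeal C ^ 2) : maximalIdeal C = Ideal.span {u', v'} := by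
  have humax : u ∈ maximalIdeal C := h ▸ Ideal.subset_span (Or.inl rfl)
  have hvmax : v ∈ maximalIdeal C := h ▸ Ideal.subset_span (Or.inr rfl)
  refine le_antisymm ?_ (Ideal.span_le.mpr (Set.pair_subset ?_ ?_))
  · refine Submodule.le_of_le_smul_of_le_jacobson_bot (I := maximalIdeal C) (IsNoetherian.noetherian _)
      (IsLocalRing.maximalIdeal_le_jacobson _) ?_
    rw [smul_eq_mul, ← pow_two]
    conv_lhs => rw [h]
    refine Ideal.span_le.mpr (Set.pair_subset ?_ ?_)
    · rw [show u = u' + -(u' - u) by ring]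
      exact Submodule.add_mem_sup (Ideal.subset_span (Or.inl rfl)) (neg_mem hu)
    · rw [show v = v' + -(v' - v) by ring]
      exact Submodule.add_mem_sup (Ideal.subset_span (Or.inr rfl)) (neg_mem hv)
  · rw [show u' = u + (u' - u) by ring]
    exact add_mem humax (Ideal.pow_le_self two_ne_zero hu)
  · rw [show v' = v + (v' - v) by ring]
    exact add_mem hvmax (Ideal.pow_le_self two_ne_zero hv)

theorem exists_prod_step {u v : C} (h : maximalIdeal C = Ideal.span {u, v}) (n : ℕ)
    (huv : u * v ∈ maximalIdeal C ^ (n + 3)) :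
    ∃ u' v' : C, u' * v' ∈ maximalIdeal C ^ (n + 4) ∧ u' - u ∈ maximalIdeal C ^ (n + 2) ∧
      v' - v ∈ maximalIdeal C ^ (n + 2) := by
  have hdec : ∀ w ∈ maximalIdeal C ^ (n + 3), ∃ p ∈ maximalIdeal C ^ (n + 2), ∃ q ∈ maximalIdeal C ^ (n + 2),
      w = u * p + v * q := by
    intro w hw
    rw [pow_succ'] at hw
    refine Submodule.mul_induction_on hw (fun a ha b hb => ?_) fun a b ha hb => ?_
    · rw [h] at ha
      obtain ⟨r, s, rfl⟩ := Ideal.mem_span_pair.mp ha
      exact ⟨r * b, Ideal.mul_mem_left _ r hb, s * b, Ideal.mul_mem_left _ s hb, by ring⟩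
    · obtain ⟨p, hp, q, hq, rfl⟩ := ha
      obtain ⟨p', hp', q', hq', rfl⟩ := hb
      exact ⟨p + p', add_mem hp hp', q + q', add_mem hq hq', by ring⟩
  obtain ⟨p, hp, q, hq, hw⟩ := hdec _ huv
  refine ⟨u - q, v - p, ?_, by rw [sub_sub_cancel_left]; exact neg_mem hq, by rw [sub_sub_cancel_left]; exact neg_mem hp⟩
  rw [show (u - q) * (v - p) = u * v - (u * p + v * q) + q * p by ring, ← hw, sub_self, zero_add]
  exact Ideal.pow_le_pow_right (show n + 4 ≤ (n + 2) + (n + 2) by omega) (by rw [pow_add]; exact Ideal.mul_mem_mul hq hp)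

/-- Two generators whose product vanishes to order three can be corrected to product zero. -/
theorem exists_prod_zero {u v : C} (h : maximalIdeal C = Ideal.span {u, v}) (huv : u * v ∈ maximalIdeal C ^ 3) :
    ∃ u' v' : C, u' * v' = 0 ∧ maximalIdeal C = Ideal.span {u', v'} ∧ u' - u ∈ maximalIdeal C ^ 2 ∧
      v' - v ∈ maximalIdeal C ^ 2 := by
  classical
  let m := maximalIdeal C
  let Good : ℕ → C × C → Prop := fun n w => w.1 * w.2 ∈ m ^ (n + 3) ∧ w.1 - u ∈ m ^ 2 ∧ w.2 - v ∈ m ^ 2
  have step : ∀ n (w : C × C), Good n w → ∃ w', Good (n + 1) w' ∧ w'.1 - w.1 ∈ m ^ (n + 2) ∧ w'.2 - w.2 ∈ m ^ (n + 2) := by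
    rintro n w ⟨h1, h2, h3⟩
    obtain ⟨u', v', e1, e2, e3⟩ := exists_prod_step (span_pair_congr h h2 h3) n h1
    refine ⟨(u', v'), ⟨e1, ?_, ?_⟩, e2, e3⟩
    · rw [show u' - u = (u' - w.1) + (w.1 - u) by ring]
      exact add_mem (Ideal.pow_le_pow_right (by omega) e2) h2
    · rw [show v' - v = (v' - w.2) + (w.2 - v) by ring]
      exact add_mem (Ideal.pow_le_pow_right (by omega) e3) h3
  choose f hf using step
  let seq : ∀ n, {w : C × C // Good n w} := fun n => Nat.rec
    ⟨(u, v), huv, by simp, by simp⟩ (fun n w => ⟨f n w.1 w.2, (hf n w.1 w.2).1⟩) n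
  have hcau : ∀ n, (seq (n + 1)).1.1 - (seq n).1.1 ∈ m ^ n ∧ (seq (n + 1)).1.2 - (seq n).1.2 ∈ m ^ n := fun n =>
    ⟨Ideal.pow_le_pow_right (Nat.le_add_right n 2) (hf n (seq n).1 (seq n).2).2.1,
      Ideal.pow_le_pow_right (Nat.le_add_right n 2) (hf n (seq n).1 (seq n).2).2.2⟩
  have hlim : ∀ s : ℕ → C, (∀ n, s (n + 1) - s n ∈ m ^ n) → ∃ L, ∀ n, s n - L ∈ m ^ n := by
    intro s hs
    have hmn : ∀ {a b : ℕ}, a ≤ b → s a - s b ∈ m ^ a := by
      intro a b hab
      induction b, hab using Nat.le_induction with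
      | base => simp
      | succ b hb ih =>
        rw [show s a - s (b + 1) = (s a - s b) - (s (b + 1) - s b) by ring]
        exact sub_mem ih (Ideal.pow_le_pow_right hb (hs b))
    obtain ⟨L, hL⟩ := IsPrecomplete.prec' (I := m) (M := C) s (by
      intro a b hab
      rw [SModEq.sub_mem, smul_eq_mul, Ideal.mul_top]
      exact hmn hab)
    exact ⟨L, fun n => by simpa [SModEq.sub_mem, smul_eq_mul, Ideal.mul_top] using hL n⟩
  obtain ⟨Lu, hLu⟩ := hlim (fun n => (seq n).1.1) fun n => (hcau n).1
  obtain ⟨Lv, hLv⟩ := hlim (fun n => (seq n).1.2) fun n => (hcau n).2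
  have hu2 : Lu - u ∈ m ^ 2 := by
    rw [show Lu - u = ((seq 2).1.1 - u) - ((seq 2).1.1 - Lu) by ring]
    exact sub_mem (seq 2).2.2.1 (hLu 2)
  have hv2 : Lv - v ∈ m ^ 2 := by
    rw [show Lv - v = ((seq 2).1.2 - v) - ((seq 2).1.2 - Lv) by ring]
    exact sub_mem (seq 2).2.2.2 (hLv 2)
  refine ⟨Lu, Lv, IsHausdorff.haus' (I := m) _ fun n => ?_, span_pair_congr h hu2 hv2, hu2, hv2⟩
  rw [SModEq.sub_mem, smul_eq_mul, Ideal.mul_top, sub_zero,
    show Lu * Lv = (seq n).1.1 * (seq n).1.2 - ((seq n).1.1 - Lu) * (seq n).1.2 - Lu * ((seq n).1.2 - Lv) by ring]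
  exact sub_mem (sub_mem (Ideal.pow_le_pow_right (by omega) (seq n).2.1) (Ideal.mul_mem_right _ _ (hLu n)))
    (Ideal.mul_mem_left _ _ (hLv n))

end Iterate

theorem pow_span_pair_le {C : Type u} [CommRing C] {u v : C} (huv : u * v = 0) :
    ∀ n : ℕ, 1 ≤ n → Ideal.span {u, v} ^ n ≤ Ideal.span {u ^ n, v ^ n} := by
  intro n hn
  induction n, hn using Nat.le_induction with
  | base => simp
  | succ n hn ih =>
    rw [pow_succ]
    refine (Ideal.mul_mono_left ih).trans ?_
    rw [Ideal.span_mul_span', Ideal.span_le]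
    rintro _ ⟨a, ha, b, hb, rfl⟩
    have hz : u ^ n * v = 0 ∧ v ^ n * u = 0 := by
      obtain ⟨t, rfl⟩ := Nat.exists_eq_add_of_le' hn
      constructor
      · rw [pow_succ, mul_assoc, huv, mul_zero]
      · rw [pow_succ, mul_assoc, mul_comm v u, huv, mul_zero]
    rcases ha with rfl | rfl <;> rcases hb with rfl | rfl
    · exact Ideal.subset_span (Or.inl (by simp [pow_succ]))
    · simp [hz.1]
    · simp [hz.2]
    · exact Ideal.subset_span (Or.inr (by simp [pow_succ]))

variable {k : Type u} [Field k] {A : Type u} [CommRing A] [IsLocalRing A] [IsNoetherianRing A] [Algebra k A]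

/-- Ordinary double points from generators of the completion. -/
theorem isOrdDoublePt_of_completion_gens (hres : Function.Surjective ((residue A).comp (algebraMap k A)))
    (u v : AdicCompletion (maximalIdeal A) A) (huv : u * v = 0)
    (hgen : maximalIdeal (AdicCompletion (maximalIdeal A) A) = Ideal.span {u, v}) (a b : A)
    (hau : u - algebraMap A _ a ∈ maximalIdeal (AdicCompletion (maximalIdeal A) A) ^ 2)
    (hbv : v - algebraMap A _ b ∈ maximalIdeal (AdicCompletion (maximalIdeal A) A) ^ 2)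
    (ha : ∀ n : ℕ, 1 ≤ n → ¬ maximalIdeal A ^ n ≤ Ideal.span {a ^ n} ⊔ maximalIdeal A ^ (n + 1))
    (hb : ∀ n : ℕ, 1 ≤ n → ¬ maximalIdeal A ^ n ≤ Ideal.span {b ^ n} ⊔ maximalIdeal A ^ (n + 1)) :
    Curv2.IsOrdDoublePt k A := by
  let Ah := AdicCompletion (maximalIdeal A) A
  haveI : IsNoetherianRing Ah := RegLoc.AdicNoeth.isNoetherianRing_adicCompletion _ (IsNoetherian.noetherian _)
  haveI : Module.FaithfullyFlat A Ah := Module.FaithfullyFlat.of_flat_of_isLocalHom
  have hmax : maximalIdeal Ah = (maximalIdeal A).map (algebraMap A Ah) := AdicCompletion.maximalIdeal_eq_map (R := A)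
  have main : ∀ (x y : Ah) (c : A), x * y = 0 → maximalIdeal Ah = Ideal.span {x, y} →
      y - algebraMap A Ah c ∈ maximalIdeal Ah ^ 2 →
      (∀ n : ℕ, 1 ≤ n → ¬ maximalIdeal A ^ n ≤ Ideal.span {c ^ n} ⊔ maximalIdeal A ^ (n + 1)) →
      ∀ n : ℕ, x ^ n ≠ 0 := by
    intro x y c hxy hg hc hno n hx
    rcases Nat.eq_zero_or_pos n with rfl | hn
    · exact one_ne_zero (α := Ah) (by simpa using hx)
    refine hno n hn ?_
    have hy : y ∈ maximalIdeal Ah := hg ▸ Ideal.subset_span (Or.inr rfl)
    have hc' : algebraMap A Ah c ∈ maximalIdeal Ah := by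
      rw [show algebraMap A Ah c = y - (y - algebraMap A Ah c) by ring]
      exact sub_mem hy (Ideal.pow_le_self two_ne_zero hc)
    have hdiff : ∀ i : ℕ, 1 ≤ i → y ^ i - algebraMap A Ah c ^ i ∈ maximalIdeal Ah ^ (i + 1) := by
      intro i hi
      induction i, hi using Nat.le_induction with
      | base => simpa using hc
      | succ i hi ih =>
        rw [show y ^ (i + 1) - algebraMap A Ah c ^ (i + 1) =
          (y ^ i - algebraMap A Ah c ^ i) * y + algebraMap A Ah c ^ i * (y - algebraMap A Ah c) by ring]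
        refine add_mem ?_ ?_
        · rw [pow_succ _ (i + 1)]
          exact Ideal.mul_mem_mul ih hy
        · rw [show i + 1 + 1 = i + 2 from rfl, pow_add]
          exact Ideal.mul_mem_mul (Ideal.pow_mem_pow hc' i) hc
    have h1 : maximalIdeal Ah ^ n ≤ Ideal.span {algebraMap A Ah c ^ n} ⊔ maximalIdeal Ah ^ (n + 1) := by
      conv_lhs => rw [hg]
      refine (pow_span_pair_le hxy n hn).trans (Ideal.span_le.mpr (Set.pair_subset ?_ ?_))
      · rw [hx]; exact zero_mem _
      · rw [show y ^ n = algebraMap A Ah c ^ n + (y ^ n - algebraMap A Ah c ^ n) by ring]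
        exact Submodule.add_mem_sup (Ideal.subset_span rfl) (hdiff n hn)
    rw [← Ideal.comap_map_eq_self_of_faithfullyFlat (B := Ah) (Ideal.span {c ^ n} ⊔ maximalIdeal A ^ (n + 1)),
      ← Ideal.map_le_iff_le_comap, Ideal.map_sup, Ideal.map_span, Set.image_singleton, map_pow, Ideal.map_pow,
      Ideal.map_pow, ← hmax]
    exact h1
  have hresh : Function.Surjective ((residue Ah).comp (algebraMap k Ah)) := fun r => by
    obtain ⟨s, rfl⟩ := (AdicCompletion.residueField_map_bijective (R := A)).2 r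
    obtain ⟨c, rfl⟩ := hres s
    exact ⟨c, rfl⟩
  obtain ⟨e, he⟩ := isOrdDoublePt_of (K := k) (B := Ah) u v huv hgen hresh (main u v b huv hgen hbv hb)
    (main v u a (by rw [mul_comm, huv]) (by rw [hgen, Ideal.span_pair_comm]) hau ha)
  refine ⟨((AdicCompletion.ofAlgEquiv (maximalIdeal Ah) : Ah ≃ₐ[Ah] _).toRingEquiv).trans e, fun c => ?_⟩
  exact he c

/-- Descent: a node above a map with `mA N = mN` gives an ordinary double point. -/
theorem isOrdDoublePt_of_map_node [IsAlgClosed k] {K : Type u} [Field K] [Algebra A (FormalNode K)]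
    [IsLocalHom (algebraMap A (FormalNode K))] [Module.Flat A (FormalNode K)]
    (hres : Function.Surjective ((residue A).comp (algebraMap k A)))
    (hm : (maximalIdeal A).map (algebraMap A (FormalNode K)) = maximalIdeal (FormalNode K)) :
    Curv2.IsOrdDoublePt k A := by
  haveI : Module.FaithfullyFlat A (FormalNode K) := Module.FaithfullyFlat.of_flat_of_isLocalHom
  set φ := algebraMap A (FormalNode K) with hφ
  obtain ⟨a, ha, b, hb, hdet⟩ := exists_gen_pair (A := A) hm
  have hgen := span_pair_of_det hm ha hb hdet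
  -- a quadratic relation
  have hconst : ∀ r : A, ∃ c : k, r - algebraMap k A c ∈ maximalIdeal A := fun r => by
    obtain ⟨c, hc⟩ := hres (residue A r)
    exact ⟨c, Ideal.Quotient.eq.mp hc.symm⟩
  have hsq2 : maximalIdeal A ^ 2 = Ideal.span {a * a, a * b, b * b} := by
    rw [pow_two, hgen, Ideal.span_mul_span']
    refine le_antisymm (Ideal.span_le.mpr ?_) (Ideal.span_mono ?_)
    · rintro _ ⟨x, hx, y, hy, rfl⟩
      rcases hx with rfl | rfl <;> rcases hy with rfl | rfl <;>
        refine Ideal.subset_span ?_ <;> simp [mul_comm]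
    · rintro _ (rfl | rfl | rfl)
      exacts [⟨a, Or.inl rfl, a, Or.inl rfl, rfl⟩, ⟨a, Or.inl rfl, b, Or.inr rfl, rfl⟩,
        ⟨b, Or.inr rfl, b, Or.inr rfl, rfl⟩]
  have hxm := map_mem_max hm ha
  have hym := map_mem_max hm hb
  -- a pair of monomials generating the square
  have hpair : ∀ c d : A, c ∈ maximalIdeal A ^ 2 → d ∈ maximalIdeal A ^ 2 →
      PowerSeries.coeff 2 (nodeAxis 0 (φ c)) * PowerSeries.coeff 2 (nodeAxis 1 (φ d)) -
        PowerSeries.coeff 2 (nodeAxis 1 (φ c)) * PowerSeries.coeff 2 (nodeAxis 0 (φ d)) ≠ 0 →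
      maximalIdeal A ^ 2 ≤ Ideal.span {c, d} ⊔ maximalIdeal A ^ 3 := by
    intro c d hc hd hne
    rw [← Ideal.comap_map_eq_self_of_faithfullyFlat (B := FormalNode K) (Ideal.span {c, d} ⊔ maximalIdeal A ^ 3),
      ← Ideal.map_le_iff_le_comap, Ideal.map_sup, Ideal.map_span, Set.image_pair, Ideal.map_pow, Ideal.map_pow, hm]
    intro z hz
    let C : K → FormalNode K := fun c => Ideal.Quotient.mk _ (MvPowerSeries.C c)
    have hC : ∀ i c, nodeAxis i (C c) = PowerSeries.C c := fun i c => by
      refine PowerSeries.ext fun n => ?_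
      simp [C, nodeAxis_mk, axisSeries, PowerSeries.coeff_C, MvPowerSeries.coeff_C]
    set D := PowerSeries.coeff 2 (nodeAxis 0 (φ c)) * PowerSeries.coeff 2 (nodeAxis 1 (φ d)) -
        PowerSeries.coeff 2 (nodeAxis 1 (φ c)) * PowerSeries.coeff 2 (nodeAxis 0 (φ d)) with hD
    let p := C ((PowerSeries.coeff 2 (nodeAxis 0 z) * PowerSeries.coeff 2 (nodeAxis 1 (φ d)) -
        PowerSeries.coeff 2 (nodeAxis 1 z) * PowerSeries.coeff 2 (nodeAxis 0 (φ d))) / D)
    let q := C ((PowerSeries.coeff 2 (nodeAxis 0 (φ c)) * PowerSeries.coeff 2 (nodeAxis 1 z) -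
        PowerSeries.coeff 2 (nodeAxis 1 (φ c)) * PowerSeries.coeff 2 (nodeAxis 0 z)) / D)
    have hφ2 : ∀ e ∈ maximalIdeal A ^ 2, φ e ∈ maximalIdeal (FormalNode K) ^ 2 := fun e he => by
      rw [← hm, ← Ideal.map_pow]; exact Ideal.mem_map_of_mem _ he
    rw [show z = (p * φ c + q * φ d) + (z - (p * φ c + q * φ d)) by ring]
    refine Submodule.add_mem_sup (Ideal.mem_span_pair.mpr ⟨p, q, rfl⟩) ?_
    have hd2 : z - (p * φ c + q * φ d) ∈ maximalIdeal (FormalNode K) ^ 2 :=
      sub_mem hz (add_mem (Ideal.mul_mem_left _ p (hφ2 c hc)) (Ideal.mul_mem_left _ q (hφ2 d hd)))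
    have h2 : ∀ i, PowerSeries.coeff 2 (nodeAxis i (z - (p * φ c + q * φ d))) = 0 := by
      intro i
      simp only [map_sub, map_add, map_mul, p, q, hC, PowerSeries.coeff_C_mul]
      rw [div_mul_eq_mul_div, div_mul_eq_mul_div, ← add_div, sub_eq_zero, eq_div_iff hne, hD]
      obtain rfl | rfl : i = 0 ∨ i = 1 := by omega
      all_goals ring
    exact mem_pow_three_of_coeff hd2 h2
  obtain ⟨σ, π₀, hQ⟩ : ∃ σ π₀ : k, b * b - algebraMap k A σ * (a * b) + algebraMap k A π₀ * (a * a) ∈ maximalIdeal A ^ 3 ∨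
      a * b - algebraMap k A π₀ * (a * a) ∈ maximalIdeal A ^ 3 := by
    have hmul : ∀ x y, x ∈ maximalIdeal A → y ∈ maximalIdeal A → x * y ∈ maximalIdeal A ^ 2 := fun x y hx hy => by
      rw [pow_two]; exact Ideal.mul_mem_mul hx hy
    have red : ∀ c d w : A, c ∈ maximalIdeal A ^ 2 → d ∈ maximalIdeal A ^ 2 → w ∈ Ideal.span {c, d} ⊔ maximalIdeal A ^ 3 →
        ∃ p q : k, w - algebraMap k A p * c - algebraMap k A q * d ∈ maximalIdeal A ^ 3 := by
      intro c d w hc hd hw
      obtain ⟨s, hs, t, ht, rfl⟩ := Submodule.mem_sup.mp hw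
      obtain ⟨r, r', rfl⟩ := Ideal.mem_span_pair.mp hs
      obtain ⟨p, hp⟩ := hconst r
      obtain ⟨q, hq⟩ := hconst r'
      refine ⟨p, q, ?_⟩
      rw [show r * c + r' * d + t - algebraMap k A p * c - algebraMap k A q * d =
        (r - algebraMap k A p) * c + (r' - algebraMap k A q) * d + t by ring, pow_succ']
      refine add_mem (add_mem (Ideal.mul_mem_mul hp hc) (Ideal.mul_mem_mul hq hd)) ?_
      rw [← pow_succ']
      exact ht
    by_cases h01 : axLin 0 (φ a) ≠ 0 ∧ axLin 1 (φ a) ≠ 0
    · have := hpair (a * a) (a * b) (hmul _ _ ha ha) (hmul _ _ ha hb) (by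
        rw [map_mul φ, map_mul φ, axCoeff_two_mul 0 hxm hxm, axCoeff_two_mul 1 hxm hym, axCoeff_two_mul 1 hxm hxm,
          axCoeff_two_mul 0 hxm hym]
        intro h
        refine hdet ((mul_eq_zero.mp (show axLin 0 (φ a) * axLin 1 (φ a) * (axLin 0 (φ a) * axLin 1 (φ b) -
          axLin 1 (φ a) * axLin 0 (φ b)) = 0 by linear_combination h)).resolve_left (mul_ne_zero h01.1 h01.2)))
      obtain ⟨p, q, h⟩ := red _ _ (b * b) (hmul _ _ ha ha) (hmul _ _ ha hb) (this (hmul _ _ hb hb))
      refine ⟨q, -p, Or.inl ?_⟩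
      rw [map_neg]
      convert h using 1
      ring
    · have := hpair (a * a) (b * b) (hmul _ _ ha ha) (hmul _ _ hb hb) (by
        rw [map_mul φ, map_mul φ, axCoeff_two_mul 0 hxm hxm, axCoeff_two_mul 1 hym hym, axCoeff_two_mul 1 hxm hxm,
          axCoeff_two_mul 0 hym hym]
        intro h
        have hsq : (axLin 0 (φ a) * axLin 1 (φ b) - axLin 1 (φ a) * axLin 0 (φ b)) *
            (axLin 0 (φ a) * axLin 1 (φ b) + axLin 1 (φ a) * axLin 0 (φ b)) = 0 := by linear_combination h
        have hsum := (mul_eq_zero.mp hsq).resolve_left hdet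
        rcases (show axLin 0 (φ a) = 0 ∨ axLin 1 (φ a) = 0 by tauto) with h0 | h0
        · rw [h0] at hsum hdet
          exact hdet (by linear_combination -hsum)
        · rw [h0] at hsum hdet
          exact hdet (by linear_combination hsum))
      obtain ⟨p, q, h⟩ := red _ _ (a * b) (hmul _ _ ha ha) (hmul _ _ hb hb) (this (hmul _ _ ha hb))
      by_cases hq : q = 0
      · exact ⟨0, p, Or.inr (by simpa [hq] using h)⟩
      · refine ⟨q⁻¹, p / q, Or.inl ?_⟩
        have h' := Ideal.mul_mem_left _ (-algebraMap k A q⁻¹) h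
        have e : algebraMap k A q⁻¹ * algebraMap k A q = 1 := by rw [← map_mul, inv_mul_cancel₀ hq, map_one]
        rw [show -algebraMap k A q⁻¹ * (a * b - algebraMap k A p * (a * a) - algebraMap k A q * (b * b)) =
          b * b - algebraMap k A q⁻¹ * (a * b) + algebraMap k A (p / q) * (a * a) by
            rw [div_eq_mul_inv, map_mul]; linear_combination (b * b) * e] at h'
        exact h'
  obtain ⟨u, v, huv3, hspan⟩ : ∃ u v : A, u * v ∈ maximalIdeal A ^ 3 ∧ maximalIdeal A = Ideal.span {u, v} := by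
    rcases hQ with hQ | hQ
    · obtain ⟨r, hr⟩ := IsAlgClosed.exists_root (Polynomial.X ^ 2 - Polynomial.C σ * Polynomial.X + Polynomial.C π₀)
        (by
          have hdeg : (Polynomial.X ^ 2 - Polynomial.C σ * Polynomial.X + Polynomial.C π₀).degree = 2 := by compute_degree!
          rw [hdeg]
          decide)
      simp [Polynomial.IsRoot] at hr
      let s := σ - r
      have h0 : algebraMap k A π₀ = algebraMap k A r * algebraMap k A s := by
        rw [← map_mul]; congr 1; linear_combination hr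
      have hs : algebraMap k A σ = algebraMap k A r + algebraMap k A s := by rw [← map_add, add_sub_cancel]
      refine ⟨b - algebraMap k A r * a, b - algebraMap k A s * a, ?_, ?_⟩
      · convert hQ using 1
        rw [h0, hs]; ring
      · have hrs : r - s ≠ 0 := by
          intro e
          rw [sub_eq_zero] at e
          have h3 : φ (b - algebraMap k A r * a) * φ (b - algebraMap k A r * a) ∈ maximalIdeal (FormalNode K) ^ 3 := by
            rw [← hm, ← Ideal.map_pow, ← map_mul]
            refine Ideal.mem_map_of_mem _ ?_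
            convert hQ using 1
            rw [h0, hs, ← e]; ring
          have hzm : b - algebraMap k A r * a ∈ maximalIdeal A := sub_mem hb (Ideal.mul_mem_left _ _ ha)
          have hl : ∀ i, axLin i (φ b) = axConst i (φ (algebraMap k A r)) * axLin i (φ a) := fun i => by
            have := axLin_eq_zero_of_sq i (map_mem_max hm hzm) h3
            rw [← axLin_mul i _ hxm]
            have e2 : φ b = φ (b - algebraMap k A r * a) + φ (algebraMap k A r) * φ a := by
              rw [map_sub, map_mul]; ring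
            rw [e2, axLin_add, this, zero_add]
          have hc : axConst 0 (φ (algebraMap k A r)) = axConst 1 (φ (algebraMap k A r)) := by
            obtain ⟨c, hc⟩ := sub_C_mem_maximalIdeal (φ (algebraMap k A r))
            have : ∀ i, axConst i (φ (algebraMap k A r)) = axConst i (Ideal.Quotient.mk _ (MvPowerSeries.C c)) := fun i => by
              have := axConst_eq_zero i hc
              simp only [axConst, map_sub] at this ⊢
              exact sub_eq_zero.mp this
            rw [this 0, this 1]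
            simp [axConst, nodeAxis_mk, axisSeries, ← PowerSeries.coeff_zero_eq_constantCoeff_apply]
          exact hdet (by rw [hl 0, hl 1, hc]; ring)
        refine le_antisymm ?_ (Ideal.span_le.mpr (Set.pair_subset (sub_mem hb (Ideal.mul_mem_left _ _ ha))
          (sub_mem hb (Ideal.mul_mem_left _ _ ha))))
        have e : algebraMap k A (r - s)⁻¹ * (algebraMap k A r - algebraMap k A s) = 1 := by
          rw [← map_sub, ← map_mul, inv_mul_cancel₀ hrs, map_one]
        have hamem : a ∈ Ideal.span {b - algebraMap k A r * a, b - algebraMap k A s * a} :=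
          Ideal.mem_span_pair.mpr ⟨-algebraMap k A (r - s)⁻¹, algebraMap k A (r - s)⁻¹, by linear_combination a * e⟩
        rw [hgen, Ideal.span_le]
        refine Set.pair_subset hamem ?_
        have h5 : (b - algebraMap k A r * a) + algebraMap k A r * a ∈
            Ideal.span {b - algebraMap k A r * a, b - algebraMap k A s * a} :=
          add_mem (Ideal.subset_span (Or.inl rfl)) (Ideal.mul_mem_left _ _ hamem)
        rwa [sub_add_cancel] at h5
    · refine ⟨a, b - algebraMap k A π₀ * a, by convert hQ using 1; ring, ?_⟩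
      rw [hgen]
      refine le_antisymm (Ideal.span_le.mpr (Set.pair_subset (Ideal.subset_span (Or.inl rfl)) ?_))
        (Ideal.span_le.mpr (Set.pair_subset (Ideal.subset_span (Or.inl rfl)) ?_))
      · exact Ideal.mem_span_pair.mpr ⟨algebraMap k A π₀, 1, by ring⟩
      · exact Ideal.mem_span_pair.mpr ⟨-algebraMap k A π₀, 1, by ring⟩
  let Ah := AdicCompletion (maximalIdeal A) A
  haveI : IsNoetherianRing Ah := RegLoc.AdicNoeth.isNoetherianRing_adicCompletion _ (IsNoetherian.noetherian _)
  have hmax : maximalIdeal Ah = (maximalIdeal A).map (algebraMap A Ah) := AdicCompletion.maximalIdeal_eq_map (R := A)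
  obtain ⟨u', v', h1, h2, h3, h4⟩ := exists_prod_zero (u := algebraMap A Ah u) (v := algebraMap A Ah v)
    (by rw [hmax, congrArg (Ideal.map (algebraMap A Ah)) hspan, Ideal.map_span, Set.image_pair])
    (by rw [hmax, ← Ideal.map_pow, ← map_mul]; exact Ideal.mem_map_of_mem _ huv3)
  have hum : u ∈ maximalIdeal A := hspan ▸ Ideal.subset_span (Or.inl rfl)
  have hvm : v ∈ maximalIdeal A := hspan ▸ Ideal.subset_span (Or.inr rfl)
  exact isOrdDoublePt_of_completion_gens hres u' v' h1 h2 u v h3 h4
    (fun n hn => pow_not_le_of_map hm hn hum) (fun n hn => pow_not_le_of_map hm hn hvm)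

/-- Ascent along a flat local map preserving the maximal ideal. -/
theorem isOrdDoublePt_of_map_maximalIdeal {K : Type u} [Field K] {B : Type u} [CommRing B] [IsLocalRing B]
    [IsNoetherianRing B] [Algebra K B] [Algebra A B] [IsLocalHom (algebraMap A B)] [Module.Flat A B]
    (hB : (maximalIdeal A).map (algebraMap A B) = maximalIdeal B)
    (hres : Function.Surjective ((residue B).comp (algebraMap K B))) (h : Curv2.IsOrdDoublePt k A) :
    Curv2.IsOrdDoublePt K B := by
  obtain ⟨e, -⟩ := h
  let Ah := AdicCompletion (maximalIdeal A) A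
  let Bh := AdicCompletion (maximalIdeal B) B
  haveI : IsLocalHom e.toRingHom := ⟨fun a ha => (isLocalHom_equiv e).map_nonunit a ha⟩
  letI : Algebra A (FormalNode k) := (e.toRingHom.comp (algebraMap A Ah)).toAlgebra
  have hm : (maximalIdeal A).map (algebraMap A (FormalNode k)) = maximalIdeal (FormalNode k) := by
    show (maximalIdeal A).map (e.toRingHom.comp (algebraMap A Ah)) = _
    rw [← Ideal.map_map, ← AdicCompletion.maximalIdeal_eq_map (R := A)]
    exact eq_maximalIdeal (Ideal.map_isMaximal_of_equiv e)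
  obtain ⟨χ, hχ⟩ := exists_completionHom A B
  have hχm : (maximalIdeal Ah).map χ = maximalIdeal Bh := by
    rw [AdicCompletion.maximalIdeal_eq_map (R := A), Ideal.map_map, show χ.comp (algebraMap A Ah) =
      (algebraMap B Bh).comp (algebraMap A B) from RingHom.ext hχ, ← Ideal.map_map, hB,
      ← AdicCompletion.maximalIdeal_eq_map (R := B)]
  let x : Fin 2 → Ah := fun i => e.symm (gen i)
  have hx : maximalIdeal Ah = Ideal.span {x 0, x 1} := by
    rw [← eq_maximalIdeal (Ideal.map_isMaximal_of_equiv e.symm (p := maximalIdeal (FormalNode k))),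
      maximalIdeal_formalNode, Ideal.map_span, Set.image_pair]
  have happ : ∀ i, ∃ a ∈ maximalIdeal A, x i - algebraMap A Ah a ∈ maximalIdeal Ah ^ 2 := fun i => by
    obtain ⟨a, ha⟩ := exists_sub_mem_sq e (gen i)
    have h1 := Ideal.mem_map_of_mem e.symm.toRingHom ha
    rw [Ideal.map_pow] at h1
    have hle : (maximalIdeal (FormalNode k)).map e.symm.toRingHom = maximalIdeal Ah :=
      eq_maximalIdeal (Ideal.map_isMaximal_of_equiv e.symm)
    rw [hle] at h1
    simp only [RingEquiv.toRingHom_eq_coe, RingHom.coe_coe, map_sub, RingEquiv.symm_apply_apply] at h1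
    refine ⟨a, ?_, h1⟩
    refine (mem_maximalIdeal _).mpr fun hu => ?_
    have h2 : x i ∈ maximalIdeal Ah := by
      rw [hx]; fin_cases i
      · exact Ideal.subset_span (Or.inl rfl)
      · exact Ideal.subset_span (Or.inr rfl)
    have h3 : x i - (x i - algebraMap A Ah a) ∈ maximalIdeal Ah := sub_mem h2 (Ideal.pow_le_self two_ne_zero h1)
    rw [sub_sub_cancel] at h3
    exact (mem_maximalIdeal _).mp h3 (hu.map (algebraMap A Ah))
  choose a ha hxa using happ
  haveI : Module.FaithfullyFlat A B := Module.FaithfullyFlat.of_flat_of_isLocalHom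
  refine isOrdDoublePt_of_completion_gens hres (χ (x 0)) (χ (x 1))
    (by rw [← map_mul, ← map_mul, gen_mul (by simp), map_zero, map_zero])
    (by rw [← hχm, hx, Ideal.map_span, Set.image_pair]) (algebraMap A B (a 0)) (algebraMap A B (a 1)) ?_ ?_ ?_ ?_
  pick_goal 3
  · intro n hn h
    refine pow_not_le_of_map hm hn (ha 0) ?_
    rw [← Ideal.comap_map_eq_self_of_faithfullyFlat (B := B) (Ideal.span {a 0 ^ n} ⊔ maximalIdeal A ^ (n + 1)),
      ← Ideal.map_le_iff_le_comap, Ideal.map_sup, Ideal.map_span, Set.image_singleton, map_pow, Ideal.map_pow,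
      Ideal.map_pow, hB]
    exact h
  pick_goal 3
  · intro n hn h
    refine pow_not_le_of_map hm hn (ha 1) ?_
    rw [← Ideal.comap_map_eq_self_of_faithfullyFlat (B := B) (Ideal.span {a 1 ^ n} ⊔ maximalIdeal A ^ (n + 1)),
      ← Ideal.map_le_iff_le_comap, Ideal.map_sup, Ideal.map_span, Set.image_singleton, map_pow, Ideal.map_pow,
      Ideal.map_pow, hB]
    exact h
  all_goals
    rw [← hχ, ← map_sub, ← hχm, ← Ideal.map_pow]
    exact Ideal.mem_map_of_mem _ (hxa _)

end Groth.Agent.StrictSSLib
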