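import Groth.Agent.StrictSSLib.NodeNotRegular
import Groth.Agent.StrictSSLib.OdpDescentMain
import Groth.Agent.StrictSSLib.BcPoints

/-!
# Ordinary double points under extensions of algebraically closed fields
-/

set_option autoImplicit false
set_option linter.style.haveILetI false
set_option maxSynthPendingDepth 4

universe u

open CategoryTheory CategoryTheory.Limits AlgebraicGeometry IsLocalRing
open scoped TensorProduct

noncomputable section

namespace Groth.Agent.StrictSSLib

variable {k K : Type u} [Field k] [Field K] [Algebra k K]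

/-- An affine chart of the base change of fields around a point, at the level of local rings. -/
theorem exists_stalk_chart {C Y : Scheme.{u}} {φ : C ⟶ Spec (CommRingCat.of k)} [LocallyOfFiniteType φ]
    {P : Y ⟶ C} {π : Y ⟶ Spec (CommRingCat.of K)}
    (hpb : IsPullback P π φ (Spec.map (CommRingCat.ofHom (algebraMap k K)))) (y : Y) :
    ∃ (R : Type u) (_ : CommRing R) (_ : Algebra k R) (toA : R →+* C.presheaf.stalk (P y))
      (toB : R ⊗[k] K →+* Y.presheaf.stalk y), Algebra.FiniteType k R ∧
      toA.comp (algebraMap k R) = strMap φ (P y) ∧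
      (∀ r, toB (r ⊗ₜ 1) = P.stalkMap y (toA r)) ∧ (∀ γ, toB (1 ⊗ₜ γ) = strMap π y γ) ∧
      ∀ b, ∃ r s, IsUnit (toB s) ∧ b * toB s = toB r := by
  haveI : LocallyOfFiniteType π := MorphismProperty.of_isPullback hpb inferInstance
  haveI : IsLocallyNoetherian Y := LocallyOfFiniteType.isLocallyNoetherian π
  haveI : Flat P := MorphismProperty.of_isPullback (P := @Flat) hpb.flip inferInstance
  obtain ⟨U, hU, hxU, -⟩ := exists_isAffineOpen_mem_and_subset (x := P y) (U := ⊤) trivial
  let R := Γ(C, U)
  letI algR : Algebra k R := (Coh.toGlobal φ |> (C.presheaf.map (homOfLE (le_top (a := U))).op).hom.comp).toAlgebra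
  let g : Spec R ⟶ C := hU.fromSpec
  have hg : g ≫ φ = Spec.map (CommRingCat.ofHom (algebraMap k R)) := by
    have h0 := IsAffineOpen.SpecMap_appLE_fromSpec φ (isAffineOpen_top (Spec (CommRingCat.of k))) hU (show U ≤ φ ⁻¹ᵁ ⊤ from le_top)
    rw [IsAffineOpen.fromSpec_top, Scheme.isoSpec_Spec_inv, ← Spec.map_comp] at h0
    exact h0.symm
  haveI : Algebra.FiniteType k R := by
    have h0 := LocallyOfFiniteType.finiteType_appLE (f := φ) (isAffineOpen_top (Spec (CommRingCat.of k))) hU (show U ≤ φ ⁻¹ᵁ ⊤ from le_top)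
    exact h0.comp (RingHom.FiniteType.of_surjective _
      ((ConcreteCategory.isIso_iff_bijective (Scheme.ΓSpecIso (CommRingCat.of k)).inv).mp inferInstance).2)
  let iL : CommRingCat.of R ⟶ CommRingCat.of (R ⊗[k] K) := CommRingCat.ofHom Algebra.TensorProduct.includeLeftRingHom
  let iR : CommRingCat.of K ⟶ CommRingCat.of (R ⊗[k] K) :=
    CommRingCat.ofHom (Algebra.TensorProduct.includeRight.toRingHom : K →+* R ⊗[k] K)
  have h1 : IsPullback (Spec.map iL) (Spec.map iR) (Spec.map (CommRingCat.ofHom (algebraMap k R)))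
      (Spec.map (CommRingCat.ofHom (algebraMap k K))) :=
    isPullback_SpecMap_of_isPushout _ _ _ _ (CommRingCat.isPushout_tensorProduct k R K)
  rw [← hg] at h1
  let g' : Spec (CommRingCat.of (R ⊗[k] K)) ⟶ Y :=
    hpb.lift (Spec.map iL ≫ g) (Spec.map iR) (by rw [Category.assoc]; exact h1.w)
  have hg'P : g' ≫ P = Spec.map iL ≫ g := hpb.lift_fst _ _ _
  have hg'π : g' ≫ π = Spec.map iR := hpb.lift_snd _ _ _
  have hsq : IsPullback g' (Spec.map iL) P g := by
    refine IsPullback.of_right ?_ hg'P hpb.flip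
    rw [hg'π]
    exact h1.flip
  haveI : IsOpenImmersion g' := MorphismProperty.of_isPullback (P := @IsOpenImmersion) hsq.flip inferInstance
  obtain ⟨t, ht⟩ : P y ∈ Set.range g := by rw [hU.range_fromSpec]; exact hxU
  obtain ⟨z, hz, -⟩ := Scheme.Pullback.exists_preimage_pullback (f := P) (g := g) y t ht.symm
  obtain ⟨p, rfl⟩ : ∃ p, g' p = y :=
    ⟨hsq.isoPullback.inv z, by rw [← Scheme.Hom.comp_apply, hsq.isoPullback_inv_fst]; exact hz⟩
  let S := (Spec (CommRingCat.of (R ⊗[k] K))).presheaf.stalk p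
  let σ := asIso (g'.stalkMap p)
  let toB : R ⊗[k] K →+* Y.presheaf.stalk (g' p) :=
    σ.inv.hom.comp (StructureSheaf.toStalk (R ⊗[k] K) p).hom
  refine ⟨R, inferInstance, inferInstance, (C.presheaf.germ U _ hxU).hom, toB, inferInstance, ?_, ?_, ?_, ?_⟩
  · refine RingHom.ext fun c => ?_
    exact TopCat.Presheaf.germ_res_apply C.presheaf (homOfLE (le_top (a := U))) _ hxU _
  · intro r
    show σ.inv ((StructureSheaf.toStalk (R ⊗[k] K) p).hom (iL r)) = P.stalkMap (g' p) (C.presheaf.germ U _ hxU r)
    have hx1 : (g' ≫ P) p ∈ U := hxU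
    have hx2 : (Spec.map iL ≫ g) p ∈ U := hg'P ▸ hx1
    have key : σ.hom (P.stalkMap (g' p) (C.presheaf.germ U _ hxU r)) = (StructureSheaf.toStalk (R ⊗[k] K) p).hom (iL r) := by
      refine Eq.trans ?_ (((germ_app_congr hg'P U p hx1 hx2 r)).trans (germ_app_SpecMap_fromSpec hU iL p hx2 r))
      show g'.stalkMap p (P.stalkMap (g' p) (C.presheaf.germ U (P (g' p)) hxU r)) = _
      rw [Scheme.Hom.germ_stalkMap_apply P U (g' p) hxU, Scheme.Hom.germ_stalkMap_apply g' (P ⁻¹ᵁ U) p hxU]
      rfl
    rw [← key, ← CategoryTheory.comp_apply, Iso.hom_inv_id]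
    rfl
  · intro γ
    have key : σ.hom (strMap π (g' p) γ) = (StructureSheaf.toStalk (R ⊗[k] K) p).hom (iR γ) := by
      have := DFunLike.congr_fun (strMap_comp g' π p) γ
      rw [hg'π, strMap_SpecMap] at this
      exact this.symm
    show σ.inv ((StructureSheaf.toStalk (R ⊗[k] K) p).hom (iR γ)) = _
    rw [← key, ← CategoryTheory.comp_apply, Iso.hom_inv_id]
    rfl
  · intro b
    letI algS : Algebra (R ⊗[k] K) S := (StructureSheaf.toStalk (R ⊗[k] K) p).hom.toAlgebra
    haveI : p.asIdeal.IsPrime := p.isPrime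
    haveI : IsLocalization.AtPrime S p.asIdeal := StructureSheaf.IsLocalization.to_stalk (R ⊗[k] K) p
    obtain ⟨⟨r, s⟩, hrs⟩ := IsLocalization.surj p.asIdeal.primeCompl (σ.hom b)
    refine ⟨r, s, (IsLocalization.map_units S s).map σ.inv.hom, ?_⟩
    show b * σ.inv (algebraMap (R ⊗[k] K) S s) = σ.inv (algebraMap (R ⊗[k] K) S r)
    rw [← hrs, map_mul, ← CategoryTheory.comp_apply, Iso.hom_inv_id]
    rfl

/-- Over a rational point the maximal ideal extends to the maximal ideal. -/
theorem map_maximalIdeal_of_rational {C Y : Scheme.{u}} {φ : C ⟶ Spec (CommRingCat.of k)} [LocallyOfFiniteType φ]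
    {P : Y ⟶ C} {π : Y ⟶ Spec (CommRingCat.of K)}
    (hpb : IsPullback P π φ (Spec.map (CommRingCat.ofHom (algebraMap k K)))) (y : Y)
    (hres : Function.Surjective ((residue (C.presheaf.stalk (P y))).comp (strMap φ (P y)))) :
    (maximalIdeal (C.presheaf.stalk (P y))).map (P.stalkMap y).hom = maximalIdeal (Y.presheaf.stalk y) := by
  refine le_antisymm (((local_hom_TFAE (P.stalkMap y).hom).out 0 2 rfl rfl).mp inferInstance) fun b hb => ?_
  obtain ⟨R, _, _, toA, toB, -, hA, hBA, hBK, hsurj⟩ := exists_stalk_chart hpb y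
  set J := (maximalIdeal (C.presheaf.stalk (P y))).map (P.stalkMap y).hom with hJ
  have hdec : ∀ z, ∃ γ, toB z - strMap π y γ ∈ J := by
    intro z
    induction z using TensorProduct.induction_on with
    | zero => exact ⟨0, by rw [map_zero, map_zero, sub_zero]; exact zero_mem _⟩
    | tmul r γ =>
      obtain ⟨c, hc⟩ := hres (residue _ (toA r))
      refine ⟨algebraMap k K c * γ, ?_⟩
      have h1 : P.stalkMap y (toA r - strMap φ (P y) c) ∈ J := Ideal.mem_map_of_mem _ (Ideal.Quotient.eq.mp hc.symm)
      rw [show r ⊗ₜ[k] γ = (r ⊗ₜ 1) * (1 ⊗ₜ γ) by rw [Algebra.TensorProduct.tmul_mul_tmul, mul_one, one_mul],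
        map_mul toB, hBA, hBK, map_mul, ← sub_mul]
      refine Ideal.mul_mem_right _ _ ?_
      rw [map_sub] at h1
      have e : strMap π y (algebraMap k K c) = P.stalkMap y (strMap φ (P y) c) := by
        rw [← hA, RingHom.comp_apply, ← hBA, ← hBK]
        refine congrArg toB ?_
        exact ((Algebra.TensorProduct.includeRight : K →ₐ[k] R ⊗[k] K).commutes c).trans
          ((Algebra.TensorProduct.includeLeft : R →ₐ[k] R ⊗[k] K).commutes c).symm
      rw [e]
      exact h1
    | add x z hx hz =>
      obtain ⟨a, ha⟩ := hx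
      obtain ⟨c, hc⟩ := hz
      refine ⟨a + c, ?_⟩
      rw [map_add, map_add, add_sub_add_comm]
      exact add_mem ha hc
  obtain ⟨r, s, hs, hbs⟩ := hsurj b
  obtain ⟨γ, hγ⟩ := hdec r
  have hJle : J ≤ maximalIdeal (Y.presheaf.stalk y) := ((local_hom_TFAE (P.stalkMap y).hom).out 0 2 rfl rfl).mp inferInstance
  have hγ0 : γ = 0 := by
    by_contra h
    have h2 : strMap π y γ ∈ maximalIdeal (Y.presheaf.stalk y) := by
      rw [show strMap π y γ = b * toB s - (toB r - strMap π y γ) by rw [hbs]; ring]
      exact sub_mem (Ideal.mul_mem_right _ _ hb) (hJle hγ)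
    exact (mem_maximalIdeal _).mp h2 ((IsUnit.mk0 γ h).map _)
  rw [hγ0, map_zero, sub_zero, ← hbs] at hγ
  exact (Ideal.mul_unit_mem_iff_mem J hs).mp hγ

/-- Ordinary double points over algebraically closed fields do not depend on the field. -/
theorem isOdpAt_iff_of_extension [IsAlgClosed k] [IsAlgClosed K] {C Y : Scheme.{u}} {φ : C ⟶ Spec (CommRingCat.of k)}
    [LocallyOfFiniteType φ] {P : Y ⟶ C} {π : Y ⟶ Spec (CommRingCat.of K)}
    (hpb : IsPullback P π φ (Spec.map (CommRingCat.ofHom (algebraMap k K)))) (y : Y)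
    (hx : IsClosed ({P y} : Set C)) : IsOdpAt φ (P y) ↔ IsOdpAt π y := by
  haveI : LocallyOfFiniteType π := MorphismProperty.of_isPullback hpb inferInstance
  haveI : IsLocallyNoetherian Y := LocallyOfFiniteType.isLocallyNoetherian π
  haveI : IsLocallyNoetherian C := LocallyOfFiniteType.isLocallyNoetherian φ
  haveI : Flat P := MorphismProperty.of_isPullback (P := @Flat) hpb.flip inferInstance
  let A := C.presheaf.stalk (P y)
  let B := Y.presheaf.stalk y
  letI : Algebra k A := (strMap φ (P y)).toAlgebra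
  letI : Algebra K B := (strMap π y).toAlgebra
  letI : Algebra A B := (P.stalkMap y).hom.toAlgebra
  haveI : IsLocalHom (algebraMap A B) := inferInstanceAs <| IsLocalHom (P.stalkMap y).hom
  haveI : Module.Flat A B := RingHom.flat_algebraMap_iff.mp (Flat.stalkMap P y)
  have hresA : Function.Surjective ((residue A).comp (algebraMap k A)) := residue_surjective_of_isClosed φ hx
  have hresB : Function.Surjective ((residue B).comp (algebraMap K B)) :=
    residue_surjective_of_isClosed π (isClosed_singleton_of_over_closed hpb hx)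
  have hm : (maximalIdeal A).map (algebraMap A B) = maximalIdeal B := map_maximalIdeal_of_rational hpb y hresA
  constructor
  · intro h
    exact isOrdDoublePt_of_map_maximalIdeal (k := k) hm hresB h
  · rintro ⟨e, -⟩
    haveI : IsLocalHom e.toRingHom := ⟨fun a ha => (isLocalHom_equiv e).map_nonunit a ha⟩
    let toN : B →+* FormalNode K := e.toRingHom.comp (algebraMap B (AdicCompletion (maximalIdeal B) B))
    letI : Algebra A (FormalNode K) := (toN.comp (algebraMap A B)).toAlgebra
    haveI : IsLocalHom toN := RingHom.isLocalHom_comp _ _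
    haveI : IsLocalHom (algebraMap A (FormalNode K)) := RingHom.isLocalHom_comp toN (algebraMap A B)
    haveI : Module.Flat A (FormalNode K) := RingHom.flat_algebraMap_iff.mp
      ((RingHom.flat_algebraMap_iff.mpr inferInstance).comp
        ((RingHom.flat_algebraMap_iff.mpr inferInstance).comp (RingHom.Flat.of_bijective e.bijective)))
    refine isOrdDoublePt_of_map_node (K := K) hresA ?_
    show (maximalIdeal A).map (toN.comp (algebraMap A B)) = _
    rw [← Ideal.map_map, hm, ← Ideal.map_map, ← AdicCompletion.maximalIdeal_eq_map (R := B)]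
    exact eq_maximalIdeal (Ideal.map_isMaximal_of_equiv e)

end Groth.Agent.StrictSSLib
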